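-- helper64: explicit data in SU_3(5): the 36 isotropic points of an orbit of 3.M_10, the
-- Heisenberg generators hd, hs (generating a Sylow 3-subgroup of order 27), generators f1, f2
-- of a Q_8 normalising it, an element z of 3.M_10 not normalising it, and w outside 3.M_10.
-- Machine generated; all facts are checked by the kernel via `decide`.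
import Cfsg.Agent.Helper64.SU3Base

set_option autoImplicit false
set_option maxRecDepth 100000
open Matrix

namespace Cfsg.Agent.Helper64.SU3.D25M

open Cfsg.Agent.Helper64.SU3

def sigL : List (Fin 3 → K25) := [![⟨1, 0⟩, ⟨1, 0⟩, ⟨2, 1⟩],
  ![⟨1, 0⟩, ⟨1, 0⟩, ⟨4, 1⟩],
  ![⟨1, 0⟩, ⟨1, 0⟩, ⟨1, 2⟩],
  ![⟨1, 0⟩, ⟨1, 0⟩, ⟨3, 4⟩],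
  ![⟨1, 0⟩, ⟨0, 1⟩, ⟨2, 1⟩],
  ![⟨1, 0⟩, ⟨0, 1⟩, ⟨1, 2⟩],
  ![⟨1, 0⟩, ⟨0, 1⟩, ⟨4, 3⟩],
  ![⟨1, 0⟩, ⟨0, 1⟩, ⟨1, 4⟩],
  ![⟨1, 0⟩, ⟨2, 1⟩, ⟨1, 0⟩],
  ![⟨1, 0⟩, ⟨2, 1⟩, ⟨0, 1⟩],
  ![⟨1, 0⟩, ⟨3, 1⟩, ⟨3, 1⟩],
  ![⟨1, 0⟩, ⟨3, 1⟩, ⟨4, 2⟩],
  ![⟨1, 0⟩, ⟨4, 1⟩, ⟨1, 0⟩],
  ![⟨1, 0⟩, ⟨4, 1⟩, ⟨4, 4⟩],
  ![⟨1, 0⟩, ⟨1, 2⟩, ⟨1, 0⟩],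
  ![⟨1, 0⟩, ⟨1, 2⟩, ⟨0, 1⟩],
  ![⟨1, 0⟩, ⟨3, 2⟩, ⟨3, 2⟩],
  ![⟨1, 0⟩, ⟨3, 2⟩, ⟨4, 2⟩],
  ![⟨1, 0⟩, ⟨4, 2⟩, ⟨3, 1⟩],
  ![⟨1, 0⟩, ⟨4, 2⟩, ⟨3, 2⟩],
  ![⟨1, 0⟩, ⟨1, 3⟩, ⟨1, 3⟩],
  ![⟨1, 0⟩, ⟨1, 3⟩, ⟨2, 4⟩],
  ![⟨1, 0⟩, ⟨2, 3⟩, ⟨2, 3⟩],
  ![⟨1, 0⟩, ⟨2, 3⟩, ⟨2, 4⟩],
  ![⟨1, 0⟩, ⟨4, 3⟩, ⟨0, 1⟩],
  ![⟨1, 0⟩, ⟨4, 3⟩, ⟨4, 4⟩],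
  ![⟨1, 0⟩, ⟨1, 4⟩, ⟨0, 1⟩],
  ![⟨1, 0⟩, ⟨1, 4⟩, ⟨4, 4⟩],
  ![⟨1, 0⟩, ⟨2, 4⟩, ⟨1, 3⟩],
  ![⟨1, 0⟩, ⟨2, 4⟩, ⟨2, 3⟩],
  ![⟨1, 0⟩, ⟨3, 4⟩, ⟨1, 0⟩],
  ![⟨1, 0⟩, ⟨3, 4⟩, ⟨4, 4⟩],
  ![⟨1, 0⟩, ⟨4, 4⟩, ⟨4, 1⟩],
  ![⟨1, 0⟩, ⟨4, 4⟩, ⟨4, 3⟩],
  ![⟨1, 0⟩, ⟨4, 4⟩, ⟨1, 4⟩],
  ![⟨1, 0⟩, ⟨4, 4⟩, ⟨3, 4⟩]]
def sig (i : ℕ) : Fin 3 → K25 := sigL.getD i 0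
def hd : Matrix (Fin 3) (Fin 3) K25 := !![⟨1, 0⟩, ⟨0, 0⟩, ⟨0, 0⟩; ⟨0, 0⟩, ⟨0, 1⟩, ⟨0, 0⟩; ⟨0, 0⟩, ⟨0, 0⟩, ⟨4, 4⟩]
def hd_i : Matrix (Fin 3) (Fin 3) K25 := !![⟨1, 0⟩, ⟨0, 0⟩, ⟨0, 0⟩; ⟨0, 0⟩, ⟨4, 4⟩, ⟨0, 0⟩; ⟨0, 0⟩, ⟨0, 0⟩, ⟨0, 1⟩]
theorem hd_inv : hd_i * hd = 1 := by decide
theorem hd_unitary : hd.transpose * hd.map (fun x => x ^ 5) = 1 := by decide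
theorem hd_det : hd.det = 1 := by decide
theorem hd_pow : hd ^ 3 = 1 := by decide
theorem hd_ne : hd ≠ 1 := by decide
def hd_p : List ℕ := [6, 4, 7, 5, 33, 34, 32, 35, 13, 12, 19, 18, 25, 24, 31, 30, 11, 10, 16, 17, 23, 22, 28, 29, 8, 9, 14, 15, 21, 20, 27, 26, 0, 1, 3, 2]
def hd_c : List K25 := [⟨1, 0⟩, ⟨1, 0⟩, ⟨1, 0⟩, ⟨1, 0⟩, ⟨1, 0⟩, ⟨1, 0⟩, ⟨1, 0⟩, ⟨1, 0⟩, ⟨1, 0⟩, ⟨1, 0⟩, ⟨1, 0⟩, ⟨1, 0⟩, ⟨1, 0⟩, ⟨1, 0⟩, ⟨1, 0⟩, ⟨1, 0⟩, ⟨1, 0⟩, ⟨1, 0⟩, ⟨1, 0⟩, ⟨1, 0⟩, ⟨1, 0⟩, ⟨1, 0⟩, ⟨1, 0⟩, ⟨1, 0⟩, ⟨1, 0⟩, ⟨1, 0⟩, ⟨1, 0⟩, ⟨1, 0⟩, ⟨1, 0⟩, ⟨1, 0⟩, ⟨1, 0⟩, ⟨1, 0⟩, ⟨1, 0⟩, ⟨1, 0⟩, ⟨1, 0⟩, ⟨1, 0⟩]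
theorem hd_sig : ∀ i < 36, hd_p.getD i 0 < 36 ∧ hd_c.getD i 0 ≠ 0 ∧ Matrix.mulVec hd (sig i) = hd_c.getD i 0 • sig (hd_p.getD i 0) := by decide
def hs : Matrix (Fin 3) (Fin 3) K25 := !![⟨0, 0⟩, ⟨0, 0⟩, ⟨1, 0⟩; ⟨1, 0⟩, ⟨0, 0⟩, ⟨0, 0⟩; ⟨0, 0⟩, ⟨1, 0⟩, ⟨0, 0⟩]
def hs_i : Matrix (Fin 3) (Fin 3) K25 := !![⟨0, 0⟩, ⟨1, 0⟩, ⟨0, 0⟩; ⟨0, 0⟩, ⟨0, 0⟩, ⟨1, 0⟩; ⟨1, 0⟩, ⟨0, 0⟩, ⟨0, 0⟩]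
theorem hs_inv : hs_i * hs = 1 := by decide
theorem hs_unitary : hs.transpose * hs.map (fun x => x ^ 5) = 1 := by decide
theorem hs_det : hs.det = 1 := by decide
theorem hs_pow : hs ^ 3 = 1 := by decide
theorem hs_ne : hs ≠ 1 := by decide
def hs_p : List ℕ := [22, 20, 10, 16, 23, 11, 28, 19, 0, 33, 14, 27, 1, 6, 2, 34, 30, 26, 15, 31, 12, 24, 8, 25, 32, 4, 35, 5, 13, 9, 3, 7, 21, 29, 18, 17]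
def hs_c : List K25 := [⟨2, 1⟩, ⟨4, 1⟩, ⟨1, 2⟩, ⟨3, 4⟩, ⟨2, 1⟩, ⟨1, 2⟩, ⟨4, 3⟩, ⟨1, 4⟩, ⟨1, 0⟩, ⟨0, 1⟩, ⟨3, 1⟩, ⟨4, 2⟩, ⟨1, 0⟩, ⟨4, 4⟩, ⟨1, 0⟩, ⟨0, 1⟩, ⟨3, 2⟩, ⟨4, 2⟩, ⟨3, 1⟩, ⟨3, 2⟩, ⟨1, 3⟩, ⟨2, 4⟩, ⟨2, 3⟩, ⟨2, 4⟩, ⟨0, 1⟩, ⟨4, 4⟩, ⟨0, 1⟩, ⟨4, 4⟩, ⟨1, 3⟩, ⟨2, 3⟩, ⟨1, 0⟩, ⟨4, 4⟩, ⟨4, 1⟩, ⟨4, 3⟩, ⟨1, 4⟩, ⟨3, 4⟩]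
theorem hs_sig : ∀ i < 36, hs_p.getD i 0 < 36 ∧ hs_c.getD i 0 ≠ 0 ∧ Matrix.mulVec hs (sig i) = hs_c.getD i 0 • sig (hs_p.getD i 0) := by decide
def f1 : Matrix (Fin 3) (Fin 3) K25 := !![⟨3, 1⟩, ⟨3, 1⟩, ⟨3, 1⟩; ⟨3, 1⟩, ⟨4, 2⟩, ⟨3, 2⟩; ⟨3, 1⟩, ⟨3, 2⟩, ⟨4, 2⟩]
def f1_i : Matrix (Fin 3) (Fin 3) K25 := !![⟨2, 4⟩, ⟨2, 4⟩, ⟨2, 4⟩; ⟨2, 4⟩, ⟨2, 3⟩, ⟨1, 3⟩; ⟨2, 4⟩, ⟨1, 3⟩, ⟨2, 3⟩]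
theorem f1_inv : f1_i * f1 = 1 := by decide
theorem f1_unitary : f1.transpose * f1.map (fun x => x ^ 5) = 1 := by decide
theorem f1_det : f1.det = 1 := by decide
theorem f1_pow : f1 ^ 4 = 1 := by decide
def f1_p : List ℕ := [17, 29, 21, 18, 33, 34, 35, 32, 19, 25, 22, 3, 23, 7, 28, 27, 16, 8, 30, 0, 20, 14, 10, 1, 31, 4, 13, 5, 2, 12, 11, 6, 26, 9, 15, 24]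
def f1_c : List K25 := [⟨1, 1⟩, ⟨2, 3⟩, ⟨2, 2⟩, ⟨1, 3⟩, ⟨2, 2⟩, ⟨3, 3⟩, ⟨1, 3⟩, ⟨1, 2⟩, ⟨1, 1⟩, ⟨2, 2⟩, ⟨4, 1⟩, ⟨1, 4⟩, ⟨2, 3⟩, ⟨2, 4⟩, ⟨2, 2⟩, ⟨3, 3⟩, ⟨2, 0⟩, ⟨0, 1⟩, ⟨1, 4⟩, ⟨0, 1⟩, ⟨3, 0⟩, ⟨0, 3⟩, ⟨4, 2⟩, ⟨3, 4⟩, ⟨1, 3⟩, ⟨0, 3⟩, ⟨1, 2⟩, ⟨0, 2⟩, ⟨0, 3⟩, ⟨3, 4⟩, ⟨1, 3⟩, ⟨1, 4⟩, ⟨2, 4⟩, ⟨0, 3⟩, ⟨0, 2⟩, ⟨1, 4⟩]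
theorem f1_sig : ∀ i < 36, f1_p.getD i 0 < 36 ∧ f1_c.getD i 0 ≠ 0 ∧ Matrix.mulVec f1 (sig i) = f1_c.getD i 0 • sig (f1_p.getD i 0) := by decide
def f2 : Matrix (Fin 3) (Fin 3) K25 := !![⟨3, 1⟩, ⟨3, 1⟩, ⟨3, 2⟩; ⟨3, 1⟩, ⟨4, 2⟩, ⟨4, 2⟩; ⟨4, 2⟩, ⟨3, 1⟩, ⟨4, 2⟩]
def f2_i : Matrix (Fin 3) (Fin 3) K25 := !![⟨2, 4⟩, ⟨2, 4⟩, ⟨2, 3⟩; ⟨2, 4⟩, ⟨2, 3⟩, ⟨2, 4⟩; ⟨1, 3⟩, ⟨2, 3⟩, ⟨2, 3⟩]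
theorem f2_inv : f2_i * f2 = 1 := by decide
theorem f2_unitary : f2.transpose * f2.map (fun x => x ^ 5) = 1 := by decide
theorem f2_det : f2.det = 1 := by decide
theorem f2_pow : f2 ^ 4 = 1 := by decide
def f2_p : List ℕ := [10, 16, 22, 20, 34, 33, 35, 32, 7, 18, 24, 23, 5, 14, 6, 29, 9, 0, 1, 28, 15, 2, 26, 11, 17, 30, 21, 12, 19, 3, 4, 8, 31, 27, 25, 13]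
def f2_c : List K25 := [⟨0, 2⟩, ⟨1, 1⟩, ⟨0, 1⟩, ⟨2, 2⟩, ⟨1, 3⟩, ⟨1, 2⟩, ⟨3, 4⟩, ⟨2, 4⟩, ⟨1, 2⟩, ⟨1, 1⟩, ⟨3, 3⟩, ⟨4, 1⟩, ⟨2, 4⟩, ⟨3, 4⟩, ⟨2, 3⟩, ⟨2, 2⟩, ⟨0, 1⟩, ⟨3, 3⟩, ⟨0, 1⟩, ⟨3, 2⟩, ⟨0, 3⟩, ⟨1, 1⟩, ⟨1, 1⟩, ⟨4, 2⟩, ⟨0, 2⟩, ⟨1, 3⟩, ⟨0, 1⟩, ⟨1, 2⟩, ⟨2, 1⟩, ⟨0, 3⟩, ⟨1, 4⟩, ⟨2, 4⟩, ⟨1, 2⟩, ⟨2, 4⟩, ⟨1, 4⟩, ⟨2, 3⟩]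
theorem f2_sig : ∀ i < 36, f2_p.getD i 0 < 36 ∧ f2_c.getD i 0 ≠ 0 ∧ Matrix.mulVec f2 (sig i) = f2_c.getD i 0 • sig (f2_p.getD i 0) := by decide
def z : Matrix (Fin 3) (Fin 3) K25 := !![⟨0, 0⟩, ⟨2, 1⟩, ⟨2, 1⟩; ⟨1, 4⟩, ⟨2, 0⟩, ⟨3, 0⟩; ⟨1, 4⟩, ⟨3, 0⟩, ⟨2, 0⟩]
def z_i : Matrix (Fin 3) (Fin 3) K25 := !![⟨0, 0⟩, ⟨2, 1⟩, ⟨2, 1⟩; ⟨1, 4⟩, ⟨2, 0⟩, ⟨3, 0⟩; ⟨1, 4⟩, ⟨3, 0⟩, ⟨2, 0⟩]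
theorem z_inv : z_i * z = 1 := by decide
theorem z_unitary : z.transpose * z.map (fun x => x ^ 5) = 1 := by decide
theorem z_det : z.det = 1 := by decide
theorem z_pow : z ^ 2 = 1 := by decide
def z_p : List ℕ := [29, 13, 24, 4, 3, 17, 14, 34, 23, 30, 20, 18, 32, 1, 6, 19, 22, 5, 11, 15, 10, 21, 16, 8, 2, 25, 27, 26, 28, 0, 9, 35, 12, 33, 7, 31]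
def z_c : List K25 := [⟨0, 4⟩, ⟨4, 1⟩, ⟨2, 4⟩, ⟨4, 3⟩, ⟨2, 4⟩, ⟨4, 4⟩, ⟨4, 3⟩, ⟨2, 1⟩, ⟨0, 4⟩, ⟨2, 4⟩, ⟨0, 3⟩, ⟨1, 0⟩, ⟨4, 1⟩, ⟨1, 3⟩, ⟨2, 4⟩, ⟨4, 4⟩, ⟨3, 0⟩, ⟨0, 1⟩, ⟨1, 0⟩, ⟨0, 1⟩, ⟨3, 3⟩, ⟨4, 0⟩, ⟨2, 0⟩, ⟨1, 1⟩, ⟨4, 3⟩, ⟨4, 0⟩, ⟨2, 1⟩, ⟨2, 3⟩, ⟨4, 0⟩, ⟨1, 1⟩, ⟨4, 3⟩, ⟨1, 0⟩, ⟨1, 3⟩, ⟨4, 0⟩, ⟨2, 3⟩, ⟨1, 0⟩]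
theorem z_sig : ∀ i < 36, z_p.getD i 0 < 36 ∧ z_c.getD i 0 ≠ 0 ∧ Matrix.mulVec z (sig i) = z_c.getD i 0 • sig (z_p.getD i 0) := by decide
def wm : Matrix (Fin 3) (Fin 3) K25 := !![⟨0, 0⟩, ⟨0, 0⟩, ⟨1, 0⟩; ⟨0, 0⟩, ⟨4, 0⟩, ⟨0, 0⟩; ⟨1, 0⟩, ⟨0, 0⟩, ⟨0, 0⟩]
def wm_i : Matrix (Fin 3) (Fin 3) K25 := !![⟨0, 0⟩, ⟨0, 0⟩, ⟨1, 0⟩; ⟨0, 0⟩, ⟨4, 0⟩, ⟨0, 0⟩; ⟨1, 0⟩, ⟨0, 0⟩, ⟨0, 0⟩]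
theorem wm_inv : wm_i * wm = 1 := by decide
theorem wm_unitary : wm.transpose * wm.map (fun x => x ^ 5) = 1 := by decide
theorem wm_det : wm.det = 1 := by decide
theorem wm_pow : wm ^ 2 = 1 := by decide
theorem wm_not : ∀ j < 36, ∀ c : K25, Matrix.mulVec wm (sig 0) ≠ c • sig j := by decide

end Cfsg.Agent.Helper64.SU3.D25M
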