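import Mathlib
import Cfsg.Agent.Helper64.MetaFrattini

set_option autoImplicit false

namespace Cfsg.Agent.Helper64

section RealAut

variable {G : Type*} [Group G]

/-- If `g h g⁻¹ = c h` and `g` commutes with `c`, then `g^k h g^-k = c^k h`. -/
theorem conj_pow_eq_of_commute (g h c : G) (hgh : g * h * g⁻¹ = c * h) (hc : Commute g c) (k : ℕ) :
    g ^ k * h * (g ^ k)⁻¹ = c ^ k * h := by
  induction k with
  | zero => simp
  | succ k ih =>
    have h2 : g * c ^ k = c ^ k * g := (hc.pow_right k).eq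
    calc g ^ (k + 1) * h * (g ^ (k + 1))⁻¹ = g * (g ^ k * h * (g ^ k)⁻¹) * g⁻¹ := by
          rw [pow_succ']; simp [mul_assoc]
      _ = g * (c ^ k * h) * g⁻¹ := by rw [ih]
      _ = (g * c ^ k) * (h * g⁻¹) := by simp [mul_assoc]
      _ = c ^ k * (g * h * g⁻¹) := by rw [h2]; simp [mul_assoc]
      _ = c ^ (k + 1) * h := by rw [hgh, pow_succ]; simp [mul_assoc]

/-- Coprime action, elementwise: if `g` has odd order and commutes with the commutator
`[g, h]`, which has `2`-power order, then `g` commutes with `h`. -/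
theorem commute_of_commute_comm_of_odd (g h : G) (m j : ℕ) (hm : Odd m) (hg : g ^ m = 1)
    (hc : Commute g (g * h * g⁻¹ * h⁻¹)) (hj : (g * h * g⁻¹ * h⁻¹) ^ (2 ^ j) = 1) :
    Commute g h := by
  have hgh : g * h * g⁻¹ = (g * h * g⁻¹ * h⁻¹) * h := by group
  have h1 := conj_pow_eq_of_commute g h _ hgh hc m
  rw [hg] at h1
  have hcm : (g * h * g⁻¹ * h⁻¹) ^ m = 1 := by simpa using h1.symm
  have hcop : Nat.Coprime m (2 ^ j) := Nat.Coprime.pow_right j (Nat.coprime_two_right.mpr hm)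
  have hc1 : g * h * g⁻¹ * h⁻¹ = 1 := by
    have h3 := orderOf_dvd_of_pow_eq_one hcm
    have h4 := orderOf_dvd_of_pow_eq_one hj
    have h5 : orderOf (g * h * g⁻¹ * h⁻¹) ∣ Nat.gcd m (2 ^ j) := Nat.dvd_gcd h3 h4
    rw [hcop] at h5
    exact orderOf_eq_one_iff.mp (Nat.dvd_one.mp h5)
  have h6 : g * h * g⁻¹ = h := by rw [hgh, hc1, one_mul]
  exact mul_inv_eq_iff_eq_mul.mp h6

theorem conj_mem_closure_of_forall {A : Set G} (g : G) (hA : ∀ a ∈ A, g * a * g⁻¹ ∈ A) :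
    ∀ s ∈ Subgroup.closure A, g * s * g⁻¹ ∈ Subgroup.closure A := by
  intro s hs
  induction hs using Subgroup.closure_induction with
  | mem a ha => exact Subgroup.subset_closure (hA a ha)
  | one => simp
  | mul x y _ _ hx hy =>
    have : g * (x * y) * g⁻¹ = (g * x * g⁻¹) * (g * y * g⁻¹) := by group
    rw [this]; exact Subgroup.mul_mem _ hx hy
  | inv x _ hx =>
    have : g * x⁻¹ * g⁻¹ = (g * x * g⁻¹)⁻¹ := by group
    rw [this]; exact Subgroup.inv_mem _ hx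

/-- Let `g` be an element of odd order normalizing the `2`-subgroup `H`, and suppose every
element of `H` that is inverted by an element of `H` commutes with `g` and with all of `H`.
Then `g` centralizes `H`. -/
theorem commute_of_real_central [Finite G] (g : G) (m : ℕ) (hm : Odd m) (hg : g ^ m = 1) :
    ∀ (n : ℕ) (H : Subgroup G), Nat.card H = n → IsPGroup 2 H →
      (∀ h ∈ H, g * h * g⁻¹ ∈ H) →
      (∀ x ∈ H, (∃ t ∈ H, t * x * t⁻¹ = x⁻¹) → Commute g x ∧ ∀ y ∈ H, Commute y x) →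
      ∀ h ∈ H, Commute g h := by
  intro n
  induction n using Nat.strong_induction_on with
  | _ n ih =>
  intro H hcard hH hinv hreal
  have IH' : ∀ K : Subgroup G, K ≤ H → K ≠ H → (∀ k ∈ K, g * k * g⁻¹ ∈ K) →
      ∀ k ∈ K, Commute g k := by
    intro K hKH hKne hKinv
    have hlt : Nat.card K < n := by
      rw [← hcard]
      by_contra hcon
      push Not at hcon
      exact hKne (Subgroup.eq_of_le_of_card_ge hKH hcon)
    refine ih (Nat.card K) hlt K rfl (hH.to_le hKH) hKinv ?_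
    rintro x hx ⟨t, ht, htx⟩
    obtain ⟨h1, h2⟩ := hreal x (hKH hx) ⟨t, hKH ht, htx⟩
    exact ⟨h1, fun y hy => h2 y (hKH hy)⟩
  have hinvk : ∀ k : ℕ, ∀ h ∈ H, g ^ k * h * (g ^ k)⁻¹ ∈ H := by
    intro k
    induction k with
    | zero => intro h hh; simpa using hh
    | succ k ihk =>
      intro h hh
      have : g ^ (k + 1) * h * (g ^ (k + 1))⁻¹ = g * (g ^ k * h * (g ^ k)⁻¹) * g⁻¹ := by
        rw [pow_succ']; simp [mul_assoc]
      rw [this]; exact hinv _ (ihk h hh)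
  have hinv' : ∀ h ∈ H, g⁻¹ * h * g ∈ H := by
    intro h hh
    obtain ⟨m', rfl⟩ : ∃ m', m = m' + 1 := ⟨m - 1, by have := hm.pos; omega⟩
    have hgi : g⁻¹ = g ^ m' := by
      rw [pow_succ] at hg; exact inv_eq_of_mul_eq_one_left hg
    have := hinvk m' h hh
    rw [← hgi] at this; simpa using this
  have key : ∀ h ∈ H, Commute g (g * h * g⁻¹ * h⁻¹) → Commute g h := by
    intro h hh hc
    have hcH : g * h * g⁻¹ * h⁻¹ ∈ H := H.mul_mem (hinv h hh) (H.inv_mem hh)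
    obtain ⟨j, hj⟩ := hH ⟨_, hcH⟩
    have hj' : (g * h * g⁻¹ * h⁻¹) ^ (2 ^ j) = 1 := by
      have := congrArg Subtype.val hj; simpa using this
    exact commute_of_commute_comm_of_odd g h m j hm hg hc hj'
  by_cases hbot : H = ⊥
  · intro h hh; rw [hbot, Subgroup.mem_bot] at hh; rw [hh]; exact Commute.one_right g
  let A : Set G := {y | ∃ x ∈ H, y = x ^ 2}
  have hSH : Subgroup.closure A ≤ H := by
    rw [Subgroup.closure_le]; rintro y ⟨x, hx, rfl⟩; exact H.pow_mem hx 2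
  have hsq : ∀ x ∈ H, x ^ 2 ∈ Subgroup.closure A :=
    fun x hx => Subgroup.subset_closure ⟨x, hx, rfl⟩
  have hcomm : ∀ a ∈ H, ∀ b ∈ H, a * b * a⁻¹ * b⁻¹ ∈ Subgroup.closure A := by
    intro a ha b hb
    have : a * b * a⁻¹ * b⁻¹ = a ^ 2 * (a⁻¹ * b) ^ 2 * (b⁻¹) ^ 2 := by
      simp only [pow_two]; group
    rw [this]
    exact Subgroup.mul_mem _ (Subgroup.mul_mem _ (hsq a ha) (hsq _ (H.mul_mem (H.inv_mem ha) hb)))
      (hsq _ (H.inv_mem hb))
  have hSne : Subgroup.closure A ≠ H := by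
    intro hSeq
    haveI : Fact (Nat.Prime 2) := ⟨Nat.prime_two⟩
    haveI : Nontrivial H := (Subgroup.nontrivial_iff_ne_bot H).mpr hbot
    have hle : Subgroup.closure A ≤ (frattini H).map H.subtype := by
      rw [Subgroup.closure_le]; rintro y ⟨x, hx, rfl⟩
      exact ⟨⟨x, hx⟩ ^ 2, pow_prime_mem_frattini_of_pgroup hH ⟨x, hx⟩, by simp⟩
    have htop : frattini H = ⊤ := by
      rw [eq_top_iff]; rintro ⟨y, hy⟩ _
      obtain ⟨z, hz, hzy⟩ := hle (hSeq ▸ hy)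
      have : z = ⟨y, hy⟩ := Subtype.ext hzy
      rw [← this]; exact hz
    obtain ⟨M, hM⟩ : ∃ M : Subgroup H, IsCoatom M := by
      rcases eq_top_or_exists_le_coatom (⊥ : Subgroup H) with h | ⟨M, hM, _⟩
      · exact absurd h bot_ne_top
      · exact ⟨M, hM⟩
    have := frattini_le_coatom hM
    rw [htop] at this
    exact hM.1 (top_le_iff.mp this)
  have hSg : ∀ s ∈ Subgroup.closure A, g * s * g⁻¹ ∈ Subgroup.closure A := by
    apply conj_mem_closure_of_forall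
    rintro y ⟨x, hx, rfl⟩
    exact ⟨g * x * g⁻¹, hinv x hx, by simp only [pow_two]; group⟩
  have hSn : ∀ h ∈ H, ∀ s ∈ Subgroup.closure A, h * s * h⁻¹ ∈ Subgroup.closure A := by
    intro h hh
    apply conj_mem_closure_of_forall
    rintro y ⟨x, hx, rfl⟩
    exact ⟨h * x * h⁻¹, H.mul_mem (H.mul_mem hh hx) (H.inv_mem hh), by simp only [pow_two]; group⟩
  have hgS : ∀ s ∈ Subgroup.closure A, Commute g s := IH' _ hSH hSne hSg
  by_cases hScen : ∀ h ∈ H, ∀ s ∈ Subgroup.closure A, Commute h s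
  swap
  · have hTH : H ⊓ Subgroup.centralizer (Subgroup.closure A : Set G) ≤ H := inf_le_left
    have hTne : H ⊓ Subgroup.centralizer (Subgroup.closure A : Set G) ≠ H := by
      intro hT; apply hScen; intro h hh s hs
      have h1 : h ∈ H ⊓ Subgroup.centralizer (Subgroup.closure A : Set G) := by
        rw [hT]; exact hh
      have h2 := (Subgroup.mem_centralizer_iff.mp (Subgroup.mem_inf.mp h1).2) s hs
      exact h2.symm
    have hTg : ∀ t ∈ H ⊓ Subgroup.centralizer (Subgroup.closure A : Set G),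
        g * t * g⁻¹ ∈ H ⊓ Subgroup.centralizer (Subgroup.closure A : Set G) := by
      intro t ht
      rw [Subgroup.mem_inf] at ht
      refine Subgroup.mem_inf.mpr ⟨hinv t ht.1, ?_⟩
      rw [Subgroup.mem_centralizer_iff]; intro s hs
      have h1 : Commute s t := (Subgroup.mem_centralizer_iff.mp ht.2) s hs
      have h2 : Commute s g := (hgS s hs).symm
      exact ((h2.mul_right h1).mul_right h2.inv_right).eq
    have hcT : ∀ h ∈ H, g * h * g⁻¹ * h⁻¹ ∈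
        H ⊓ Subgroup.centralizer (Subgroup.closure A : Set G) := by
      intro h hh
      refine Subgroup.mem_inf.mpr ⟨H.mul_mem (hinv h hh) (H.inv_mem hh), ?_⟩
      rw [Subgroup.mem_centralizer_iff]; intro s hs
      have hs' : h⁻¹ * s * h ∈ Subgroup.closure A := by
        simpa using hSn h⁻¹ (H.inv_mem hh) s hs
      have h1 : Commute g (h⁻¹ * s * h) := hgS _ hs'
      have h2 : Commute g s := hgS s hs
      calc s * (g * h * g⁻¹ * h⁻¹) = (s * g) * h * g⁻¹ * h⁻¹ := by group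
        _ = (g * s) * h * g⁻¹ * h⁻¹ := by rw [h2.eq]
        _ = g * h * ((h⁻¹ * s * h) * g⁻¹) * h⁻¹ := by group
        _ = g * h * (g⁻¹ * (h⁻¹ * s * h)) * h⁻¹ := by rw [← h1.inv_left.eq]
        _ = g * h * g⁻¹ * h⁻¹ * s := by group
    intro h hh
    exact key h hh (IH' _ hTH hTne hTg _ (hcT h hh))
  intro x hx
  by_cases hxr : ∃ t ∈ H, t * x * t⁻¹ = x⁻¹
  · exact (hreal x hx hxr).1
  have hBmul : ∀ t1 ∈ H, ∀ t2 ∈ H, (t1 * x * t1⁻¹ * x⁻¹) * (t2 * x * t2⁻¹ * x⁻¹) =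
      (t2 * t1) * x * (t2 * t1)⁻¹ * x⁻¹ := by
    intro t1 ht1 t2 ht2
    have hc := hScen t2 ht2 _ (hcomm t1 ht1 x hx)
    calc (t1 * x * t1⁻¹ * x⁻¹) * (t2 * x * t2⁻¹ * x⁻¹)
        = ((t1 * x * t1⁻¹ * x⁻¹) * t2) * x * t2⁻¹ * x⁻¹ := by group
      _ = (t2 * (t1 * x * t1⁻¹ * x⁻¹)) * x * t2⁻¹ * x⁻¹ := by rw [hc.eq]
      _ = _ := by group
  let B : Subgroup G :=
    { carrier := {b | ∃ t ∈ H, b = t * x * t⁻¹ * x⁻¹}
      mul_mem' := by
        rintro _ _ ⟨t1, ht1, rfl⟩ ⟨t2, ht2, rfl⟩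
        exact ⟨t2 * t1, H.mul_mem ht2 ht1, hBmul t1 ht1 t2 ht2⟩
      one_mem' := ⟨1, H.one_mem, by group⟩
      inv_mem' := by
        rintro _ ⟨t, ht, rfl⟩
        refine ⟨t⁻¹, H.inv_mem ht, ?_⟩
        have := hBmul t ht t⁻¹ (H.inv_mem ht)
        apply inv_eq_of_mul_eq_one_right
        rw [this]; group }
  have hBS : B ≤ Subgroup.closure A := by
    rintro _ ⟨t, ht, rfl⟩; exact hcomm t ht x hx
  have hx2 : x ^ 2 ∉ B := by
    intro hmem
    obtain ⟨t, ht, hteq⟩ := B.inv_mem hmem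
    apply hxr
    refine ⟨t, ht, ?_⟩
    calc t * x * t⁻¹ = (t * x * t⁻¹ * x⁻¹) * x := by group
      _ = (x ^ 2)⁻¹ * x := by rw [← hteq]
      _ = x⁻¹ := by simp only [pow_two]; group
  have hBg : ∀ b ∈ B, g * b * g⁻¹ = b := by
    intro b hb
    have := (hgS b (hBS hb)).eq
    rw [this]; group
  let R : Subgroup G :=
    { carrier := {y | y ∈ H ∧ ∀ t ∈ H, t * y * t⁻¹ * y⁻¹ ∈ B}
      mul_mem' := by
        rintro y1 y2 ⟨h1, h1'⟩ ⟨h2, h2'⟩
        refine ⟨H.mul_mem h1 h2, fun t ht => ?_⟩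
        have hc := hScen y1 h1 _ (hcomm t ht y2 h2)
        have : t * (y1 * y2) * t⁻¹ * (y1 * y2)⁻¹ =
            (t * y1 * t⁻¹ * y1⁻¹) * (t * y2 * t⁻¹ * y2⁻¹) := by
          calc t * (y1 * y2) * t⁻¹ * (y1 * y2)⁻¹
              = (t * y1 * t⁻¹ * y1⁻¹) * (y1 * (t * y2 * t⁻¹ * y2⁻¹)) * y1⁻¹ := by group
            _ = (t * y1 * t⁻¹ * y1⁻¹) * ((t * y2 * t⁻¹ * y2⁻¹) * y1) * y1⁻¹ := by rw [hc.eq]
            _ = _ := by group
        rw [this]; exact B.mul_mem (h1' t ht) (h2' t ht)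
      one_mem' := ⟨H.one_mem, fun t ht => by simpa using B.one_mem⟩
      inv_mem' := by
        rintro y ⟨h1, h1'⟩
        refine ⟨H.inv_mem h1, fun t ht => ?_⟩
        have hc := hScen y h1 _ (hcomm t ht y h1)
        have : t * y⁻¹ * t⁻¹ * y⁻¹⁻¹ = (t * y * t⁻¹ * y⁻¹)⁻¹ := by
          calc t * y⁻¹ * t⁻¹ * y⁻¹⁻¹ = y⁻¹ * ((t * y * t⁻¹ * y⁻¹)⁻¹ * y) := by group
            _ = y⁻¹ * (y * (t * y * t⁻¹ * y⁻¹)⁻¹) := by rw [← hc.inv_right.eq]
            _ = _ := by group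
        rw [this]; exact B.inv_mem (h1' t ht) }
  have hRH : R ≤ H := fun y hy => hy.1
  have hRg : ∀ y ∈ R, g * y * g⁻¹ ∈ R := by
    rintro y ⟨h1, h1'⟩
    refine ⟨hinv y h1, fun t ht => ?_⟩
    have hb := h1' (g⁻¹ * t * g) (hinv' t ht)
    have : t * (g * y * g⁻¹) * t⁻¹ * (g * y * g⁻¹)⁻¹ =
        g * ((g⁻¹ * t * g) * y * (g⁻¹ * t * g)⁻¹ * y⁻¹) * g⁻¹ := by group
    rw [this, hBg _ hb]; exact hb
  have hxR : x ∈ R := ⟨hx, fun t ht => ⟨t, ht, rfl⟩⟩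
  by_cases hRe : R = H
  swap
  · exact IH' R hRH hRe hRg x hxR
  have hallB : ∀ y ∈ H, ∀ t ∈ H, t * y * t⁻¹ * y⁻¹ ∈ B := by
    intro y hy
    have : y ∈ R := hRe ▸ hy
    exact this.2
  have hsqmul : ∀ y1 ∈ H, ∀ y2 ∈ H,
      (y1 * y2) ^ 2 = (y2 * y1 * y2⁻¹ * y1⁻¹) * y1 ^ 2 * y2 ^ 2 := by
    intro y1 h1 y2 h2
    have hc := hScen y1 h1 _ (hcomm y2 h2 y1 h1)
    calc (y1 * y2) ^ 2 = (y1 * (y2 * y1 * y2⁻¹ * y1⁻¹)) * y1 * y2 ^ 2 := by
          simp only [pow_two]; group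
      _ = ((y2 * y1 * y2⁻¹ * y1⁻¹) * y1) * y1 * y2 ^ 2 := by rw [hc.eq]
      _ = _ := by simp only [pow_two]; group
  let K : Subgroup G :=
    { carrier := {y | y ∈ H ∧ y ^ 2 ∈ B}
      mul_mem' := by
        rintro y1 y2 ⟨h1, h1'⟩ ⟨h2, h2'⟩
        refine ⟨H.mul_mem h1 h2, ?_⟩
        rw [hsqmul y1 h1 y2 h2]
        exact B.mul_mem (B.mul_mem (hallB y1 h1 y2 h2) h1') h2'
      one_mem' := ⟨H.one_mem, by simpa using B.one_mem⟩
      inv_mem' := by
        rintro y ⟨h1, h1'⟩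
        refine ⟨H.inv_mem h1, ?_⟩
        have : y⁻¹ ^ 2 = (y ^ 2)⁻¹ := by simp only [pow_two]; group
        rw [this]; exact B.inv_mem h1' }
  have hKH : K ≤ H := fun y hy => hy.1
  have hKne : K ≠ H := by
    intro hK
    have : x ∈ K := hK ▸ hx
    exact hx2 this.2
  have hKg : ∀ y ∈ K, g * y * g⁻¹ ∈ K := by
    rintro y ⟨h1, h1'⟩
    refine ⟨hinv y h1, ?_⟩
    have : (g * y * g⁻¹) ^ 2 = g * y ^ 2 * g⁻¹ := by simp only [pow_two]; group
    rw [this, hBg _ h1']; exact h1'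
  have hcK : g * x * g⁻¹ * x⁻¹ ∈ K := by
    refine ⟨H.mul_mem (hinv x hx) (H.inv_mem hx), ?_⟩
    have h1 := hsqmul (g * x * g⁻¹) (hinv x hx) x⁻¹ (H.inv_mem hx)
    rw [h1]
    have h2 : (g * x * g⁻¹) ^ 2 = x ^ 2 := by
      have h4 : (g * x * g⁻¹) ^ 2 = g * x ^ 2 * g⁻¹ := by simp only [pow_two]; group
      rw [h4]
      have h5 := (hgS _ (hsq x hx)).eq
      rw [h5]; group
    rw [h2]
    have h3 : x⁻¹ * (g * x * g⁻¹) * x⁻¹⁻¹ * (g * x * g⁻¹)⁻¹ * x ^ 2 * x⁻¹ ^ 2 =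
        x⁻¹ * (g * x * g⁻¹) * x⁻¹⁻¹ * (g * x * g⁻¹)⁻¹ := by simp only [pow_two]; group
    rw [h3]
    exact hallB _ (hinv x hx) _ (H.inv_mem hx)
  exact key x hx (IH' K hKH hKne hKg _ hcK)

end RealAut

end Cfsg.Agent.Helper64
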