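import Mathlib
import Cfsg.Agent.Helper64.RealAut
import Cfsg.Agent.Helper70.FrobComp2

set_option autoImplicit false

namespace Cfsg.Agent.Helper64

section TwoClasses

variable {G : Type*} [Group G]

/-- The number of values of `f` on `s` is the sum over `s` of the inverse fibre sizes. -/
theorem card_image_eq_sum_inv {α β : Type*} [DecidableEq β] (s : Finset α) (f : α → β) :
    ((s.image f).card : ℚ) =
      ∑ a ∈ s, (1 : ℚ) / ((s.filter (fun a' => f a' = f a)).card : ℚ) := by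
  rw [Finset.sum_comp (fun b => (1 : ℚ) / ((s.filter (fun a' => f a' = b)).card : ℚ)) f]
  rw [Finset.card_eq_sum_ones, Nat.cast_sum]
  apply Finset.sum_congr rfl
  intro b hb
  obtain ⟨a, ha, rfl⟩ := Finset.mem_image.mp hb
  have hpos : 0 < (s.filter (fun a' => f a' = f a)).card :=
    Finset.card_pos.mpr ⟨a, Finset.mem_filter.mpr ⟨ha, rfl⟩⟩
  have hne : ((s.filter (fun a' => f a' = f a)).card : ℚ) ≠ 0 := by positivity
  rw [nsmul_eq_mul]
  field_simp
  simp

theorem isPGroup_zpowers_of_pow_eq_one {H : Type*} [Group H] {z : H} {k : ℕ}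
    (hz : z ^ 2 ^ k = 1) : IsPGroup 2 (Subgroup.zpowers z) := by
  obtain ⟨j, -, hj⟩ := (Nat.dvd_prime_pow Nat.prime_two).mp (orderOf_dvd_of_pow_eq_one hz)
  exact IsPGroup.of_card (n := j) (by rw [Nat.card_zpowers, hj])

/-- If `x ∈ P` has no other `G`-conjugate in the Sylow `2`-subgroup `P`, then any fusion
`y ↦ g y g⁻¹` inside `P` can be realised by an element centralizing `x`. -/
theorem exists_conj_fix_of_isolated [Finite G] (P : Sylow 2 G) (x : G)
    (hx : x ∈ (P : Subgroup G))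
    (hiso : ∀ g : G, g * x * g⁻¹ ∈ (P : Subgroup G) → g * x * g⁻¹ = x)
    (y : G) (hy : y ∈ (P : Subgroup G)) (g : G) (hg : g * y * g⁻¹ ∈ (P : Subgroup G)) :
    ∃ g' : G, g' * y * g'⁻¹ = g * y * g⁻¹ ∧ g' * x * g'⁻¹ = x := by
  haveI : Fact (Nat.Prime 2) := ⟨Nat.prime_two⟩
  have hxc : ∀ u ∈ (P : Subgroup G), u * x = x * u := by
    intro u hu
    have h1 := hiso u (mul_mem (mul_mem hu hx) (inv_mem hu))
    exact mul_inv_eq_iff_eq_mul.mp h1
  have hxC : x ∈ Subgroup.centralizer ({g * y * g⁻¹} : Set G) := by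
    rw [Subgroup.mem_centralizer_iff]; intro z hz
    rw [Set.mem_singleton_iff] at hz; subst hz
    exact hxc _ hg
  have hx1C : g * x * g⁻¹ ∈ Subgroup.centralizer ({g * y * g⁻¹} : Set G) := by
    rw [Subgroup.mem_centralizer_iff]; intro z hz
    rw [Set.mem_singleton_iff] at hz; subst hz
    have h1 := hxc y hy
    calc g * y * g⁻¹ * (g * x * g⁻¹) = g * (y * x) * g⁻¹ := by group
      _ = g * (x * y) * g⁻¹ := by rw [h1]
      _ = g * x * g⁻¹ * (g * y * g⁻¹) := by group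
  obtain ⟨k, hk⟩ := P.isPGroup' ⟨x, hx⟩
  have hk' : x ^ 2 ^ k = 1 := by have := congrArg Subtype.val hk; simpa using this
  have hxCk : (⟨x, hxC⟩ : Subgroup.centralizer ({g * y * g⁻¹} : Set G)) ^ 2 ^ k = 1 :=
    Subtype.ext (by simpa using hk')
  have hx1Ck : (⟨g * x * g⁻¹, hx1C⟩ : Subgroup.centralizer ({g * y * g⁻¹} : Set G)) ^ 2 ^ k = 1 := by
    apply Subtype.ext
    have : (g * x * g⁻¹) ^ 2 ^ k = 1 := by rw [conj_pow, hk']; simp
    simpa using this
  obtain ⟨T, hT⟩ := (isPGroup_zpowers_of_pow_eq_one hxCk).exists_le_sylow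
  obtain ⟨T', hT'⟩ := (isPGroup_zpowers_of_pow_eq_one hx1Ck).exists_le_sylow
  obtain ⟨c, hc⟩ := MulAction.exists_smul_eq (Subgroup.centralizer ({g * y * g⁻¹} : Set G)) T' T
  have h1 : (⟨g * x * g⁻¹, hx1C⟩ : Subgroup.centralizer ({g * y * g⁻¹} : Set G)) ∈
      (T' : Subgroup _) := hT' (Subgroup.mem_zpowers _)
  have h2 : c * (⟨g * x * g⁻¹, hx1C⟩ : Subgroup.centralizer ({g * y * g⁻¹} : Set G)) * c⁻¹ ∈
      (T : Subgroup _) := by
    rw [← hc, Cfsg.Agent.Helper70.sylow_mem_smul_iff]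
    have : c⁻¹ * (c * (⟨g * x * g⁻¹, hx1C⟩ : Subgroup.centralizer ({g * y * g⁻¹} : Set G)) * c⁻¹) * c
        = ⟨g * x * g⁻¹, hx1C⟩ := by group
    rw [this]; exact h1
  have h3 : (⟨x, hxC⟩ : Subgroup.centralizer ({g * y * g⁻¹} : Set G)) ∈ (T : Subgroup _) :=
    hT (Subgroup.mem_zpowers _)
  obtain ⟨S, hS⟩ := (T.isPGroup'.map (Subgroup.centralizer ({g * y * g⁻¹} : Set G)).subtype).exists_le_sylow
  obtain ⟨a, ha⟩ := MulAction.exists_smul_eq G P S
  have hxS : x ∈ (S : Subgroup G) := hS ⟨⟨x, hxC⟩, h3, rfl⟩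
  have hx2S : (c : G) * (g * x * g⁻¹) * (c : G)⁻¹ ∈ (S : Subgroup G) := hS ⟨_, h2, by simp⟩
  rw [← ha, Cfsg.Agent.Helper70.sylow_mem_smul_iff] at hxS hx2S
  have e1 : a⁻¹ * x * a = x := by
    have := hiso a⁻¹ (by simpa using hxS)
    simpa using this
  have e2 : a⁻¹ * ((c : G) * (g * x * g⁻¹) * (c : G)⁻¹) * a = x := by
    have h4 : a⁻¹ * ((c : G) * (g * x * g⁻¹) * (c : G)⁻¹) * a =
        (a⁻¹ * c * g) * x * (a⁻¹ * c * g)⁻¹ := by group
    rw [h4] at hx2S ⊢
    exact hiso _ hx2S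
  refine ⟨(c : G) * g, ?_, ?_⟩
  · have hcc := Subgroup.mem_centralizer_iff.mp c.2 (g * y * g⁻¹) (Set.mem_singleton _)
    calc (c : G) * g * y * ((c : G) * g)⁻¹ = (c : G) * (g * y * g⁻¹) * (c : G)⁻¹ := by group
      _ = (g * y * g⁻¹) * (c : G) * (c : G)⁻¹ := by rw [hcc]
      _ = g * y * g⁻¹ := by group
  · have h5 : (c : G) * (g * x * g⁻¹) * (c : G)⁻¹ = x := by
      have h6 : a⁻¹ * ((c : G) * (g * x * g⁻¹) * (c : G)⁻¹) * a = a⁻¹ * x * a := by rw [e2, e1]
      have h7 := congrArg (fun t => a * t * a⁻¹) h6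
      simpa [mul_assoc] using h7
    calc (c : G) * g * x * ((c : G) * g)⁻¹ = (c : G) * (g * x * g⁻¹) * (c : G)⁻¹ := by group
      _ = x := h5

/-- The elements of the Sylow `2`-subgroup `P` having no other `G`-conjugate in `P`
form a subgroup. -/
def isoSub [Finite G] (P : Sylow 2 G) : Subgroup G where
  carrier := {x | x ∈ (P : Subgroup G) ∧
    ∀ g : G, g * x * g⁻¹ ∈ (P : Subgroup G) → g * x * g⁻¹ = x}
  one_mem' := ⟨Subgroup.one_mem _, fun g _ => by simp⟩
  mul_mem' := by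
    rintro x x' ⟨hx, hxi⟩ ⟨hx', hxi'⟩
    refine ⟨mul_mem hx hx', fun g hg => ?_⟩
    obtain ⟨g', h1, h2⟩ := exists_conj_fix_of_isolated P x hx hxi (x * x') (mul_mem hx hx') g hg
    have h3 : g' * x' * g'⁻¹ = x⁻¹ * (g * (x * x') * g⁻¹) := by
      rw [← h1]
      have : g' * (x * x') * g'⁻¹ = (g' * x * g'⁻¹) * (g' * x' * g'⁻¹) := by group
      rw [this, h2]; group
    have h4 : g' * x' * g'⁻¹ ∈ (P : Subgroup G) := by
      rw [h3]; exact mul_mem (inv_mem hx) hg
    have h5 := hxi' g' h4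
    rw [h5] at h3
    calc g * (x * x') * g⁻¹ = x * (x⁻¹ * (g * (x * x') * g⁻¹)) := by group
      _ = x * x' := by rw [← h3]
  inv_mem' := by
    rintro x ⟨hx, hxi⟩
    refine ⟨inv_mem hx, fun g hg => ?_⟩
    have h1 : g * x * g⁻¹ ∈ (P : Subgroup G) := by
      have h0 := inv_mem hg
      have e : (g * x⁻¹ * g⁻¹)⁻¹ = g * x * g⁻¹ := by group
      rwa [e] at h0
    have h2 := hxi g h1
    have e : g * x⁻¹ * g⁻¹ = (g * x * g⁻¹)⁻¹ := by group
    rw [e, h2]

theorem mem_isoSub [Finite G] (P : Sylow 2 G) (x : G) :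
    x ∈ isoSub P ↔ x ∈ (P : Subgroup G) ∧
      ∀ g : G, g * x * g⁻¹ ∈ (P : Subgroup G) → g * x * g⁻¹ = x := Iff.rfl

theorem exists_conj_mul_of_mem_isoSub [Finite G] (P : Sylow 2 G) {i : G} (hi : i ∈ isoSub P)
    {y : G} (hy : y ∈ (P : Subgroup G)) (g : G) (hg : g * y * g⁻¹ ∈ (P : Subgroup G)) :
    ∃ g' : G, g' * (i * y) * g'⁻¹ = i * (g * y * g⁻¹) := by
  obtain ⟨g', h1, h2⟩ := exists_conj_fix_of_isolated P i hi.1 hi.2 y hy g hg
  refine ⟨g', ?_⟩
  have : g' * (i * y) * g'⁻¹ = (g' * i * g'⁻¹) * (g' * y * g'⁻¹) := by group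
  rw [this, h1, h2]

theorem commute_of_comm_mem_isoSub [Finite G] (P : Sylow 2 G) (Q : Subgroup G)
    (hQ : Q ≤ (P : Subgroup G)) (u : G) (hu : u ∈ Subgroup.normalizer (Q : Set G)) (m : ℕ)
    (hm : Odd m) (hum : u ^ m = 1) (w : G) (hw : w ∈ Q)
    (hc : u * w * u⁻¹ * w⁻¹ ∈ isoSub P) : Commute u w := by
  have h1 : u * w * u⁻¹ ∈ Q := (Subgroup.mem_normalizer_iff.mp hu w).mp hw
  have h2 : u * w * u⁻¹ * w⁻¹ ∈ Q := mul_mem h1 (inv_mem hw)
  have h3 : u * (u * w * u⁻¹ * w⁻¹) * u⁻¹ ∈ Q := (Subgroup.mem_normalizer_iff.mp hu _).mp h2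
  have h4 := hc.2 u (hQ h3)
  have h5 : Commute u (u * w * u⁻¹ * w⁻¹) := mul_inv_eq_iff_eq_mul.mp h4
  obtain ⟨j, hj⟩ := P.isPGroup' ⟨_, hQ h2⟩
  have hj' : (u * w * u⁻¹ * w⁻¹) ^ 2 ^ j = 1 := by
    have := congrArg Subtype.val hj; simpa using this
  exact commute_of_commute_comm_of_odd u w m j hm hum h5 hj'

/-- Every conjugacy class of `2`-elements meets the Sylow `2`-subgroup `P`. -/
theorem exists_mem_sylow_mk_eq [Finite G] (P : Sylow 2 G) (c : ConjClasses G)
    (hc : ∀ x ∈ c.carrier, ∃ k : ℕ, orderOf x = 2 ^ k) :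
    ∃ z ∈ (P : Subgroup G), ConjClasses.mk z = c := by
  haveI : Fact (Nat.Prime 2) := ⟨Nat.prime_two⟩
  obtain ⟨y, rfl⟩ := ConjClasses.mk_surjective c
  obtain ⟨k, hk⟩ := hc y ConjClasses.mem_carrier_mk
  have hpg : IsPGroup 2 (Subgroup.zpowers y) :=
    IsPGroup.of_card (n := k) (by rw [Nat.card_zpowers, hk])
  obtain ⟨S, hS⟩ := hpg.exists_le_sylow
  obtain ⟨a, ha⟩ := MulAction.exists_smul_eq G P S
  have hyS : y ∈ (S : Subgroup G) := hS (Subgroup.mem_zpowers y)
  rw [← ha, Cfsg.Agent.Helper70.sylow_mem_smul_iff] at hyS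
  refine ⟨a⁻¹ * y * a, hyS, ?_⟩
  rw [ConjClasses.mk_eq_mk_iff_isConj, isConj_iff]
  exact ⟨a, by group⟩

/-- If an element of odd order normalizes a subgroup `Q` of the Sylow `2`-subgroup `P` without
centralizing it, then the number of conjugacy classes of `2`-elements is at most `|P| / 2`. -/
theorem two_mul_card_two_classes_le [Finite G] (P : Sylow 2 G) (Q : Subgroup G)
    (hQ : Q ≤ (P : Subgroup G)) (g : G) (hg : g ∈ Subgroup.normalizer (Q : Set G))
    (hodd : Odd (orderOf g)) (h : G) (hh : h ∈ Q) (hne : ¬ Commute g h) :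
    2 * Nat.card {c : ConjClasses G // ∀ x ∈ c.carrier, ∃ k : ℕ, orderOf x = 2 ^ k} ≤
      Nat.card (P : Subgroup G) := by
  classical
  haveI : Fact (Nat.Prime 2) := ⟨Nat.prime_two⟩
  haveI := Fintype.ofFinite G
  let γ : Fin 3 → G := ![1, g, g * g]
  have hγN : ∀ j, γ j ∈ Subgroup.normalizer (Q : Set G) := by
    intro j; fin_cases j
    · exact Subgroup.one_mem _
    · exact hg
    · exact mul_mem hg hg
  let hh' : Fin 3 → G := fun j => γ j * h * (γ j)⁻¹
  have hhQ : ∀ j, hh' j ∈ Q := fun j => (Subgroup.mem_normalizer_iff.mp (hγN j) h).mp hh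
  have hhP : ∀ j, hh' j ∈ (P : Subgroup G) := fun j => hQ (hhQ j)
  have hsq : Commute (g * g) h → Commute g h := by
    intro hc
    obtain ⟨t, ht⟩ := hodd
    have : g = (g * g) ^ (t + 1) := by
      rw [← pow_two, ← pow_mul, show 2 * (t + 1) = (2 * t + 1) + 1 by ring, pow_succ, ← ht,
        pow_orderOf_eq_one, one_mul]
    rw [this]; exact hc.pow_left _
  have hgm : g ^ orderOf g = 1 := pow_orderOf_eq_one g
  have hggm : (g * g) ^ orderOf g = 1 := by
    rw [← pow_two, ← pow_mul, mul_comm, pow_mul, hgm, one_pow]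
  have key10 : hh' 1 * (hh' 0)⁻¹ ∉ isoSub P := by
    intro hmem
    apply hne
    have e : hh' 1 * (hh' 0)⁻¹ = g * h * g⁻¹ * h⁻¹ := by simp [hh', γ]
    rw [e] at hmem
    exact commute_of_comm_mem_isoSub P Q hQ g hg _ hodd hgm h hh hmem
  have key20 : hh' 2 * (hh' 0)⁻¹ ∉ isoSub P := by
    intro hmem
    apply hne
    have e : hh' 2 * (hh' 0)⁻¹ = (g * g) * h * (g * g)⁻¹ * h⁻¹ := by simp [hh', γ]
    rw [e] at hmem
    exact hsq (commute_of_comm_mem_isoSub P Q hQ (g * g) (mul_mem hg hg) _ hodd hggm h hh hmem)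
  have key21 : hh' 2 * (hh' 1)⁻¹ ∉ isoSub P := by
    intro hmem
    apply hne
    have e : hh' 2 * (hh' 1)⁻¹ = g * (g * h * g⁻¹) * g⁻¹ * (g * h * g⁻¹)⁻¹ := by
      simp [hh', γ, mul_assoc]
    rw [e] at hmem
    have hc := commute_of_comm_mem_isoSub P Q hQ g hg _ hodd hgm (g * h * g⁻¹)
      (by simpa [hh', γ] using hhQ 1) hmem
    have h1 : g * (g * h * g⁻¹) = (g * h * g⁻¹) * g := hc.eq
    have h2 : g * h = h * g := by
      calc g * h = g⁻¹ * (g * (g * h * g⁻¹)) * g := by group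
        _ = g⁻¹ * ((g * h * g⁻¹) * g) * g := by rw [h1]
        _ = h * g := by group
    exact h2
  have hinj : ∀ j k : Fin 3, hh' j * (hh' k)⁻¹ ∈ isoSub P → j = k := by
    intro j k hmem
    have hmem' : hh' k * (hh' j)⁻¹ ∈ isoSub P := by
      have := inv_mem hmem; simpa using this
    fin_cases j <;> fin_cases k <;>
      first
      | rfl
      | exact absurd hmem key10
      | exact absurd hmem key20
      | exact absurd hmem key21
      | exact absurd hmem' key10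
      | exact absurd hmem' key20
      | exact absurd hmem' key21
  let Pf : Finset G := Finset.univ.filter (fun x => x ∈ (P : Subgroup G))
  have hPf : ∀ x, x ∈ Pf ↔ x ∈ (P : Subgroup G) := fun x => by simp [Pf]
  have hcardP : Pf.card = Nat.card (P : Subgroup G) := by
    rw [Nat.card_eq_fintype_card, Fintype.card_subtype]
  have hT : Nat.card {c : ConjClasses G // ∀ x ∈ c.carrier, ∃ k : ℕ, orderOf x = 2 ^ k} ≤
      (Pf.image (ConjClasses.mk : G → ConjClasses G)).card := by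
    have hmem : ∀ c : {c : ConjClasses G // ∀ x ∈ c.carrier, ∃ k : ℕ, orderOf x = 2 ^ k},
        c.1 ∈ Pf.image (ConjClasses.mk : G → ConjClasses G) := by
      rintro ⟨c, hc⟩
      obtain ⟨z, hz, rfl⟩ := exists_mem_sylow_mk_eq P c hc
      exact Finset.mem_image.mpr ⟨z, (hPf z).mpr hz, rfl⟩
    have h1 : Nat.card {c : ConjClasses G // ∀ x ∈ c.carrier, ∃ k : ℕ, orderOf x = 2 ^ k} ≤
        Nat.card (Pf.image (ConjClasses.mk : G → ConjClasses G)) :=
      Nat.card_le_card_of_injective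
        (fun c => (⟨c.1, hmem c⟩ : (Pf.image (ConjClasses.mk : G → ConjClasses G))))
        (by
          intro c c' hcc
          simp only [Subtype.mk.injEq] at hcc
          exact Subtype.ext hcc)
    rw [Nat.card_eq_finsetCard] at h1
    exact h1
  have hsum := card_image_eq_sum_inv Pf (ConjClasses.mk : G → ConjClasses G)
  let If : Finset G := Pf.filter (fun x => x ∈ isoSub P)
  let Uf : Finset G := Pf.filter (fun x => ∃ i ∈ isoSub P, ∃ j : Fin 3, x = i * hh' j)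
  have hF3 : 3 * If.card ≤ Uf.card := by
    have h1 : (If ×ˢ (Finset.univ : Finset (Fin 3))).card ≤ Uf.card := by
      apply Finset.card_le_card_of_injOn (fun ij => ij.1 * hh' ij.2)
      · rintro ⟨i, j⟩ hij
        have hiI : i ∈ isoSub P := (Finset.mem_filter.mp (Finset.mem_product.mp hij).1).2
        exact Finset.mem_filter.mpr ⟨(hPf _).mpr (mul_mem hiI.1 (hhP j)), i, hiI, j, rfl⟩
      · rintro ⟨i, j⟩ hij ⟨i', k⟩ hik heq
        have hiI : i ∈ isoSub P := (Finset.mem_filter.mp (Finset.mem_product.mp hij).1).2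
        have hi'I : i' ∈ isoSub P := (Finset.mem_filter.mp (Finset.mem_product.mp hik).1).2
        have heq' : i * hh' j = i' * hh' k := heq
        have e : hh' j * (hh' k)⁻¹ = i⁻¹ * i' := by
          calc hh' j * (hh' k)⁻¹ = i⁻¹ * (i * hh' j) * (hh' k)⁻¹ := by group
            _ = i⁻¹ * (i' * hh' k) * (hh' k)⁻¹ := by rw [heq']
            _ = i⁻¹ * i' := by group
        have hjk : j = k := hinj j k (by rw [e]; exact mul_mem (inv_mem hiI) hi'I)
        subst hjk
        have hii : i = i' := mul_right_cancel heq'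
        rw [hii]
    simpa [Finset.card_product, mul_comm] using h1
  have hF1 : ∀ a ∈ Uf,
      3 ≤ (Pf.filter (fun a' => (ConjClasses.mk a' : ConjClasses G) = ConjClasses.mk a)).card := by
    intro a ha
    obtain ⟨haP, i, hi, j, rfl⟩ := Finset.mem_filter.mp ha
    have h1 : (Finset.univ : Finset (Fin 3)).card ≤
        (Pf.filter (fun a' => (ConjClasses.mk a' : ConjClasses G) =
          ConjClasses.mk (i * hh' j))).card := by
      apply Finset.card_le_card_of_injOn (fun k => i * hh' k)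
      · intro k _
        refine Finset.mem_filter.mpr ⟨(hPf _).mpr (mul_mem hi.1 (hhP k)), ?_⟩
        rw [ConjClasses.mk_eq_mk_iff_isConj, isConj_iff]
        have hconj : (γ j * (γ k)⁻¹) * hh' k * (γ j * (γ k)⁻¹)⁻¹ = hh' j := by
          simp only [hh']; group
        obtain ⟨g', hg'⟩ := exists_conj_mul_of_mem_isoSub P hi (hhP k) (γ j * (γ k)⁻¹)
          (by rw [hconj]; exact hhP j)
        exact ⟨g', by rw [hg', hconj]⟩
      · intro k _ k' _ heq
        have heq' : i * hh' k = i * hh' k' := heq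
        have h2 : hh' k = hh' k' := mul_left_cancel heq'
        exact hinj k k' (by rw [h2, mul_inv_cancel]; exact Subgroup.one_mem _)
    simpa using h1
  have hF2 : ∀ a ∈ Pf, a ∉ isoSub P →
      2 ≤ (Pf.filter (fun a' => (ConjClasses.mk a' : ConjClasses G) = ConjClasses.mk a)).card := by
    intro a ha hnot
    have haP := (hPf a).mp ha
    have hex : ∃ g₀ : G, g₀ * a * g₀⁻¹ ∈ (P : Subgroup G) ∧ g₀ * a * g₀⁻¹ ≠ a := by
      by_contra hcon
      push Not at hcon
      exact hnot ⟨haP, hcon⟩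
    obtain ⟨g₀, h1, h2⟩ := hex
    apply Finset.one_lt_card.mpr
    refine ⟨a, Finset.mem_filter.mpr ⟨ha, rfl⟩, g₀ * a * g₀⁻¹,
      Finset.mem_filter.mpr ⟨(hPf _).mpr h1, ?_⟩, fun h' => h2 h'.symm⟩
    rw [ConjClasses.mk_eq_mk_iff_isConj, isConj_iff]
    exact ⟨g₀⁻¹, by group⟩
  have hpt : ∀ a ∈ Pf, (1 : ℚ) /
      ((Pf.filter (fun a' => (ConjClasses.mk a' : ConjClasses G) = ConjClasses.mk a)).card : ℚ) ≤
      1 / 2 + (1 / 2) * (if a ∈ isoSub P then 1 else 0) -
        (1 / 6) * (if (∃ i ∈ isoSub P, ∃ j : Fin 3, a = i * hh' j) then 1 else 0) := by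
    intro a ha
    have hpos : 1 ≤ (Pf.filter (fun a' => (ConjClasses.mk a' : ConjClasses G) =
        ConjClasses.mk a)).card :=
      Finset.card_pos.mpr ⟨a, Finset.mem_filter.mpr ⟨ha, rfl⟩⟩
    have hposq : (1 : ℚ) ≤ ((Pf.filter (fun a' => (ConjClasses.mk a' : ConjClasses G) =
        ConjClasses.mk a)).card : ℚ) := by exact_mod_cast hpos
    by_cases hU : ∃ i ∈ isoSub P, ∃ j : Fin 3, a = i * hh' j
    · have h3 := hF1 a (Finset.mem_filter.mpr ⟨ha, hU⟩)
      have h3' : (3 : ℚ) ≤ ((Pf.filter (fun a' => (ConjClasses.mk a' : ConjClasses G) =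
          ConjClasses.mk a)).card : ℚ) := by exact_mod_cast h3
      rw [if_pos hU]
      have h4 : (1 : ℚ) / ((Pf.filter (fun a' => (ConjClasses.mk a' : ConjClasses G) =
          ConjClasses.mk a)).card : ℚ) ≤ 1 / 3 :=
        one_div_le_one_div_of_le (by norm_num) h3'
      split_ifs <;> linarith
    · rw [if_neg hU]
      by_cases hI : a ∈ isoSub P
      · rw [if_pos hI]
        have h4 : (1 : ℚ) / ((Pf.filter (fun a' => (ConjClasses.mk a' : ConjClasses G) =
            ConjClasses.mk a)).card : ℚ) ≤ 1 := by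
          rw [div_le_one (by linarith)]; exact hposq
        linarith
      · rw [if_neg hI]
        have h2 := hF2 a ha hI
        have h2' : (2 : ℚ) ≤ ((Pf.filter (fun a' => (ConjClasses.mk a' : ConjClasses G) =
            ConjClasses.mk a)).card : ℚ) := by exact_mod_cast h2
        have h4 : (1 : ℚ) / ((Pf.filter (fun a' => (ConjClasses.mk a' : ConjClasses G) =
            ConjClasses.mk a)).card : ℚ) ≤ 1 / 2 :=
          one_div_le_one_div_of_le (by norm_num) h2'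
        linarith
  have hbound : ((Pf.image (ConjClasses.mk : G → ConjClasses G)).card : ℚ) ≤
      (Pf.card : ℚ) / 2 + (If.card : ℚ) / 2 - (Uf.card : ℚ) / 6 := by
    rw [hsum]
    refine (Finset.sum_le_sum hpt).trans (le_of_eq ?_)
    rw [Finset.sum_sub_distrib, Finset.sum_add_distrib, ← Finset.mul_sum, ← Finset.mul_sum,
      Finset.sum_const, Finset.sum_boole, Finset.sum_boole]
    simp only [nsmul_eq_mul]
    ring
  have h3 : (3 : ℚ) * If.card ≤ Uf.card := by exact_mod_cast hF3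
  have hfin : (2 : ℚ) *
      (Nat.card {c : ConjClasses G // ∀ x ∈ c.carrier, ∃ k : ℕ, orderOf x = 2 ^ k} : ℚ) ≤
      (Nat.card (P : Subgroup G) : ℚ) := by
    have h4 : (Nat.card {c : ConjClasses G // ∀ x ∈ c.carrier, ∃ k : ℕ, orderOf x = 2 ^ k} : ℚ) ≤
        ((Pf.image (ConjClasses.mk : G → ConjClasses G)).card : ℚ) := by exact_mod_cast hT
    rw [← hcardP]
    linarith
  exact_mod_cast hfin

theorem card_two_classes_le_card_conjClasses [Finite G] (P : Sylow 2 G) :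
    Nat.card {c : ConjClasses G // ∀ x ∈ c.carrier, ∃ k : ℕ, orderOf x = 2 ^ k} ≤
      Nat.card (ConjClasses (P : Subgroup G)) := by
  have hex : ∀ c : {c : ConjClasses G // ∀ x ∈ c.carrier, ∃ k : ℕ, orderOf x = 2 ^ k},
      ∃ z : (P : Subgroup G), ConjClasses.mk (z : G) = c.1 := by
    rintro ⟨c, hc⟩
    obtain ⟨z, hz, rfl⟩ := exists_mem_sylow_mk_eq P c hc
    exact ⟨⟨z, hz⟩, rfl⟩
  choose f hf using hex
  apply Nat.card_le_card_of_injective (fun c => ConjClasses.mk (f c))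
  intro c c' hcc
  have hcc' : ConjClasses.mk (f c) = ConjClasses.mk (f c') := hcc
  apply Subtype.ext
  rw [← hf c, ← hf c']
  rw [ConjClasses.mk_eq_mk_iff_isConj, isConj_iff] at hcc' ⊢
  obtain ⟨s, hs⟩ := hcc'
  exact ⟨s, by have := congrArg Subtype.val hs; simpa using this⟩

theorem card_conjClasses_le_of_complement [Finite G] (P : Sylow 2 G) (K : Subgroup G)
    [hKn : K.Normal] (hK : K.IsComplement' (P : Subgroup G)) :
    Nat.card (ConjClasses (P : Subgroup G)) ≤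
      Nat.card {c : ConjClasses G // ∀ x ∈ c.carrier, ∃ k : ℕ, orderOf x = 2 ^ k} := by
  have hfus : ∀ z z' : (P : Subgroup G), IsConj (z : G) (z' : G) → IsConj z z' := by
    intro z z' hzz
    rw [isConj_iff] at hzz ⊢
    obtain ⟨g, hg⟩ := hzz
    obtain ⟨⟨k, s⟩, hks⟩ := hK.2 g
    have hks' : (k : G) * (s : G) = g := hks
    have hw : (s : G) * z * (s : G)⁻¹ ∈ (P : Subgroup G) :=
      mul_mem (mul_mem s.2 z.2) (inv_mem s.2)
    have hmemK : (z' : G) * ((s : G) * z * (s : G)⁻¹)⁻¹ ∈ K := by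
      have e : (z' : G) * ((s : G) * z * (s : G)⁻¹)⁻¹ =
          (k : G) * (((s : G) * z * (s : G)⁻¹) * (k : G)⁻¹ * ((s : G) * z * (s : G)⁻¹)⁻¹) := by
        rw [← hg, ← hks']; group
      rw [e]
      exact mul_mem k.2 (hKn.conj_mem _ (inv_mem k.2) _)
    have hmemP : (z' : G) * ((s : G) * z * (s : G)⁻¹)⁻¹ ∈ (P : Subgroup G) :=
      mul_mem z'.2 (inv_mem hw)
    have h1 := Subgroup.disjoint_def.mp hK.disjoint hmemK hmemP
    have h2 : (z' : G) = (s : G) * z * (s : G)⁻¹ := mul_inv_eq_one.mp h1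
    exact ⟨s, Subtype.ext (by simpa using h2.symm)⟩
  have hT : ∀ z : (P : Subgroup G), ∀ x ∈ (ConjClasses.mk (z : G)).carrier,
      ∃ k : ℕ, orderOf x = 2 ^ k := by
    intro z x hx
    rw [ConjClasses.mem_carrier_iff_mk_eq, ConjClasses.mk_eq_mk_iff_isConj, isConj_iff] at hx
    obtain ⟨c, hc⟩ := hx
    obtain ⟨j, hj⟩ := P.isPGroup' z
    have hj' : (z : G) ^ 2 ^ j = 1 := by have := congrArg Subtype.val hj; simpa using this
    have ho : orderOf x = orderOf (z : G) := by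
      rw [← hc, Cfsg.Agent.Helper70.orderOf_conj_eq]
    obtain ⟨i, -, hi⟩ := (Nat.dvd_prime_pow Nat.prime_two).mp (orderOf_dvd_of_pow_eq_one hj')
    exact ⟨i, by rw [ho, hi]⟩
  have hrep : ∀ d : ConjClasses (P : Subgroup G), ∃ z : (P : Subgroup G), ConjClasses.mk z = d :=
    ConjClasses.mk_surjective
  choose r hr using hrep
  apply Nat.card_le_card_of_injective
    (fun d => (⟨ConjClasses.mk (r d : G), hT (r d)⟩ :
      {c : ConjClasses G // ∀ x ∈ c.carrier, ∃ k : ℕ, orderOf x = 2 ^ k}))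
  intro d d' hdd
  simp only [Subtype.mk.injEq] at hdd
  rw [ConjClasses.mk_eq_mk_iff_isConj] at hdd
  have := hfus _ _ hdd
  rw [← hr d, ← hr d', ConjClasses.mk_eq_mk_iff_isConj]
  exact this

end TwoClasses

end Cfsg.Agent.Helper64
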