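import Mathlib
import Cfsg.Agent.Helper64.TwoClasses

set_option autoImplicit false

namespace Cfsg.Agent.Helper64

section PClasses

variable {G : Type*} [Group G]

/-- Every conjugacy class of `p`-elements meets the Sylow `p`-subgroup `P`. -/
theorem exists_mem_sylow_mk_eq_prime [Finite G] {p : ℕ} [Fact p.Prime] (P : Sylow p G)
    (c : ConjClasses G) (hc : ∀ x ∈ c.carrier, ∃ k : ℕ, orderOf x = p ^ k) :
    ∃ z ∈ (P : Subgroup G), ConjClasses.mk z = c := by
  obtain ⟨y, rfl⟩ := ConjClasses.mk_surjective c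
  obtain ⟨k, hk⟩ := hc y ConjClasses.mem_carrier_mk
  have hpg : IsPGroup p (Subgroup.zpowers y) :=
    IsPGroup.of_card (n := k) (by rw [Nat.card_zpowers, hk])
  obtain ⟨S, hS⟩ := hpg.exists_le_sylow
  obtain ⟨a, ha⟩ := MulAction.exists_smul_eq G P S
  have hyS : y ∈ (S : Subgroup G) := hS (Subgroup.mem_zpowers y)
  rw [← ha, Cfsg.Agent.Helper70.sylow_mem_smul_iff] at hyS
  refine ⟨a⁻¹ * y * a, hyS, ?_⟩
  rw [ConjClasses.mk_eq_mk_iff_isConj, isConj_iff]
  exact ⟨a, by group⟩

/-- Weighted class count: if every element of `P` outside the subgroup `C` has at least `d`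
`G`-conjugates in `P`, then `k_p(G) ≤ |C| + (|P| - |C|) / d`. -/
theorem card_prime_classes_le_of_fibre [Finite G] {p : ℕ} [Fact p.Prime] (P : Sylow p G)
    (C : Subgroup G) (hC : C ≤ (P : Subgroup G)) (d : ℕ) (hd : 1 ≤ d)
    (hfib : ∀ a ∈ (P : Subgroup G), a ∉ C → ∃ f : Fin d → G, Function.Injective f ∧
      ∀ i, f i ∈ (P : Subgroup G) ∧ IsConj a (f i)) :
    d * Nat.card {c : ConjClasses G // ∀ x ∈ c.carrier, ∃ k : ℕ, orderOf x = p ^ k} ≤
      (d - 1) * Nat.card C + Nat.card (P : Subgroup G) := by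
  classical
  haveI := Fintype.ofFinite G
  let Pf : Finset G := Finset.univ.filter (fun x => x ∈ (P : Subgroup G))
  have hPf : ∀ x, x ∈ Pf ↔ x ∈ (P : Subgroup G) := fun x => by simp [Pf]
  have hcardP : Pf.card = Nat.card (P : Subgroup G) := by
    rw [Nat.card_eq_fintype_card, Fintype.card_subtype]
  let Cf : Finset G := Pf.filter (fun x => x ∈ C)
  have hcardC : Cf.card = Nat.card C := by
    rw [Nat.card_eq_fintype_card, Fintype.card_subtype]
    congr 1
    ext x
    simp only [Cf, Finset.mem_filter, Finset.mem_univ, true_and, hPf]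
    exact ⟨fun h => h.2, fun h => ⟨hC h, h⟩⟩
  have hT : Nat.card {c : ConjClasses G // ∀ x ∈ c.carrier, ∃ k : ℕ, orderOf x = p ^ k} ≤
      (Pf.image (ConjClasses.mk : G → ConjClasses G)).card := by
    have hmem : ∀ c : {c : ConjClasses G // ∀ x ∈ c.carrier, ∃ k : ℕ, orderOf x = p ^ k},
        c.1 ∈ Pf.image (ConjClasses.mk : G → ConjClasses G) := by
      rintro ⟨c, hc⟩
      obtain ⟨z, hz, rfl⟩ := exists_mem_sylow_mk_eq_prime P c hc
      exact Finset.mem_image.mpr ⟨z, (hPf z).mpr hz, rfl⟩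
    have h1 : Nat.card {c : ConjClasses G // ∀ x ∈ c.carrier, ∃ k : ℕ, orderOf x = p ^ k} ≤
        Nat.card (Pf.image (ConjClasses.mk : G → ConjClasses G)) :=
      Nat.card_le_card_of_injective
        (fun c => (⟨c.1, hmem c⟩ : (Pf.image (ConjClasses.mk : G → ConjClasses G))))
        (by
          intro c c' hcc
          simp only [Subtype.mk.injEq] at hcc
          exact Subtype.ext hcc)
    rw [Nat.card_eq_finsetCard] at h1
    exact h1
  have hsum := card_image_eq_sum_inv Pf (ConjClasses.mk : G → ConjClasses G)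
  have hdq : (1 : ℚ) ≤ (d : ℚ) := by exact_mod_cast hd
  have hpt : ∀ a ∈ Pf, (1 : ℚ) /
      ((Pf.filter (fun a' => (ConjClasses.mk a' : ConjClasses G) = ConjClasses.mk a)).card : ℚ) ≤
      1 / (d : ℚ) + (1 - 1 / (d : ℚ)) * (if a ∈ C then 1 else 0) := by
    intro a ha
    have hpos : 1 ≤ (Pf.filter (fun a' => (ConjClasses.mk a' : ConjClasses G) =
        ConjClasses.mk a)).card :=
      Finset.card_pos.mpr ⟨a, Finset.mem_filter.mpr ⟨ha, rfl⟩⟩
    have hposq : (1 : ℚ) ≤ ((Pf.filter (fun a' => (ConjClasses.mk a' : ConjClasses G) =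
        ConjClasses.mk a)).card : ℚ) := by exact_mod_cast hpos
    by_cases haC : a ∈ C
    · rw [if_pos haC]
      have h4 : (1 : ℚ) / ((Pf.filter (fun a' => (ConjClasses.mk a' : ConjClasses G) =
          ConjClasses.mk a)).card : ℚ) ≤ 1 := by
        rw [div_le_one (by linarith)]; exact hposq
      linarith
    · rw [if_neg haC]
      obtain ⟨f, hfinj, hf⟩ := hfib a ((hPf a).mp ha) haC
      have h1 : (Finset.univ : Finset (Fin d)).card ≤
          (Pf.filter (fun a' => (ConjClasses.mk a' : ConjClasses G) = ConjClasses.mk a)).card := by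
        apply Finset.card_le_card_of_injOn f
        · intro i _
          refine Finset.mem_filter.mpr ⟨(hPf _).mpr (hf i).1, ?_⟩
          rw [ConjClasses.mk_eq_mk_iff_isConj]
          exact (hf i).2.symm
        · intro i _ j _ hij
          exact hfinj hij
      have h2 : (d : ℚ) ≤ ((Pf.filter (fun a' => (ConjClasses.mk a' : ConjClasses G) =
          ConjClasses.mk a)).card : ℚ) := by
        have : d ≤ (Pf.filter (fun a' => (ConjClasses.mk a' : ConjClasses G) =
          ConjClasses.mk a)).card := by simpa using h1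
        exact_mod_cast this
      have h4 : (1 : ℚ) / ((Pf.filter (fun a' => (ConjClasses.mk a' : ConjClasses G) =
          ConjClasses.mk a)).card : ℚ) ≤ 1 / (d : ℚ) :=
        one_div_le_one_div_of_le (by linarith) h2
      linarith
  have hbound : ((Pf.image (ConjClasses.mk : G → ConjClasses G)).card : ℚ) ≤
      (Pf.card : ℚ) / (d : ℚ) + (1 - 1 / (d : ℚ)) * (Cf.card : ℚ) := by
    rw [hsum]
    refine (Finset.sum_le_sum hpt).trans (le_of_eq ?_)
    rw [Finset.sum_add_distrib, ← Finset.mul_sum, Finset.sum_const, Finset.sum_boole]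
    simp only [nsmul_eq_mul, Cf]
    ring
  have hd0 : (0 : ℚ) < (d : ℚ) := by linarith
  have hfin : (d : ℚ) *
      (Nat.card {c : ConjClasses G // ∀ x ∈ c.carrier, ∃ k : ℕ, orderOf x = p ^ k} : ℚ) ≤
      ((d : ℚ) - 1) * (Nat.card C : ℚ) + (Nat.card (P : Subgroup G) : ℚ) := by
    have h4 : (Nat.card {c : ConjClasses G // ∀ x ∈ c.carrier, ∃ k : ℕ, orderOf x = p ^ k} : ℚ) ≤
        ((Pf.image (ConjClasses.mk : G → ConjClasses G)).card : ℚ) := by exact_mod_cast hT
    rw [← hcardP, ← hcardC]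
    have h5 : (d : ℚ) * ((Pf.card : ℚ) / (d : ℚ) + (1 - 1 / (d : ℚ)) * (Cf.card : ℚ)) =
        ((d : ℚ) - 1) * (Cf.card : ℚ) + (Pf.card : ℚ) := by
      field_simp
      ring
    rw [← h5]
    exact mul_le_mul_of_nonneg_left (h4.trans hbound) hd0.le
  have hcast : ((d - 1 : ℕ) : ℚ) = (d : ℚ) - 1 := by
    rw [Nat.cast_sub hd]; simp
  have hfin' : ((d * Nat.card {c : ConjClasses G // ∀ x ∈ c.carrier, ∃ k : ℕ, orderOf x = p ^ k} : ℕ) : ℚ)
      ≤ (((d - 1) * Nat.card C + Nat.card (P : Subgroup G) : ℕ) : ℚ) := by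
    push_cast
    rw [hcast]
    exact hfin
  exact_mod_cast hfin'

/-- A proper subgroup of a Sylow `p`-subgroup has index at least `p` in it. -/
theorem card_mul_prime_le_of_lt_sylow [Finite G] {p : ℕ} [Fact p.Prime] (P : Sylow p G)
    (C : Subgroup G) (hC : C ≤ (P : Subgroup G)) (hne : C ≠ (P : Subgroup G)) :
    Nat.card C * p ≤ Nat.card (P : Subgroup G) := by
  have hp := (Fact.out : p.Prime)
  obtain ⟨n, hn⟩ := IsPGroup.iff_card.mp P.isPGroup'
  have hdvd : Nat.card C ∣ Nat.card (P : Subgroup G) := Subgroup.card_dvd_of_le hC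
  rw [hn] at hdvd ⊢
  obtain ⟨m, hm, hmc⟩ := (Nat.dvd_prime_pow hp).mp hdvd
  have hlt : m < n := by
    rcases Nat.lt_or_ge m n with h | h
    · exact h
    · exfalso
      apply hne
      apply Subgroup.eq_of_le_of_card_ge hC
      rw [hn, hmc]
      exact Nat.pow_le_pow_right hp.pos h
  rw [hmc]
  calc p ^ m * p = p ^ (m + 1) := (pow_succ p m).symm
    _ ≤ p ^ n := Nat.pow_le_pow_right hp.pos hlt

/-- If some element of `N_G(P)` does not centralize the Sylow `p`-subgroup `P`, then
`k_p(G) ≤ (p + 1) |P| / (2 p)`. -/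
theorem two_mul_prime_mul_card_classes_le [Finite G] {p : ℕ} [Fact p.Prime] (P : Sylow p G)
    (g : G) (hg : g ∈ Subgroup.normalizer ((P : Subgroup G) : Set G)) (h : G)
    (hh : h ∈ (P : Subgroup G)) (hne : ¬ Commute g h) :
    2 * p * Nat.card {c : ConjClasses G // ∀ x ∈ c.carrier, ∃ k : ℕ, orderOf x = p ^ k} ≤
      (p + 1) * Nat.card (P : Subgroup G) := by
  have hp := (Fact.out : p.Prime)
  let C : Subgroup G := (P : Subgroup G) ⊓ Subgroup.centralizer ({g} : Set G)
  have hCP : C ≤ (P : Subgroup G) := inf_le_left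
  have hCne : C ≠ (P : Subgroup G) := by
    intro heq
    have h1 : h ∈ C := heq ▸ hh
    have h2 := Subgroup.mem_centralizer_iff.mp h1.2 g (Set.mem_singleton g)
    exact hne h2
  have h1 := card_mul_prime_le_of_lt_sylow P C hCP hCne
  have h2 := card_prime_classes_le_of_fibre P C hCP 2 (by norm_num) (by
    intro a ha haC
    have hga : g * a * g⁻¹ ∈ (P : Subgroup G) := (Subgroup.mem_normalizer_iff.mp hg a).mp ha
    have hcent : g * a * g⁻¹ = a → a ∈ C := by
      intro h3
      refine Subgroup.mem_inf.mpr ⟨ha, ?_⟩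
      rw [Subgroup.mem_centralizer_iff]
      intro z hz
      rw [Set.mem_singleton_iff] at hz
      subst hz
      calc z * a = (z * a * z⁻¹) * z := by group
        _ = a * z := by rw [h3]
    refine ⟨![a, g * a * g⁻¹], ?_, ?_⟩
    · intro i j hij
      fin_cases i <;> fin_cases j
      · rfl
      · exact absurd (hcent (by simpa using hij.symm)) haC
      · exact absurd (hcent (by simpa using hij)) haC
      · rfl
    · intro i
      fin_cases i
      · exact ⟨ha, IsConj.refl a⟩
      · refine ⟨hga, ?_⟩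
        rw [isConj_iff]
        exact ⟨g, rfl⟩)
  have h3 : 2 * Nat.card {c : ConjClasses G // ∀ x ∈ c.carrier, ∃ k : ℕ, orderOf x = p ^ k} ≤
      Nat.card C + Nat.card (P : Subgroup G) := by simpa using h2
  calc 2 * p * Nat.card {c : ConjClasses G // ∀ x ∈ c.carrier, ∃ k : ℕ, orderOf x = p ^ k}
      = p * (2 * Nat.card {c : ConjClasses G // ∀ x ∈ c.carrier, ∃ k : ℕ, orderOf x = p ^ k}) := by
        ring
    _ ≤ p * (Nat.card C + Nat.card (P : Subgroup G)) := Nat.mul_le_mul_left p h3
    _ = Nat.card C * p + p * Nat.card (P : Subgroup G) := by ring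
    _ ≤ Nat.card (P : Subgroup G) + p * Nat.card (P : Subgroup G) := Nat.add_le_add_right h1 _
    _ = (p + 1) * Nat.card (P : Subgroup G) := by ring

theorem normalizer_le_centralizer_of_card_classes [Finite G] {p : ℕ} [Fact p.Prime]
    (P : Sylow p G)
    (hk : (p + 1) * Nat.card (P : Subgroup G) <
      2 * p * Nat.card {c : ConjClasses G // ∀ x ∈ c.carrier, ∃ k : ℕ, orderOf x = p ^ k}) :
    Subgroup.normalizer ((P : Subgroup G) : Set G) ≤
      Subgroup.centralizer ((P : Subgroup G) : Set G) := by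
  intro g hg
  rw [Subgroup.mem_centralizer_iff]
  intro h hh
  by_contra hne
  have := two_mul_prime_mul_card_classes_le P g hg h hh (fun hc => hne hc.eq.symm)
  omega

/-- If `k_p(G) > (p + 1) |P| / (2 p)`, then `P` is commutative and has a normal complement
containing the commutator subgroup. -/
theorem exists_normal_complement_of_card_classes [Finite G] {p : ℕ} [Fact p.Prime]
    (P : Sylow p G)
    (hk : (p + 1) * Nat.card (P : Subgroup G) <
      2 * p * Nat.card {c : ConjClasses G // ∀ x ∈ c.carrier, ∃ k : ℕ, orderOf x = p ^ k}) :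
    ∃ M : Subgroup G, M.Normal ∧ M.IsComplement' (P : Subgroup G) ∧ commutator G ≤ M ∧
      ∀ a ∈ (P : Subgroup G), ∀ b ∈ (P : Subgroup G), a * b = b * a := by
  have hP := normalizer_le_centralizer_of_card_classes P hk
  have hcomm : ∀ a ∈ (P : Subgroup G), ∀ b ∈ (P : Subgroup G), a * b = b * a := by
    intro a ha b hb
    have h1 := hP (Subgroup.le_normalizer hb)
    exact Subgroup.mem_centralizer_iff.mp h1 a ha
  refine ⟨(MonoidHom.transferSylow P hP).ker, inferInstance,
    MonoidHom.ker_transferSylow_isComplement' P hP, ?_, hcomm⟩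
  rw [commutator_eq_closure, Subgroup.closure_le]
  rintro _ ⟨a, b, rfl⟩
  rw [SetLike.mem_coe, MonoidHom.mem_ker, commutatorElement_def, map_mul, map_mul, map_mul,
    map_inv, map_inv]
  have h1 : MonoidHom.transferSylow P hP a * MonoidHom.transferSylow P hP b =
      MonoidHom.transferSylow P hP b * MonoidHom.transferSylow P hP a :=
    Subtype.ext (hcomm _ (MonoidHom.transferSylow P hP a).2 _ (MonoidHom.transferSylow P hP b).2)
  rw [h1]
  group

/-- Classes of a Sylow `p`-subgroup with a normal complement do not fuse. -/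
theorem card_conjClasses_le_of_complement_prime [Finite G] {p : ℕ} [Fact p.Prime] (P : Sylow p G)
    (K : Subgroup G) [hKn : K.Normal] (hK : K.IsComplement' (P : Subgroup G)) :
    Nat.card (ConjClasses (P : Subgroup G)) ≤
      Nat.card {c : ConjClasses G // ∀ x ∈ c.carrier, ∃ k : ℕ, orderOf x = p ^ k} := by
  have hp := (Fact.out : p.Prime)
  have hfus : ∀ z z' : (P : Subgroup G), IsConj (z : G) (z' : G) → IsConj z z' := by
    intro z z' hzz
    rw [isConj_iff] at hzz ⊢
    obtain ⟨g, hg⟩ := hzz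
    obtain ⟨⟨k, s⟩, hks⟩ := hK.2 g
    have hks' : (k : G) * (s : G) = g := hks
    have hw : (s : G) * z * (s : G)⁻¹ ∈ (P : Subgroup G) :=
      mul_mem (mul_mem s.2 z.2) (inv_mem s.2)
    have hmemK : (z' : G) * ((s : G) * z * (s : G)⁻¹)⁻¹ ∈ K := by
      have e : (z' : G) * ((s : G) * z * (s : G)⁻¹)⁻¹ =
          (k : G) * (((s : G) * z * (s : G)⁻¹) * (k : G)⁻¹ * ((s : G) * z * (s : G)⁻¹)⁻¹) := by
        rw [← hg, ← hks']; group
      rw [e]
      exact mul_mem k.2 (hKn.conj_mem _ (inv_mem k.2) _)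
    have hmemP : (z' : G) * ((s : G) * z * (s : G)⁻¹)⁻¹ ∈ (P : Subgroup G) :=
      mul_mem z'.2 (inv_mem hw)
    have h1 := Subgroup.disjoint_def.mp hK.disjoint hmemK hmemP
    have h2 : (z' : G) = (s : G) * z * (s : G)⁻¹ := mul_inv_eq_one.mp h1
    exact ⟨s, Subtype.ext (by simpa using h2.symm)⟩
  have hT : ∀ z : (P : Subgroup G), ∀ x ∈ (ConjClasses.mk (z : G)).carrier,
      ∃ k : ℕ, orderOf x = p ^ k := by
    intro z x hx
    rw [ConjClasses.mem_carrier_iff_mk_eq, ConjClasses.mk_eq_mk_iff_isConj, isConj_iff] at hx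
    obtain ⟨c, hc⟩ := hx
    obtain ⟨j, hj⟩ := P.isPGroup' z
    have hj' : (z : G) ^ p ^ j = 1 := by have := congrArg Subtype.val hj; simpa using this
    have ho : orderOf x = orderOf (z : G) := by
      rw [← hc, Cfsg.Agent.Helper70.orderOf_conj_eq]
    obtain ⟨i, -, hi⟩ := (Nat.dvd_prime_pow hp).mp (orderOf_dvd_of_pow_eq_one hj')
    exact ⟨i, by rw [ho, hi]⟩
  have hrep : ∀ d : ConjClasses (P : Subgroup G), ∃ z : (P : Subgroup G), ConjClasses.mk z = d :=
    ConjClasses.mk_surjective
  choose r hr using hrep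
  apply Nat.card_le_card_of_injective
    (fun d => (⟨ConjClasses.mk (r d : G), hT (r d)⟩ :
      {c : ConjClasses G // ∀ x ∈ c.carrier, ∃ k : ℕ, orderOf x = p ^ k}))
  intro d d' hdd
  simp only [Subtype.mk.injEq] at hdd
  rw [ConjClasses.mk_eq_mk_iff_isConj] at hdd
  have := hfus _ _ hdd
  rw [← hr d, ← hr d', ConjClasses.mk_eq_mk_iff_isConj]
  exact this

/-- The number of classes of `p`-elements is at most the order of a Sylow `p`-subgroup. -/
theorem card_prime_classes_le_card_sylow [Finite G] {p : ℕ} [Fact p.Prime] (P : Sylow p G) :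
    Nat.card {c : ConjClasses G // ∀ x ∈ c.carrier, ∃ k : ℕ, orderOf x = p ^ k} ≤
      Nat.card (P : Subgroup G) := by
  have h := card_prime_classes_le_of_fibre P (P : Subgroup G) le_rfl 1 le_rfl
    (fun a ha hna => absurd ha hna)
  simpa using h

end PClasses

end Cfsg.Agent.Helper64
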