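import Mathlib
import Cfsg.Agent.Helper64.PClasses

set_option autoImplicit false

namespace Cfsg.Agent.Helper64

universe u

section PiClasses

/-- Conjugacy classes of `π`-elements. -/
abbrev PiClasses (π : Finset ℕ) (H : Type*) [Group H] : Type _ :=
  {c : ConjClasses H // ∀ x ∈ c.carrier, ∀ r : ℕ, r.Prime → r ∣ orderOf x → r ∈ π}

/-- Conjugacy classes of `r`-elements. -/
abbrev PrimeClasses (r : ℕ) (H : Type*) [Group H] : Type _ :=
  {c : ConjClasses H // ∀ x ∈ c.carrier, ∃ k : ℕ, orderOf x = r ^ k}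

/-- The `π`-part of a natural number. -/
def piPart (π : Finset ℕ) (n : ℕ) : ℕ := π.prod (fun r => r ^ n.factorization r)

theorem piPart_pos (π : Finset ℕ) (hπ : ∀ r ∈ π, r.Prime) (n : ℕ) : 0 < piPart π n :=
  Finset.prod_pos (fun r hr => Nat.pow_pos (hπ r hr).pos)

theorem piPart_le_of_dvd (π : Finset ℕ) (hπ : ∀ r ∈ π, r.Prime) {m n : ℕ} (h : m ∣ n)
    (hn : n ≠ 0) : piPart π m ≤ piPart π n := by
  have hm : m ≠ 0 := by rintro rfl; exact hn (zero_dvd_iff.mp h)
  apply Finset.prod_le_prod (fun r _ => Nat.zero_le _)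
  intro r hr
  exact Nat.pow_le_pow_right (hπ r hr).pos ((Nat.factorization_le_iff_dvd hm hn).mpr h r)

theorem piPart_insert (π : Finset ℕ) (r : ℕ) (hr : r ∉ π) (n : ℕ) :
    piPart (insert r π) n = r ^ n.factorization r * piPart π n := by
  unfold piPart
  rw [Finset.prod_insert hr]

theorem piPart_erase (π : Finset ℕ) (r : ℕ) (hr : r ∈ π) (n : ℕ) :
    r ^ n.factorization r * piPart (π.erase r) n = piPart π n := by
  unfold piPart
  exact Finset.mul_prod_erase π (fun r => r ^ n.factorization r) hr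

variable {G : Type u} [Group G]

theorem orderOf_conj_eq' (g y : G) : orderOf (g * y * g⁻¹) = orderOf y := by
  rw [← MulAut.conj_apply, MulEquiv.orderOf_eq]

/-- Fibration of the classes of `π`-elements over the classes of `r`-elements. -/
theorem card_piClasses_insert_le [Finite G] (r : ℕ) (hr : r.Prime) (τ : Finset ℕ) (B : ℕ)
    (hB : ∀ u : G, Nat.card (PiClasses τ (Subgroup.centralizer ({u} : Set G))) ≤ B) :
    Nat.card (PiClasses (insert r τ) G) ≤ Nat.card (PrimeClasses r G) * B := by
  classical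
  have hrep : ∀ t : PrimeClasses r G, ∃ u : G, ConjClasses.mk u = t.1 :=
    fun t => ConjClasses.mk_surjective t.1
  choose rep hrep using hrep
  have hrep_ord : ∀ t, ∃ k : ℕ, orderOf (rep t) = r ^ k := fun t =>
    t.2 (rep t) (by rw [ConjClasses.mem_carrier_iff_mk_eq]; exact hrep t)
  have hout : ∀ (t : PrimeClasses r G)
      (d : PiClasses τ (Subgroup.centralizer ({rep t} : Set G))),
      ∃ v : Subgroup.centralizer ({rep t} : Set G), ConjClasses.mk v = d.1 :=
    fun t d => ConjClasses.mk_surjective d.1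
  choose out hout using hout
  have hout_ord : ∀ t d, ∀ q : ℕ, q.Prime → q ∣ orderOf ((out t d : G)) → q ∈ τ := by
    intro t d q hq hdvd
    rw [Subgroup.orderOf_coe] at hdvd
    exact d.2 (out t d) (by rw [ConjClasses.mem_carrier_iff_mk_eq]; exact hout t d) q hq hdvd
  have hcomm : ∀ t d, Commute (rep t) ((out t d : G)) := by
    intro t d
    exact Subgroup.mem_centralizer_iff.mp (out t d).2 (rep t) (Set.mem_singleton _)
  have hF : ∀ (t : PrimeClasses r G) (d : PiClasses τ (Subgroup.centralizer ({rep t} : Set G))),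
      ∀ x ∈ (ConjClasses.mk (rep t * (out t d : G))).carrier, ∀ q : ℕ, q.Prime →
        q ∣ orderOf x → q ∈ insert r τ := by
    intro t d x hx q hq hdvd
    rw [ConjClasses.mem_carrier_iff_mk_eq, ConjClasses.mk_eq_mk_iff_isConj, isConj_iff] at hx
    obtain ⟨c, hc⟩ := hx
    have ho : orderOf x = orderOf (rep t * (out t d : G)) := by
      rw [← hc, orderOf_conj_eq']
    rw [ho] at hdvd
    have h2 : q ∣ orderOf (rep t) * orderOf ((out t d : G)) :=
      (hdvd.trans (hcomm t d).orderOf_mul_dvd_lcm).trans (Nat.lcm_dvd_mul _ _)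
    obtain ⟨k, hk⟩ := hrep_ord t
    rcases (Nat.Prime.dvd_mul hq).mp h2 with h3 | h3
    · rw [hk] at h3
      have h4 := hq.dvd_of_dvd_pow h3
      rw [(Nat.prime_dvd_prime_iff_eq hq hr).mp h4]
      exact Finset.mem_insert_self r τ
    · exact Finset.mem_insert_of_mem (hout_ord t d q hq h3)
  let F : (Σ t : PrimeClasses r G, PiClasses τ (Subgroup.centralizer ({rep t} : Set G))) →
      PiClasses (insert r τ) G :=
    fun td => ⟨ConjClasses.mk (rep td.1 * (out td.1 td.2 : G)), hF td.1 td.2⟩
  have hsurj : Function.Surjective F := by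
    rintro ⟨c, hc⟩
    obtain ⟨x, rfl⟩ := ConjClasses.mk_surjective c
    have hxπ : ∀ q : ℕ, q.Prime → q ∣ orderOf x → q ∈ insert r τ :=
      hc x ConjClasses.mem_carrier_mk
    have hn0 : orderOf x ≠ 0 := (orderOf_pos x).ne'
    obtain ⟨a, m, hm, hnm⟩ := Nat.exists_eq_pow_mul_and_not_dvd hn0 r hr.ne_one
    have hcop : Nat.Coprime (r ^ a) m := Nat.Coprime.pow_left a ((Nat.Prime.coprime_iff_not_dvd hr).mpr hm)
    have hbez : ((r ^ a : ℕ) : ℤ) * Nat.gcdA (r ^ a) m + (m : ℤ) * Nat.gcdB (r ^ a) m = 1 := by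
      have := Nat.gcd_eq_gcd_ab (r ^ a) m
      rw [hcop] at this
      exact_mod_cast this.symm
    set A : ℤ := Nat.gcdA (r ^ a) m
    set Bz : ℤ := Nat.gcdB (r ^ a) m
    let u' : G := x ^ ((m : ℤ) * Bz)
    let v' : G := x ^ (((r ^ a : ℕ) : ℤ) * A)
    have hxuv : x = u' * v' := by
      show x = x ^ ((m : ℤ) * Bz) * x ^ (((r ^ a : ℕ) : ℤ) * A)
      rw [← zpow_add, add_comm, hbez, zpow_one]
    have hu'v' : Commute u' v' := (Commute.refl x).zpow_zpow _ _
    have hxn : x ^ (r ^ a * m) = 1 := by rw [← hnm]; exact pow_orderOf_eq_one x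
    have hu'pow : u' ^ (r ^ a) = 1 := by
      show (x ^ ((m : ℤ) * Bz)) ^ (r ^ a) = 1
      rw [← zpow_natCast, ← zpow_mul]
      have e : (m : ℤ) * Bz * ((r ^ a : ℕ) : ℤ) = (((r ^ a * m : ℕ)) : ℤ) * Bz := by
        push_cast; ring
      rw [e, zpow_mul, zpow_natCast, hxn, one_zpow]
    have hv'pow : v' ^ m = 1 := by
      show (x ^ (((r ^ a : ℕ) : ℤ) * A)) ^ m = 1
      rw [← zpow_natCast, ← zpow_mul]
      have e : ((r ^ a : ℕ) : ℤ) * A * (m : ℤ) = (((r ^ a * m : ℕ)) : ℤ) * A := by
        push_cast; ring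
      rw [e, zpow_mul, zpow_natCast, hxn, one_zpow]
    have hu'ord : ∃ k : ℕ, orderOf u' = r ^ k := by
      obtain ⟨k, -, hk⟩ := (Nat.dvd_prime_pow hr).mp (orderOf_dvd_of_pow_eq_one hu'pow)
      exact ⟨k, hk⟩
    have hv'ord : ∀ q : ℕ, q.Prime → q ∣ orderOf v' → q ∈ τ := by
      intro q hq hdvd
      have h1 : q ∣ m := hdvd.trans (orderOf_dvd_of_pow_eq_one hv'pow)
      have h2 : q ∣ orderOf x := by rw [hnm]; exact h1.trans (dvd_mul_left m (r ^ a))
      have h3 := hxπ q hq h2
      rcases Finset.mem_insert.mp h3 with h4 | h4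
      · exfalso; rw [h4] at h1; exact hm h1
      · exact h4
    -- the class of `u'`
    have hT : ∀ y ∈ (ConjClasses.mk u').carrier, ∃ k : ℕ, orderOf y = r ^ k := by
      intro y hy
      rw [ConjClasses.mem_carrier_iff_mk_eq, ConjClasses.mk_eq_mk_iff_isConj, isConj_iff] at hy
      obtain ⟨c, hc⟩ := hy
      obtain ⟨k, hk⟩ := hu'ord
      exact ⟨k, by rw [← hk, ← hc, orderOf_conj_eq']⟩
    let t : PrimeClasses r G := ⟨ConjClasses.mk u', hT⟩
    have ht : ConjClasses.mk (rep t) = ConjClasses.mk u' := hrep t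
    rw [ConjClasses.mk_eq_mk_iff_isConj, isConj_iff] at ht
    obtain ⟨g, hg⟩ := ht
    -- `hg : g * rep t * g⁻¹ = u'`
    let v : G := g⁻¹ * v' * g
    have hvC : v ∈ Subgroup.centralizer ({rep t} : Set G) := by
      rw [Subgroup.mem_centralizer_iff]
      intro z hz
      rw [Set.mem_singleton_iff] at hz
      subst hz
      have e1 : rep t = g⁻¹ * u' * g := by rw [← hg]; group
      show rep t * (g⁻¹ * v' * g) = g⁻¹ * v' * g * rep t
      rw [e1]
      calc g⁻¹ * u' * g * (g⁻¹ * v' * g) = g⁻¹ * (u' * v') * g := by group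
        _ = g⁻¹ * (v' * u') * g := by rw [hu'v'.eq]
        _ = g⁻¹ * v' * g * (g⁻¹ * u' * g) := by group
    have hvord : orderOf v = orderOf v' := by
      have := orderOf_conj_eq' g⁻¹ v'
      simpa [v] using this
    have hD : ∀ y ∈ (ConjClasses.mk (⟨v, hvC⟩ : Subgroup.centralizer ({rep t} : Set G))).carrier,
        ∀ q : ℕ, q.Prime → q ∣ orderOf y → q ∈ τ := by
      intro y hy q hq hdvd
      rw [ConjClasses.mem_carrier_iff_mk_eq, ConjClasses.mk_eq_mk_iff_isConj, isConj_iff] at hy
      obtain ⟨c, hc⟩ := hy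
      have h1 : orderOf y = orderOf (⟨v, hvC⟩ : Subgroup.centralizer ({rep t} : Set G)) := by
        rw [← hc, orderOf_conj_eq']
      rw [h1, ← Subgroup.orderOf_coe] at hdvd
      exact hv'ord q hq (hvord ▸ hdvd)
    let d : PiClasses τ (Subgroup.centralizer ({rep t} : Set G)) :=
      ⟨ConjClasses.mk (⟨v, hvC⟩ : Subgroup.centralizer ({rep t} : Set G)), hD⟩
    refine ⟨⟨t, d⟩, ?_⟩
    apply Subtype.ext
    show ConjClasses.mk (rep t * (out t d : G)) = ConjClasses.mk x
    have hd : ConjClasses.mk (out t d) =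
        ConjClasses.mk (⟨v, hvC⟩ : Subgroup.centralizer ({rep t} : Set G)) := hout t d
    rw [ConjClasses.mk_eq_mk_iff_isConj, isConj_iff] at hd
    obtain ⟨c, hc⟩ := hd
    have hc' : (c : G) * (out t d : G) * (c : G)⁻¹ = v := by
      have := congrArg Subtype.val hc
      simpa using this
    have hcc : (c : G) * rep t = rep t * (c : G) :=
      (Subgroup.mem_centralizer_iff.mp c.2 (rep t) (Set.mem_singleton _)).symm
    rw [ConjClasses.mk_eq_mk_iff_isConj, isConj_iff]
    refine ⟨g * (c : G), ?_⟩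
    calc g * (c : G) * (rep t * (out t d : G)) * (g * (c : G))⁻¹
        = g * ((c : G) * rep t) * (out t d : G) * (c : G)⁻¹ * g⁻¹ := by group
      _ = g * (rep t * (c : G)) * (out t d : G) * (c : G)⁻¹ * g⁻¹ := by rw [hcc]
      _ = (g * rep t * g⁻¹) * (g * ((c : G) * (out t d : G) * (c : G)⁻¹) * g⁻¹) := by group
      _ = u' * (g * v * g⁻¹) := by rw [hg, hc']
      _ = u' * v' := by
          congr 1
          show g * (g⁻¹ * v' * g) * g⁻¹ = v'
          group
      _ = x := hxuv.symm
  haveI : Fintype (PrimeClasses r G) := Fintype.ofFinite _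
  have h1 := Nat.card_le_card_of_surjective F hsurj
  rw [Nat.card_sigma] at h1
  refine h1.trans ?_
  calc ∑ t : PrimeClasses r G, Nat.card (PiClasses τ (Subgroup.centralizer ({rep t} : Set G)))
      ≤ ∑ _t : PrimeClasses r G, B := Finset.sum_le_sum (fun t _ => hB (rep t))
    _ = Nat.card (PrimeClasses r G) * B := by
        rw [Finset.sum_const, Finset.card_univ, Nat.card_eq_fintype_card, smul_eq_mul]

/-- The number of classes of `π`-elements is at most the `π`-part of the group order. -/
theorem card_piClasses_le_piPart : ∀ (π : Finset ℕ), (∀ r ∈ π, r.Prime) →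
    ∀ (H : Type u) [Group H] [Finite H], Nat.card (PiClasses π H) ≤ piPart π (Nat.card H) := by
  classical
  intro π
  induction π using Finset.induction_on with
  | empty =>
    intro _ H _ _
    have hsub : Subsingleton (PiClasses ∅ H) := by
      constructor
      rintro ⟨c, hc⟩ ⟨c', hc'⟩
      apply Subtype.ext
      have key : ∀ c : ConjClasses H, (∀ x ∈ c.carrier, ∀ r : ℕ, r.Prime → r ∣ orderOf x →
          r ∈ (∅ : Finset ℕ)) → c = ConjClasses.mk 1 := by
        intro c hc
        obtain ⟨x, rfl⟩ := ConjClasses.mk_surjective c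
        have h1 := hc x ConjClasses.mem_carrier_mk
        have h2 : orderOf x = 1 := by
          by_contra hne
          obtain ⟨q, hq, hqd⟩ := Nat.exists_prime_and_dvd hne
          exact absurd (h1 q hq hqd) (Finset.notMem_empty q)
        rw [orderOf_eq_one_iff.mp h2]
      exact (key c hc).trans (key c' hc').symm
    have h1 : Nat.card (PiClasses ∅ H) ≤ 1 := Finite.card_le_one_iff_subsingleton.mpr hsub
    simpa [piPart] using h1
  | insert r τ hrτ ih =>
    intro hπ H _ _
    have hr : r.Prime := hπ r (Finset.mem_insert_self r τ)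
    have hτ : ∀ q ∈ τ, q.Prime := fun q hq => hπ q (Finset.mem_insert_of_mem hq)
    haveI : Fact r.Prime := ⟨hr⟩
    have hB : ∀ u : H, Nat.card (PiClasses τ (Subgroup.centralizer ({u} : Set H))) ≤
        piPart τ (Nat.card H) := by
      intro u
      refine (ih hτ (Subgroup.centralizer ({u} : Set H))).trans ?_
      exact piPart_le_of_dvd τ hτ (Subgroup.card_subgroup_dvd_card _) Nat.card_pos.ne'
    have h1 := card_piClasses_insert_le r hr τ (piPart τ (Nat.card H)) hB
    obtain ⟨P⟩ : Nonempty (Sylow r H) := inferInstance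
    have h2 := card_prime_classes_le_card_sylow P
    rw [Sylow.card_eq_multiplicity] at h2
    rw [piPart_insert τ r hrτ]
    exact h1.trans (Nat.mul_le_mul_right _ h2)

theorem card_piClasses_le_mul [Finite G] (π : Finset ℕ) (hπ : ∀ r ∈ π, r.Prime) (r : ℕ)
    (hr : r ∈ π) :
    Nat.card (PiClasses π G) ≤
      Nat.card (PrimeClasses r G) * piPart (π.erase r) (Nat.card G) := by
  classical
  have hτ : ∀ q ∈ π.erase r, q.Prime := fun q hq => hπ q (Finset.mem_of_mem_erase hq)
  have h1 := card_piClasses_insert_le (G := G) r (hπ r hr) (π.erase r)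
    (piPart (π.erase r) (Nat.card G)) (by
      intro u
      refine (card_piClasses_le_piPart (π.erase r) hτ (Subgroup.centralizer ({u} : Set G))).trans ?_
      exact piPart_le_of_dvd _ hτ (Subgroup.card_subgroup_dvd_card _) Nat.card_pos.ne')
  rw [Finset.insert_erase hr] at h1
  exact h1

/-- The index of an intersection of normal subgroups divides the product of the indices. -/
theorem index_inf_dvd_mul_of_normal (H K : Subgroup G) [K.Normal] :
    (H ⊓ K).index ∣ H.index * K.index := by
  rw [← Subgroup.relIndex_mul_index (inf_le_left : H ⊓ K ≤ H), Subgroup.inf_relIndex_left,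
    mul_comm]
  exact Nat.mul_dvd_mul_left _ (Subgroup.relIndex_dvd_index_of_normal K H)

theorem index_iInf_dvd_prod_of_normal {ι : Type*} (s : Finset ι) (M : ι → Subgroup G)
    (hM : ∀ i ∈ s, (M i).Normal) : (⨅ i ∈ s, M i).index ∣ ∏ i ∈ s, (M i).index := by
  classical
  induction s using Finset.induction_on with
  | empty => simp
  | insert a s ha ih =>
    rw [Finset.iInf_insert, Finset.prod_insert ha, inf_comm, mul_comm]
    haveI : (M a).Normal := hM a (Finset.mem_insert_self a s)
    exact (index_inf_dvd_mul_of_normal _ (M a)).trans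
      (Nat.mul_dvd_mul_right (ih (fun i hi => hM i (Finset.mem_insert_of_mem hi))) _)

end PiClasses

end Cfsg.Agent.Helper64
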