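import Mathlib
import Cfsg.Prelude.Def_OddOrderLocal
import Cfsg.Agent.Helper64.PiClasses

set_option autoImplicit false

namespace Cfsg.Agent.Helper64

universe u

section PiComplement

open scoped commutatorElement

variable {G : Type u} [Group G]

/-- A family of normal `r`-complements (`r ∈ π`) containing the commutator subgroup yields a
normal `π`-complement and an abelian Hall `π`-subgroup. -/
theorem pi_complement_of_family [Finite G] (π : Finset ℕ) (hπ : ∀ r ∈ π, r.Prime)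
    (M : ℕ → Subgroup G) (hMn : ∀ r ∈ π, (M r).Normal) (hMc : ∀ r ∈ π, commutator G ≤ M r)
    (hMcop : ∀ r ∈ π, (Nat.card (M r)).Coprime r) (hMi : ∀ r ∈ π, ∃ a : ℕ, (M r).index = r ^ a) :
    (⨅ r ∈ π, M r).Normal ∧ (∀ r : ℕ, r.Prime → r ∣ Nat.card ↥(⨅ r ∈ π, M r) → r ∉ π) ∧
      (∀ r : ℕ, r.Prime → r ∣ (⨅ r ∈ π, M r).index → r ∈ π) ∧
      ∃ H : Subgroup G, Cfsg.IsPiHall (↑π : Set ℕ) H ∧ IsMulCommutative ↥H := by
  set N : Subgroup G := ⨅ r ∈ π, M r with hN
  have hNn : N.Normal :=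
    Subgroup.normal_iInf_normal (fun r => Subgroup.normal_iInf_normal (fun h => hMn r h))
  have hNle : ∀ r ∈ π, N ≤ M r := fun r hr => iInf₂_le r hr
  have h1 : ∀ r : ℕ, r.Prime → r ∣ Nat.card N → r ∉ π := by
    intro r hr hdvd hrπ
    have h2 : r ∣ Nat.card (M r) := hdvd.trans (Subgroup.card_dvd_of_le (hNle r hrπ))
    have h3 := Nat.Coprime.eq_one_of_dvd (hMcop r hrπ).symm h2
    exact hr.one_lt.ne' h3
  have h2 : ∀ r : ℕ, r.Prime → r ∣ N.index → r ∈ π := by
    intro q hq hdvd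
    have h3 := hdvd.trans (index_iInf_dvd_prod_of_normal π M hMn)
    obtain ⟨r, hr, hqr⟩ := (Prime.dvd_finset_prod_iff (Nat.Prime.prime hq) _).mp h3
    obtain ⟨a, ha⟩ := hMi r hr
    rw [ha] at hqr
    have h4 := hq.dvd_of_dvd_pow hqr
    rw [(Nat.prime_dvd_prime_iff_eq hq (hπ r hr)).mp h4]
    exact hr
  refine ⟨hNn, h1, h2, ?_⟩
  have hcop : Nat.Coprime (Nat.card N) N.index :=
    Nat.coprime_of_dvd (fun q hq hd1 hd2 => h1 q hq hd1 (h2 q hq hd2))
  haveI := hNn
  obtain ⟨H, hH⟩ := Subgroup.exists_right_complement'_of_coprime hcop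
  refine ⟨H, ⟨?_, ?_⟩, ?_⟩
  · intro q hq hdvd
    rw [← hH.symm.index_eq_card] at hdvd
    exact Finset.mem_coe.mpr (h2 q hq hdvd)
  · intro q hq hqπ hdvd
    rw [hH.index_eq_card] at hdvd
    exact h1 q hq hdvd (Finset.mem_coe.mp hqπ)
  · refine ⟨⟨fun a b => ?_⟩⟩
    have hcomm : ⁅(a : G), (b : G)⁆ ∈ N := by
      have h3 : ⁅(a : G), (b : G)⁆ ∈ commutator G :=
        Subgroup.commutator_mem_commutator (Subgroup.mem_top _) (Subgroup.mem_top _)
      exact (le_iInf₂ (fun r hr => hMc r hr) : commutator G ≤ N) h3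
    have hH' : ⁅(a : G), (b : G)⁆ ∈ H := by
      rw [commutatorElement_def]
      exact H.mul_mem (H.mul_mem (H.mul_mem a.2 b.2) (H.inv_mem a.2)) (H.inv_mem b.2)
    have h3 := Subgroup.disjoint_def.mp hH.disjoint hcomm hH'
    exact Subtype.ext (commutatorElement_eq_one_iff_mul_comm.mp h3)

/-- If `k_π(G) > (p + 1) |G|_π / (2 p)` for the smallest member `p` of `π`, then `G` has a normal
`π`-complement and an abelian Hall `π`-subgroup. -/
theorem pi_complement_of_card_classes [Finite G] (π : Finset ℕ) (hπ : ∀ r ∈ π, r.Prime) (p : ℕ)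
    (hp : p ∈ π) (hmin : ∀ r ∈ π, p ≤ r)
    (hk : (p + 1) * piPart π (Nat.card G) < 2 * p * Nat.card (PiClasses π G)) :
    (∃ N : Subgroup G, N.Normal ∧ (∀ r : ℕ, r.Prime → r ∣ Nat.card ↥N → r ∉ π) ∧
      ∀ r : ℕ, r.Prime → r ∣ N.index → r ∈ π) ∧
    ∃ H : Subgroup G, Cfsg.IsPiHall (↑π : Set ℕ) H ∧ IsMulCommutative ↥H := by
  classical
  have hpp : p.Prime := hπ p hp
  have key : ∀ r ∈ π, ∃ M : Subgroup G, M.Normal ∧ commutator G ≤ M ∧ (Nat.card M).Coprime r ∧
      ∃ a : ℕ, M.index = r ^ a := by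
    intro r hr
    have hrp := hπ r hr
    haveI : Fact r.Prime := ⟨hrp⟩
    obtain ⟨P⟩ : Nonempty (Sylow r G) := inferInstance
    have h1 := card_piClasses_le_mul (G := G) π hπ r hr
    have h2 := piPart_erase π r hr (Nat.card G)
    have hE : 0 < piPart (π.erase r) (Nat.card G) :=
      piPart_pos _ (fun q hq => hπ q (Finset.mem_of_mem_erase hq)) _
    have hPc : Nat.card (P : Subgroup G) = r ^ (Nat.card G).factorization r :=
      Sylow.card_eq_multiplicity P
    have hpr : p ≤ r := hmin r hr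
    have hcpos : 0 < Nat.card (P : Subgroup G) := Nat.card_pos
    have h3 : (r + 1) * Nat.card (P : Subgroup G) < 2 * r * Nat.card (PrimeClasses r G) := by
      rw [← h2, ← hPc] at hk
      have h4 : (p + 1) * (Nat.card (P : Subgroup G) * piPart (π.erase r) (Nat.card G)) <
          2 * p * (Nat.card (PrimeClasses r G) * piPart (π.erase r) (Nat.card G)) :=
        lt_of_lt_of_le hk (Nat.mul_le_mul_left _ h1)
      have h5 : (p + 1) * Nat.card (P : Subgroup G) < 2 * p * Nat.card (PrimeClasses r G) := by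
        by_contra hcon
        push Not at hcon
        have h6 := Nat.mul_le_mul_right (piPart (π.erase r) (Nat.card G)) hcon
        nlinarith
      by_contra hcon
      push Not at hcon
      have h7 := Nat.mul_lt_mul_of_pos_right h5 hrp.pos
      have h8 := Nat.mul_le_mul_left p hcon
      have h9 := Nat.mul_le_mul_right (Nat.card (P : Subgroup G)) hpr
      nlinarith
    obtain ⟨M, hMn, hMc, hcomm, -⟩ := exists_normal_complement_of_card_classes P h3
    refine ⟨M, hMn, hcomm, ?_, (Nat.card G).factorization r, ?_⟩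
    · rw [← hMc.index_eq_card]
      exact ((Nat.Prime.coprime_iff_not_dvd hrp).mpr P.not_dvd_index).symm
    · rw [hMc.symm.index_eq_card, hPc]
  choose! M hM using key
  obtain ⟨hNn, h1, h2, hH⟩ := pi_complement_of_family π hπ M (fun r hr => (hM r hr).1)
    (fun r hr => (hM r hr).2.1) (fun r hr => (hM r hr).2.2.1) (fun r hr => (hM r hr).2.2.2)
  exact ⟨⟨_, hNn, h1, h2⟩, hH⟩

end PiComplement

end Cfsg.Agent.Helper64
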