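import Mathlib
import Cfsg.Prelude.Def_OddOrderLocal
import Cfsg.Prelude.Def_Transfer
import Cfsg.Agent.Helper64.PiComplement

set_option autoImplicit false

namespace Cfsg.Agent.Helper64

universe u

section PiTwo

open scoped commutatorElement

variable {G : Type u} [Group G]

/-- An element whose order is coprime to the index of a normal subgroup lies in it. -/
theorem mem_of_coprime_index (K : Subgroup G) [K.Normal] (x : G)
    (h : (orderOf x).Coprime K.index) : x ∈ K := by
  obtain ⟨m, hm⟩ := exists_pow_eq_self_of_coprime h.symm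
  rw [← hm]
  exact K.pow_mem (K.pow_index_mem x) m

/-- If `v ^ m = 1`, `j` is coprime to `m` and `v ^ j` commutes with `a`, then `v` commutes
with `a`. -/
theorem commute_of_pow_commute {v a : G} {m j : ℕ} (hv : v ^ m = 1) (hj : j.Coprime m)
    (hc : Commute (v ^ j) a) : Commute v a := by
  have h1 : j.Coprime (orderOf v) :=
    Nat.Coprime.coprime_dvd_right (orderOf_dvd_of_pow_eq_one hv) hj
  obtain ⟨s, hs⟩ := exists_pow_eq_self_of_coprime h1
  rw [← hs]
  exact hc.pow_left s

theorem conj_pow_injective {v a : G} {m d : ℕ} (hv : v ^ m = 1)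
    (hd : ∀ j, 0 < j → j < d → j.Coprime m) (hne : ¬ Commute v a) :
    Function.Injective (fun i : Fin d => v ^ (i : ℕ) * a * (v ^ (i : ℕ))⁻¹) := by
  have key : ∀ i i' : Fin d, (i : ℕ) < (i' : ℕ) →
      v ^ (i : ℕ) * a * (v ^ (i : ℕ))⁻¹ = v ^ (i' : ℕ) * a * (v ^ (i' : ℕ))⁻¹ → False := by
    intro i i' hlt h
    apply hne
    have hj := hd ((i' : ℕ) - (i : ℕ)) (by omega) (by have := i'.2; omega)
    apply commute_of_pow_commute hv hj
    have e : v ^ (i' : ℕ) = v ^ (i : ℕ) * v ^ ((i' : ℕ) - (i : ℕ)) := by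
      rw [← pow_add]; congr 1; omega
    rw [e] at h
    have h2 : a = v ^ ((i' : ℕ) - (i : ℕ)) * a * (v ^ ((i' : ℕ) - (i : ℕ)))⁻¹ := by
      calc a = (v ^ (i : ℕ))⁻¹ * (v ^ (i : ℕ) * a * (v ^ (i : ℕ))⁻¹) * v ^ (i : ℕ) := by group
        _ = (v ^ (i : ℕ))⁻¹ * (v ^ (i : ℕ) * v ^ ((i' : ℕ) - (i : ℕ)) * a *
              (v ^ (i : ℕ) * v ^ ((i' : ℕ) - (i : ℕ)))⁻¹) * v ^ (i : ℕ) := by rw [h]
        _ = v ^ ((i' : ℕ) - (i : ℕ)) * a * (v ^ ((i' : ℕ) - (i : ℕ)))⁻¹ := by group
    show v ^ ((i' : ℕ) - (i : ℕ)) * a = a * v ^ ((i' : ℕ) - (i : ℕ))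
    calc v ^ ((i' : ℕ) - (i : ℕ)) * a
        = (v ^ ((i' : ℕ) - (i : ℕ)) * a * (v ^ ((i' : ℕ) - (i : ℕ)))⁻¹) *
            v ^ ((i' : ℕ) - (i : ℕ)) := by group
      _ = a * v ^ ((i' : ℕ) - (i : ℕ)) := by rw [← h2]
  intro i i' h
  by_contra hii
  have hne' : (i : ℕ) ≠ (i' : ℕ) := fun h' => hii (Fin.ext h')
  rcases Nat.lt_or_gt_of_ne hne' with hlt | hlt
  · exact key i i' hlt h
  · exact key i' i hlt h.symm

/-- If `v ∈ N_G(R)` with `v ^ m = 1` does not centralize the Sylow `r`-subgroup `R`, and every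
`0 < j < d` is coprime to `m`, then `k_r(G) ≤ (d - 1 + r) |R| / (d r)`. -/
theorem mul_card_prime_classes_le_of_normalizer [Finite G] {r : ℕ} [Fact r.Prime] (R : Sylow r G)
    (v : G) (hv : v ∈ Subgroup.normalizer ((R : Subgroup G) : Set G)) (m d : ℕ) (hd1 : 1 ≤ d)
    (hvm : v ^ m = 1) (hd : ∀ j, 0 < j → j < d → j.Coprime m) (h : G)
    (hh : h ∈ (R : Subgroup G)) (hne : ¬ Commute v h) :
    d * r * Nat.card (PrimeClasses r G) ≤ (d - 1 + r) * Nat.card (R : Subgroup G) := by
  let C : Subgroup G := (R : Subgroup G) ⊓ Subgroup.centralizer ({v} : Set G)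
  have hCR : C ≤ (R : Subgroup G) := inf_le_left
  have hCne : C ≠ (R : Subgroup G) := by
    intro heq
    have h1 : h ∈ C := heq ▸ hh
    have h2 := Subgroup.mem_centralizer_iff.mp h1.2 v (Set.mem_singleton v)
    exact hne h2
  have h1 := card_mul_prime_le_of_lt_sylow R C hCR hCne
  have h2 := card_prime_classes_le_of_fibre R C hCR d hd1 (by
    intro a ha haC
    have hnc : ¬ Commute v a := by
      intro hc
      apply haC
      refine Subgroup.mem_inf.mpr ⟨ha, ?_⟩
      rw [Subgroup.mem_centralizer_iff]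
      intro z hz
      rw [Set.mem_singleton_iff] at hz
      subst hz
      exact hc.eq
    refine ⟨fun i : Fin d => v ^ (i : ℕ) * a * (v ^ (i : ℕ))⁻¹,
      conj_pow_injective hvm hd hnc, fun i => ⟨?_, ?_⟩⟩
    · have hvi : v ^ (i : ℕ) ∈ Subgroup.normalizer ((R : Subgroup G) : Set G) :=
        Subgroup.pow_mem _ hv _
      exact (Subgroup.mem_normalizer_iff.mp hvi a).mp ha
    · rw [isConj_iff]
      exact ⟨v ^ (i : ℕ), rfl⟩)
  have h3 : d * Nat.card (PrimeClasses r G) ≤ (d - 1) * Nat.card C +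
      Nat.card (R : Subgroup G) := h2
  calc d * r * Nat.card (PrimeClasses r G) = r * (d * Nat.card (PrimeClasses r G)) := by ring
    _ ≤ r * ((d - 1) * Nat.card C + Nat.card (R : Subgroup G)) := Nat.mul_le_mul_left r h3
    _ = (d - 1) * (Nat.card C * r) + r * Nat.card (R : Subgroup G) := by ring
    _ ≤ (d - 1) * Nat.card (R : Subgroup G) + r * Nat.card (R : Subgroup G) :=
        Nat.add_le_add_right (Nat.mul_le_mul_left _ h1) _
    _ = (d - 1 + r) * Nat.card (R : Subgroup G) := by ring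

theorem isPGroup_zpowers_of_pow_prime_pow_eq_one {r : ℕ} (hr : r.Prime) {z : G} {k : ℕ}
    (hz : z ^ r ^ k = 1) : IsPGroup r (Subgroup.zpowers z) := by
  obtain ⟨j, -, hj⟩ := (Nat.dvd_prime_pow hr).mp (orderOf_dvd_of_pow_eq_one hz)
  exact IsPGroup.of_card (n := j) (by rw [Nat.card_zpowers, hj])

/-- If `k_r(G) > |R| / 2` for an odd prime `r`, then the Sylow `r`-subgroup `R` is commutative
and the elements of odd order of its normalizer centralize it. -/
theorem commute_of_odd_normalizer [Finite G] {r : ℕ} [Fact r.Prime] (hr2 : r ≠ 2) (R : Sylow r G)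
    (hk : Nat.card (R : Subgroup G) < 2 * Nat.card (PrimeClasses r G)) :
    (∀ a ∈ (R : Subgroup G), ∀ b ∈ (R : Subgroup G), a * b = b * a) ∧
      ∀ w ∈ Subgroup.normalizer ((R : Subgroup G) : Set G), Odd (orderOf w) →
        ∀ h ∈ (R : Subgroup G), Commute w h := by
  have hrp := (Fact.out : r.Prime)
  have hr3 : 3 ≤ r := by
    have := hrp.two_le
    omega
  have hrodd : Nat.Coprime 2 r := (Nat.coprime_primes Nat.prime_two hrp).mpr (Ne.symm hr2)
  have hab : ∀ a ∈ (R : Subgroup G), ∀ b ∈ (R : Subgroup G), a * b = b * a := by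
    by_contra hcon
    have hnc : ¬ ∀ a b : (R : Subgroup G), a * b = b * a := by
      intro hall
      apply hcon
      intro a ha b hb
      have := congrArg Subtype.val (hall ⟨a, ha⟩ ⟨b, hb⟩)
      simpa using this
    let Z : Subgroup (R : Subgroup G) := Subgroup.center (R : Subgroup G)
    obtain ⟨j, hj⟩ := R.isPGroup'.index Z
    have hj2 : 2 ≤ j := by
      by_contra hlt
      apply hnc
      have hcq : IsCyclic ((R : Subgroup G) ⧸ Z) := by
        have hcardq : Nat.card ((R : Subgroup G) ⧸ Z) = r ^ j := hj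
        have hj01 : j = 0 ∨ j = 1 := by omega
        rcases hj01 with rfl | rfl
        · rw [pow_zero] at hcardq
          haveI : Subsingleton ((R : Subgroup G) ⧸ Z) :=
            (Nat.card_eq_one_iff_unique.mp hcardq).1
          infer_instance
        · rw [pow_one] at hcardq
          exact isCyclic_of_prime_card hcardq
      exact ((QuotientGroup.mk' Z).isMulCommutative_of_isCyclic_of_ker_le_center
        (by rw [QuotientGroup.ker_mk'])).is_comm.comm
    have hZcard : Nat.card Z * r ^ 2 ≤ Nat.card (R : Subgroup G) := by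
      rw [← Z.card_mul_index, hj]
      exact Nat.mul_le_mul_left _ (Nat.pow_le_pow_right hrp.pos hj2)
    let ZG : Subgroup G := Z.map (R : Subgroup G).subtype
    have hZG : ZG ≤ (R : Subgroup G) := by
      rintro _ ⟨z, -, rfl⟩
      exact z.2
    have hZGcard : Nat.card ZG = Nat.card Z :=
      Subgroup.card_map_of_injective (Subgroup.subtype_injective _)
    have h2 := card_prime_classes_le_of_fibre R ZG hZG 3 (by norm_num) (by
      intro a ha haZ
      have hex : ∃ b ∈ (R : Subgroup G), ¬ Commute b a := by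
        by_contra hall
        push Not at hall
        apply haZ
        refine ⟨⟨a, ha⟩, ?_, rfl⟩
        rw [SetLike.mem_coe, Subgroup.mem_center_iff]
        intro b
        exact Subtype.ext (hall b b.2).eq
      obtain ⟨b, hb, hbc⟩ := hex
      obtain ⟨i, hi⟩ := R.isPGroup' ⟨b, hb⟩
      have hi' : b ^ r ^ i = 1 := by
        have := congrArg Subtype.val hi
        simpa using this
      refine ⟨fun t : Fin 3 => b ^ (t : ℕ) * a * (b ^ (t : ℕ))⁻¹,
        conj_pow_injective hi' ?_ hbc, fun t => ⟨?_, ?_⟩⟩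
      · intro j hj0 hj3
        have hj12 : j = 1 ∨ j = 2 := by omega
        rcases hj12 with rfl | rfl
        · exact Nat.coprime_one_left _
        · exact Nat.Coprime.pow_right i hrodd
      · exact mul_mem (mul_mem (pow_mem hb _) ha) (inv_mem (pow_mem hb _))
      · rw [isConj_iff]
        exact ⟨b ^ (t : ℕ), rfl⟩)
    have h3 : 3 * Nat.card (PrimeClasses r G) ≤ 2 * Nat.card ZG +
        Nat.card (R : Subgroup G) := h2
    rw [hZGcard] at h3
    have h9 : Nat.card Z * 9 ≤ Nat.card (R : Subgroup G) := by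
      refine le_trans (Nat.mul_le_mul_left _ ?_) hZcard
      nlinarith
    omega
  refine ⟨hab, ?_⟩
  intro w hw hodd h hh
  by_contra hne
  have hw0 : orderOf w ≠ 0 := (orderOf_pos w).ne'
  obtain ⟨j, m', hm', hnm⟩ := Nat.exists_eq_pow_mul_and_not_dvd hw0 r hrp.ne_one
  have hcop : Nat.Coprime (r ^ j) m' :=
    Nat.Coprime.pow_left j ((Nat.Prime.coprime_iff_not_dvd hrp).mpr hm')
  have hbez : ((r ^ j : ℕ) : ℤ) * Nat.gcdA (r ^ j) m' + (m' : ℤ) * Nat.gcdB (r ^ j) m' = 1 := by
    have := Nat.gcd_eq_gcd_ab (r ^ j) m'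
    rw [hcop] at this
    exact_mod_cast this.symm
  have hwn : w ^ (r ^ j * m') = 1 := by rw [← hnm]; exact pow_orderOf_eq_one w
  have hm'odd : Odd m' := by
    rw [hnm] at hodd
    exact (Nat.odd_mul.mp hodd).2
  -- the `r`-part commutes with `h`
  have hu : Commute (w ^ m') h := by
    have hupow : (w ^ m') ^ r ^ j = 1 := by rw [← pow_mul, mul_comm]; exact hwn
    have huN : w ^ m' ∈ Subgroup.normalizer ((R : Subgroup G) : Set G) := Subgroup.pow_mem _ hw _
    have hpg := isPGroup_zpowers_of_pow_prime_pow_eq_one hrp hupow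
    have h1 : w ^ m' ∈ Subgroup.zpowers (w ^ m') ⊓
        Subgroup.normalizer ((R : Subgroup G) : Set G) :=
      Subgroup.mem_inf.mpr ⟨Subgroup.mem_zpowers _, huN⟩
    have h1' : w ^ m' ∈ Subgroup.zpowers (w ^ m') ⊓ (R : Subgroup G) := by
      have h0 := hpg.inf_normalizer_sylow R
      rw [← h0]
      exact h1
    exact hab _ h1'.2 _ hh
  have hv : ¬ Commute (w ^ r ^ j) h := by
    intro hvc
    apply hne
    have e : w = (w ^ r ^ j) ^ (Nat.gcdA (r ^ j) m') * (w ^ m') ^ (Nat.gcdB (r ^ j) m') := by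
      rw [← zpow_natCast w (r ^ j), ← zpow_natCast w m', ← zpow_mul, ← zpow_mul, ← zpow_add, hbez,
        zpow_one]
    rw [e]
    exact (hvc.zpow_left _).mul_left (hu.zpow_left _)
  have hvN : w ^ r ^ j ∈ Subgroup.normalizer ((R : Subgroup G) : Set G) := Subgroup.pow_mem _ hw _
  have hvm : (w ^ r ^ j) ^ m' = 1 := by rw [← pow_mul]; exact hwn
  have h2m : Nat.Coprime 2 m' := Nat.coprime_two_left.mpr hm'odd
  by_cases hr3' : r = 3
  · have h5 := mul_card_prime_classes_le_of_normalizer R (w ^ r ^ j) hvN m' 5 (by norm_num) hvm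
      (by
        intro i hi0 hi5
        have hi : i = 1 ∨ i = 2 ∨ i = 3 ∨ i = 4 := by omega
        rcases hi with rfl | rfl | rfl | rfl
        · exact Nat.coprime_one_left _
        · exact h2m
        · rw [← hr3']
          exact (Nat.Prime.coprime_iff_not_dvd hrp).mpr hm'
        · have : (4 : ℕ) = 2 ^ 2 := by norm_num
          rw [this]
          exact Nat.Coprime.pow_left 2 h2m) h hh hv
    generalize Nat.card (PrimeClasses r G) = k at h5 hk
    generalize Nat.card (R : Subgroup G) = c at h5 hk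
    rw [hr3'] at h5
    omega
  · have hr5 : 5 ≤ r := by
      have h4 : r ≠ 4 := by
        rintro rfl
        exact absurd hrp (by decide)
      omega
    have h3 := mul_card_prime_classes_le_of_normalizer R (w ^ r ^ j) hvN m' 3 (by norm_num) hvm
      (by
        intro i hi0 hi3
        have hi : i = 1 ∨ i = 2 := by omega
        rcases hi with rfl | rfl
        · exact Nat.coprime_one_left _
        · exact h2m) h hh hv
    have h4 : 3 * r * Nat.card (PrimeClasses r G) ≤ (2 + r) * Nat.card (R : Subgroup G) := h3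
    nlinarith

end PiTwo

end Cfsg.Agent.Helper64
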