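-- helper64: explicit data in SU_3(5): the 105 points of an orbit of 3.A_7 (containing the
-- standard frame), monomial generators, x (order 7), y (order 3, normalising <x>), rational
-- orthogonal generators a, b of SO_3(5), and w outside 3.A_7.
-- Machine generated; all facts are checked by the kernel via `decide`.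
import Cfsg.Agent.Helper64.SU3Base

set_option autoImplicit false
set_option maxRecDepth 100000
open Matrix

namespace Cfsg.Agent.Helper64.SU3.D25

open Cfsg.Agent.Helper64.SU3

def sigL : List (Fin 3 → K25) := [![⟨0, 0⟩, ⟨0, 0⟩, ⟨1, 0⟩],
  ![⟨0, 0⟩, ⟨1, 0⟩, ⟨0, 0⟩],
  ![⟨0, 0⟩, ⟨1, 0⟩, ⟨1, 0⟩],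
  ![⟨0, 0⟩, ⟨1, 0⟩, ⟨4, 0⟩],
  ![⟨0, 0⟩, ⟨1, 0⟩, ⟨0, 1⟩],
  ![⟨0, 0⟩, ⟨1, 0⟩, ⟨1, 1⟩],
  ![⟨0, 0⟩, ⟨1, 0⟩, ⟨0, 4⟩],
  ![⟨0, 0⟩, ⟨1, 0⟩, ⟨4, 4⟩],
  ![⟨1, 0⟩, ⟨0, 0⟩, ⟨0, 0⟩],
  ![⟨1, 0⟩, ⟨0, 0⟩, ⟨1, 0⟩],
  ![⟨1, 0⟩, ⟨0, 0⟩, ⟨4, 0⟩],
  ![⟨1, 0⟩, ⟨0, 0⟩, ⟨0, 1⟩],
  ![⟨1, 0⟩, ⟨0, 0⟩, ⟨1, 1⟩],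
  ![⟨1, 0⟩, ⟨0, 0⟩, ⟨0, 4⟩],
  ![⟨1, 0⟩, ⟨0, 0⟩, ⟨4, 4⟩],
  ![⟨1, 0⟩, ⟨1, 0⟩, ⟨0, 0⟩],
  ![⟨1, 0⟩, ⟨1, 0⟩, ⟨1, 0⟩],
  ![⟨1, 0⟩, ⟨1, 0⟩, ⟨2, 0⟩],
  ![⟨1, 0⟩, ⟨1, 0⟩, ⟨3, 0⟩],
  ![⟨1, 0⟩, ⟨1, 0⟩, ⟨4, 0⟩],
  ![⟨1, 0⟩, ⟨1, 0⟩, ⟨3, 1⟩],
  ![⟨1, 0⟩, ⟨1, 0⟩, ⟨2, 4⟩],
  ![⟨1, 0⟩, ⟨2, 0⟩, ⟨1, 0⟩],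
  ![⟨1, 0⟩, ⟨2, 0⟩, ⟨2, 0⟩],
  ![⟨1, 0⟩, ⟨2, 0⟩, ⟨3, 0⟩],
  ![⟨1, 0⟩, ⟨2, 0⟩, ⟨4, 0⟩],
  ![⟨1, 0⟩, ⟨3, 0⟩, ⟨1, 0⟩],
  ![⟨1, 0⟩, ⟨3, 0⟩, ⟨2, 0⟩],
  ![⟨1, 0⟩, ⟨3, 0⟩, ⟨3, 0⟩],
  ![⟨1, 0⟩, ⟨3, 0⟩, ⟨4, 0⟩],
  ![⟨1, 0⟩, ⟨4, 0⟩, ⟨0, 0⟩],
  ![⟨1, 0⟩, ⟨4, 0⟩, ⟨1, 0⟩],
  ![⟨1, 0⟩, ⟨4, 0⟩, ⟨2, 0⟩],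
  ![⟨1, 0⟩, ⟨4, 0⟩, ⟨3, 0⟩],
  ![⟨1, 0⟩, ⟨4, 0⟩, ⟨4, 0⟩],
  ![⟨1, 0⟩, ⟨4, 0⟩, ⟨3, 1⟩],
  ![⟨1, 0⟩, ⟨4, 0⟩, ⟨2, 4⟩],
  ![⟨1, 0⟩, ⟨0, 1⟩, ⟨0, 0⟩],
  ![⟨1, 0⟩, ⟨0, 1⟩, ⟨1, 1⟩],
  ![⟨1, 0⟩, ⟨0, 1⟩, ⟨2, 2⟩],
  ![⟨1, 0⟩, ⟨0, 1⟩, ⟨3, 2⟩],
  ![⟨1, 0⟩, ⟨0, 1⟩, ⟨2, 3⟩],
  ![⟨1, 0⟩, ⟨0, 1⟩, ⟨3, 3⟩],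
  ![⟨1, 0⟩, ⟨0, 1⟩, ⟨4, 4⟩],
  ![⟨1, 0⟩, ⟨1, 1⟩, ⟨0, 0⟩],
  ![⟨1, 0⟩, ⟨1, 1⟩, ⟨0, 1⟩],
  ![⟨1, 0⟩, ⟨1, 1⟩, ⟨0, 2⟩],
  ![⟨1, 0⟩, ⟨1, 1⟩, ⟨4, 2⟩],
  ![⟨1, 0⟩, ⟨1, 1⟩, ⟨0, 3⟩],
  ![⟨1, 0⟩, ⟨1, 1⟩, ⟨1, 3⟩],
  ![⟨1, 0⟩, ⟨1, 1⟩, ⟨0, 4⟩],
  ![⟨1, 0⟩, ⟨2, 1⟩, ⟨4, 1⟩],
  ![⟨1, 0⟩, ⟨2, 1⟩, ⟨1, 4⟩],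
  ![⟨1, 0⟩, ⟨3, 1⟩, ⟨1, 0⟩],
  ![⟨1, 0⟩, ⟨3, 1⟩, ⟨4, 0⟩],
  ![⟨1, 0⟩, ⟨4, 1⟩, ⟨2, 1⟩],
  ![⟨1, 0⟩, ⟨4, 1⟩, ⟨3, 4⟩],
  ![⟨1, 0⟩, ⟨0, 2⟩, ⟨1, 1⟩],
  ![⟨1, 0⟩, ⟨0, 2⟩, ⟨2, 2⟩],
  ![⟨1, 0⟩, ⟨0, 2⟩, ⟨3, 3⟩],
  ![⟨1, 0⟩, ⟨0, 2⟩, ⟨4, 4⟩],
  ![⟨1, 0⟩, ⟨1, 2⟩, ⟨1, 2⟩],
  ![⟨1, 0⟩, ⟨1, 2⟩, ⟨4, 3⟩],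
  ![⟨1, 0⟩, ⟨2, 2⟩, ⟨0, 1⟩],
  ![⟨1, 0⟩, ⟨2, 2⟩, ⟨0, 2⟩],
  ![⟨1, 0⟩, ⟨2, 2⟩, ⟨0, 3⟩],
  ![⟨1, 0⟩, ⟨2, 2⟩, ⟨0, 4⟩],
  ![⟨1, 0⟩, ⟨3, 2⟩, ⟨0, 1⟩],
  ![⟨1, 0⟩, ⟨3, 2⟩, ⟨0, 4⟩],
  ![⟨1, 0⟩, ⟨4, 2⟩, ⟨1, 1⟩],
  ![⟨1, 0⟩, ⟨4, 2⟩, ⟨4, 4⟩],
  ![⟨1, 0⟩, ⟨0, 3⟩, ⟨1, 1⟩],
  ![⟨1, 0⟩, ⟨0, 3⟩, ⟨2, 2⟩],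
  ![⟨1, 0⟩, ⟨0, 3⟩, ⟨3, 3⟩],
  ![⟨1, 0⟩, ⟨0, 3⟩, ⟨4, 4⟩],
  ![⟨1, 0⟩, ⟨1, 3⟩, ⟨1, 1⟩],
  ![⟨1, 0⟩, ⟨1, 3⟩, ⟨4, 4⟩],
  ![⟨1, 0⟩, ⟨2, 3⟩, ⟨0, 1⟩],
  ![⟨1, 0⟩, ⟨2, 3⟩, ⟨0, 4⟩],
  ![⟨1, 0⟩, ⟨3, 3⟩, ⟨0, 1⟩],
  ![⟨1, 0⟩, ⟨3, 3⟩, ⟨0, 2⟩],
  ![⟨1, 0⟩, ⟨3, 3⟩, ⟨0, 3⟩],
  ![⟨1, 0⟩, ⟨3, 3⟩, ⟨0, 4⟩],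
  ![⟨1, 0⟩, ⟨4, 3⟩, ⟨1, 2⟩],
  ![⟨1, 0⟩, ⟨4, 3⟩, ⟨4, 3⟩],
  ![⟨1, 0⟩, ⟨0, 4⟩, ⟨0, 0⟩],
  ![⟨1, 0⟩, ⟨0, 4⟩, ⟨1, 1⟩],
  ![⟨1, 0⟩, ⟨0, 4⟩, ⟨2, 2⟩],
  ![⟨1, 0⟩, ⟨0, 4⟩, ⟨3, 2⟩],
  ![⟨1, 0⟩, ⟨0, 4⟩, ⟨2, 3⟩],
  ![⟨1, 0⟩, ⟨0, 4⟩, ⟨3, 3⟩],
  ![⟨1, 0⟩, ⟨0, 4⟩, ⟨4, 4⟩],
  ![⟨1, 0⟩, ⟨1, 4⟩, ⟨2, 1⟩],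
  ![⟨1, 0⟩, ⟨1, 4⟩, ⟨3, 4⟩],
  ![⟨1, 0⟩, ⟨2, 4⟩, ⟨1, 0⟩],
  ![⟨1, 0⟩, ⟨2, 4⟩, ⟨4, 0⟩],
  ![⟨1, 0⟩, ⟨3, 4⟩, ⟨4, 1⟩],
  ![⟨1, 0⟩, ⟨3, 4⟩, ⟨1, 4⟩],
  ![⟨1, 0⟩, ⟨4, 4⟩, ⟨0, 0⟩],
  ![⟨1, 0⟩, ⟨4, 4⟩, ⟨0, 1⟩],
  ![⟨1, 0⟩, ⟨4, 4⟩, ⟨0, 2⟩],
  ![⟨1, 0⟩, ⟨4, 4⟩, ⟨4, 2⟩],
  ![⟨1, 0⟩, ⟨4, 4⟩, ⟨0, 3⟩],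
  ![⟨1, 0⟩, ⟨4, 4⟩, ⟨1, 3⟩],
  ![⟨1, 0⟩, ⟨4, 4⟩, ⟨0, 4⟩]]
def sig (i : ℕ) : Fin 3 → K25 := sigL.getD i 0
def d1 : Matrix (Fin 3) (Fin 3) K25 := !![⟨1, 1⟩, ⟨0, 0⟩, ⟨0, 0⟩; ⟨0, 0⟩, ⟨0, 4⟩, ⟨0, 0⟩; ⟨0, 0⟩, ⟨0, 0⟩, ⟨1, 0⟩]
def d1_i : Matrix (Fin 3) (Fin 3) K25 := !![⟨0, 4⟩, ⟨0, 0⟩, ⟨0, 0⟩; ⟨0, 0⟩, ⟨1, 1⟩, ⟨0, 0⟩; ⟨0, 0⟩, ⟨0, 0⟩, ⟨1, 0⟩]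
theorem d1_inv : d1_i * d1 = 1 := by decide
theorem d1_unitary : d1.transpose * d1.map (fun x => x ^ 5) = 1 := by decide
theorem d1_det : d1.det = 1 := by decide
theorem d1_pow : d1 ^ 6 = 1 := by decide
def d1_p : List ℕ := [0, 1, 5, 7, 3, 4, 2, 6, 8, 13, 11, 12, 9, 14, 10, 98, 104, 102, 100, 99, 103, 101, 82, 81, 80, 79, 66, 65, 64, 63, 44, 50, 48, 46, 45, 49, 47, 15, 16, 17, 21, 20, 18, 19, 85, 86, 87, 89, 90, 88, 91, 83, 84, 68, 67, 52, 51, 22, 23, 24, 25, 92, 93, 71, 72, 73, 74, 69, 70, 53, 54, 26, 27, 28, 29, 94, 95, 75, 76, 57, 58,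 59, 60, 55, 56, 30, 31, 32, 36, 35, 33, 34, 97, 96, 78, 77, 61, 62, 37, 38, 39, 41, 42, 40, 43]
def d1_c : List K25 := [⟨1, 0⟩, ⟨0, 4⟩, ⟨0, 4⟩, ⟨0, 4⟩, ⟨0, 4⟩, ⟨0, 4⟩, ⟨0, 4⟩, ⟨0, 4⟩, ⟨1, 1⟩, ⟨1, 1⟩, ⟨1, 1⟩, ⟨1, 1⟩, ⟨1, 1⟩, ⟨1, 1⟩, ⟨1, 1⟩, ⟨1, 1⟩, ⟨1, 1⟩, ⟨1, 1⟩, ⟨1, 1⟩, ⟨1, 1⟩, ⟨1, 1⟩, ⟨1, 1⟩, ⟨1, 1⟩, ⟨1, 1⟩, ⟨1, 1⟩, ⟨1, 1⟩, ⟨1, 1⟩, ⟨1, 1⟩, ⟨1, 1⟩, ⟨1, 1⟩, ⟨1, 1⟩, ⟨1, 1⟩, ⟨1, 1⟩, ⟨1, 1⟩, ⟨1, 1⟩, ⟨1, 1⟩, ⟨1, 1⟩, ⟨1, 1⟩, ⟨1, 1⟩, ⟨1, 1⟩, ⟨1, 1⟩, ⟨1, 1⟩, ⟨1, 1⟩, ⟨1, 1⟩, ⟨1, 1⟩, ⟨1, 1⟩, ⟨1, 1⟩, ⟨1, 1⟩, ⟨1, 1⟩, ⟨1, 1⟩, ⟨1, 1⟩, ⟨1, 1⟩, ⟨1, 1⟩,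 ⟨1, 1⟩, ⟨1, 1⟩, ⟨1, 1⟩, ⟨1, 1⟩, ⟨1, 1⟩, ⟨1, 1⟩, ⟨1, 1⟩, ⟨1, 1⟩, ⟨1, 1⟩, ⟨1, 1⟩, ⟨1, 1⟩, ⟨1, 1⟩, ⟨1, 1⟩, ⟨1, 1⟩, ⟨1, 1⟩, ⟨1, 1⟩, ⟨1, 1⟩, ⟨1, 1⟩, ⟨1, 1⟩, ⟨1, 1⟩, ⟨1, 1⟩, ⟨1, 1⟩, ⟨1, 1⟩, ⟨1, 1⟩, ⟨1, 1⟩, ⟨1, 1⟩, ⟨1, 1⟩, ⟨1, 1⟩, ⟨1, 1⟩, ⟨1, 1⟩, ⟨1, 1⟩, ⟨1, 1⟩, ⟨1, 1⟩, ⟨1, 1⟩, ⟨1, 1⟩, ⟨1, 1⟩, ⟨1, 1⟩, ⟨1, 1⟩, ⟨1, 1⟩, ⟨1, 1⟩, ⟨1, 1⟩, ⟨1, 1⟩, ⟨1, 1⟩, ⟨1, 1⟩, ⟨1, 1⟩, ⟨1, 1⟩, ⟨1, 1⟩, ⟨1, 1⟩, ⟨1, 1⟩, ⟨1, 1⟩, ⟨1, 1⟩, ⟨1, 1⟩]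
theorem d1_sig : ∀ i < 105, d1_p.getD i 0 < 105 ∧ d1_c.getD i 0 ≠ 0 ∧ Matrix.mulVec d1 (sig i) = d1_c.getD i 0 • sig (d1_p.getD i 0) := by decide
def d2 : Matrix (Fin 3) (Fin 3) K25 := !![⟨1, 0⟩, ⟨0, 0⟩, ⟨0, 0⟩; ⟨0, 0⟩, ⟨1, 1⟩, ⟨0, 0⟩; ⟨0, 0⟩, ⟨0, 0⟩, ⟨0, 4⟩]
def d2_i : Matrix (Fin 3) (Fin 3) K25 := !![⟨1, 0⟩, ⟨0, 0⟩, ⟨0, 0⟩; ⟨0, 0⟩, ⟨0, 4⟩, ⟨0, 0⟩; ⟨0, 0⟩, ⟨0, 0⟩, ⟨1, 1⟩]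
theorem d2_inv : d2_i * d2 = 1 := by decide
theorem d2_unitary : d2.transpose * d2.map (fun x => x ^ 5) = 1 := by decide
theorem d2_det : d2.det = 1 := by decide
theorem d2_pow : d2 ^ 6 = 1 := by decide
def d2_p : List ℕ := [0, 1, 7, 5, 2, 6, 3, 4, 8, 13, 11, 12, 9, 14, 10, 44, 50, 48, 46, 45, 49, 47, 66, 65, 64, 63, 82, 81, 80, 79, 98, 104, 102, 100, 99, 103, 101, 30, 31, 32, 36, 35, 33, 34, 37, 38, 39, 41, 42, 40, 43, 61, 62, 78, 77, 97, 96, 26, 27, 28, 29, 55, 56, 57, 58, 59, 60, 75, 76, 94, 95, 22, 23, 24, 25, 53, 54, 69, 70, 71, 72,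 73, 74, 92, 93, 15, 16, 17, 21, 20, 18, 19, 52, 51, 68, 67, 83, 84, 85, 86, 87, 89, 90, 88, 91]
def d2_c : List K25 := [⟨0, 4⟩, ⟨1, 1⟩, ⟨1, 1⟩, ⟨1, 1⟩, ⟨1, 1⟩, ⟨1, 1⟩, ⟨1, 1⟩, ⟨1, 1⟩, ⟨1, 0⟩, ⟨1, 0⟩, ⟨1, 0⟩, ⟨1, 0⟩, ⟨1, 0⟩, ⟨1, 0⟩, ⟨1, 0⟩, ⟨1, 0⟩, ⟨1, 0⟩, ⟨1, 0⟩, ⟨1, 0⟩, ⟨1, 0⟩, ⟨1, 0⟩, ⟨1, 0⟩, ⟨1, 0⟩, ⟨1, 0⟩, ⟨1, 0⟩, ⟨1, 0⟩, ⟨1, 0⟩, ⟨1, 0⟩, ⟨1, 0⟩, ⟨1, 0⟩, ⟨1, 0⟩, ⟨1, 0⟩, ⟨1, 0⟩, ⟨1, 0⟩, ⟨1, 0⟩, ⟨1, 0⟩, ⟨1, 0⟩, ⟨1, 0⟩, ⟨1, 0⟩, ⟨1, 0⟩, ⟨1, 0⟩, ⟨1, 0⟩, ⟨1, 0⟩, ⟨1, 0⟩, ⟨1, 0⟩, ⟨1, 0⟩, ⟨1, 0⟩, ⟨1, 0⟩, ⟨1, 0⟩, ⟨1, 0⟩, ⟨1, 0⟩, ⟨1, 0⟩, ⟨1, 0⟩,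 ⟨1, 0⟩, ⟨1, 0⟩, ⟨1, 0⟩, ⟨1, 0⟩, ⟨1, 0⟩, ⟨1, 0⟩, ⟨1, 0⟩, ⟨1, 0⟩, ⟨1, 0⟩, ⟨1, 0⟩, ⟨1, 0⟩, ⟨1, 0⟩, ⟨1, 0⟩, ⟨1, 0⟩, ⟨1, 0⟩, ⟨1, 0⟩, ⟨1, 0⟩, ⟨1, 0⟩, ⟨1, 0⟩, ⟨1, 0⟩, ⟨1, 0⟩, ⟨1, 0⟩, ⟨1, 0⟩, ⟨1, 0⟩, ⟨1, 0⟩, ⟨1, 0⟩, ⟨1, 0⟩, ⟨1, 0⟩, ⟨1, 0⟩, ⟨1, 0⟩, ⟨1, 0⟩, ⟨1, 0⟩, ⟨1, 0⟩, ⟨1, 0⟩, ⟨1, 0⟩, ⟨1, 0⟩, ⟨1, 0⟩, ⟨1, 0⟩, ⟨1, 0⟩, ⟨1, 0⟩, ⟨1, 0⟩, ⟨1, 0⟩, ⟨1, 0⟩, ⟨1, 0⟩, ⟨1, 0⟩, ⟨1, 0⟩, ⟨1, 0⟩, ⟨1, 0⟩, ⟨1, 0⟩, ⟨1, 0⟩, ⟨1, 0⟩, ⟨1, 0⟩]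
theorem d2_sig : ∀ i < 105, d2_p.getD i 0 < 105 ∧ d2_c.getD i 0 ≠ 0 ∧ Matrix.mulVec d2 (sig i) = d2_c.getD i 0 • sig (d2_p.getD i 0) := by decide
def c3 : Matrix (Fin 3) (Fin 3) K25 := !![⟨0, 0⟩, ⟨0, 0⟩, ⟨1, 0⟩; ⟨1, 0⟩, ⟨0, 0⟩, ⟨0, 0⟩; ⟨0, 0⟩, ⟨1, 0⟩, ⟨0, 0⟩]
def c3_i : Matrix (Fin 3) (Fin 3) K25 := !![⟨0, 0⟩, ⟨1, 0⟩, ⟨0, 0⟩; ⟨0, 0⟩, ⟨0, 0⟩, ⟨1, 0⟩; ⟨1, 0⟩, ⟨0, 0⟩, ⟨0, 0⟩]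
theorem c3_inv : c3_i * c3 = 1 := by decide
theorem c3_unitary : c3.transpose * c3.map (fun x => x ^ 5) = 1 := by decide
theorem c3_det : c3.det = 1 := by decide
theorem c3_pow : c3 ^ 3 = 1 := by decide
def c3_p : List ℕ := [8, 0, 9, 10, 14, 13, 12, 11, 1, 15, 30, 98, 85, 44, 37, 2, 16, 28, 23, 34, 61, 84, 17, 26, 25, 33, 18, 29, 22, 32, 3, 19, 27, 24, 31, 62, 83, 4, 86, 59, 97, 51, 72, 43, 5, 104, 64, 92, 81, 56, 45, 76, 69, 20, 36, 77, 68, 87, 57, 74, 42, 53, 95, 102, 66, 79, 46, 101, 49, 89, 40, 90, 60, 71, 39, 88, 41, 103, 47, 100, 63,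 82, 48, 54, 94, 6, 91, 58, 96, 52, 73, 38, 78, 67, 21, 35, 75, 70, 7, 99, 65, 93, 80, 55, 50]
def c3_c : List K25 := [⟨1, 0⟩, ⟨1, 0⟩, ⟨1, 0⟩, ⟨4, 0⟩, ⟨0, 1⟩, ⟨1, 1⟩, ⟨0, 4⟩, ⟨4, 4⟩, ⟨1, 0⟩, ⟨1, 0⟩, ⟨4, 0⟩, ⟨0, 1⟩, ⟨1, 1⟩, ⟨0, 4⟩, ⟨4, 4⟩, ⟨1, 0⟩, ⟨1, 0⟩, ⟨2, 0⟩, ⟨3, 0⟩, ⟨4, 0⟩, ⟨3, 1⟩, ⟨2, 4⟩, ⟨1, 0⟩, ⟨2, 0⟩, ⟨3, 0⟩, ⟨4, 0⟩, ⟨1, 0⟩, ⟨2, 0⟩, ⟨3, 0⟩, ⟨4, 0⟩, ⟨1, 0⟩, ⟨1, 0⟩, ⟨2, 0⟩, ⟨3, 0⟩, ⟨4, 0⟩, ⟨3, 1⟩, ⟨2, 4⟩, ⟨1, 0⟩, ⟨1, 1⟩, ⟨2, 2⟩, ⟨3, 2⟩, ⟨2, 3⟩, ⟨3, 3⟩, ⟨4, 4⟩, ⟨1, 0⟩, ⟨0, 1⟩, ⟨0, 2⟩, ⟨4, 2⟩, ⟨0, 3⟩, ⟨1, 3⟩, ⟨0, 4⟩, ⟨4, 1⟩, ⟨1, 4⟩, ⟨1,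 0⟩, ⟨4, 0⟩, ⟨2, 1⟩, ⟨3, 4⟩, ⟨1, 1⟩, ⟨2, 2⟩, ⟨3, 3⟩, ⟨4, 4⟩, ⟨1, 2⟩, ⟨4, 3⟩, ⟨0, 1⟩, ⟨0, 2⟩, ⟨0, 3⟩, ⟨0, 4⟩, ⟨0, 1⟩, ⟨0, 4⟩, ⟨1, 1⟩, ⟨4, 4⟩, ⟨1, 1⟩, ⟨2, 2⟩, ⟨3, 3⟩, ⟨4, 4⟩, ⟨1, 1⟩, ⟨4, 4⟩, ⟨0, 1⟩, ⟨0, 4⟩, ⟨0, 1⟩, ⟨0, 2⟩, ⟨0, 3⟩, ⟨0, 4⟩, ⟨1, 2⟩, ⟨4, 3⟩, ⟨1, 0⟩, ⟨1, 1⟩, ⟨2, 2⟩, ⟨3, 2⟩, ⟨2, 3⟩, ⟨3, 3⟩, ⟨4, 4⟩, ⟨2, 1⟩, ⟨3, 4⟩, ⟨1, 0⟩, ⟨4, 0⟩, ⟨4, 1⟩, ⟨1, 4⟩, ⟨1, 0⟩, ⟨0, 1⟩, ⟨0, 2⟩, ⟨4, 2⟩, ⟨0, 3⟩, ⟨1, 3⟩, ⟨0, 4⟩]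
theorem c3_sig : ∀ i < 105, c3_p.getD i 0 < 105 ∧ c3_c.getD i 0 ≠ 0 ∧ Matrix.mulVec c3 (sig i) = c3_c.getD i 0 • sig (c3_p.getD i 0) := by decide
def t2 : Matrix (Fin 3) (Fin 3) K25 := !![⟨0, 0⟩, ⟨4, 0⟩, ⟨0, 0⟩; ⟨4, 0⟩, ⟨0, 0⟩, ⟨0, 0⟩; ⟨0, 0⟩, ⟨0, 0⟩, ⟨4, 0⟩]
def t2_i : Matrix (Fin 3) (Fin 3) K25 := !![⟨0, 0⟩, ⟨4, 0⟩, ⟨0, 0⟩; ⟨4, 0⟩, ⟨0, 0⟩, ⟨0, 0⟩; ⟨0, 0⟩, ⟨0, 0⟩, ⟨4, 0⟩]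
theorem t2_inv : t2_i * t2 = 1 := by decide
theorem t2_unitary : t2.transpose * t2.map (fun x => x ^ 5) = 1 := by decide
theorem t2_det : t2.det = 1 := by decide
theorem t2_pow : t2 ^ 2 = 1 := by decide
def t2_p : List ℕ := [0, 8, 9, 10, 11, 12, 13, 14, 1, 2, 3, 4, 5, 6, 7, 15, 16, 17, 18, 19, 20, 21, 28, 26, 29, 27, 23, 25, 22, 24, 30, 34, 33, 32, 31, 36, 35, 98, 104, 102, 101, 103, 100, 99, 85, 86, 87, 89, 90, 88, 91, 77, 78, 61, 62, 76, 75, 64, 66, 63, 65, 53, 54, 59, 57, 60, 58, 97, 96, 92, 93, 81, 79, 82, 80, 56, 55, 51, 52, 72, 74,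 71, 73, 95, 94, 44, 45, 46, 49, 47, 48, 50, 69, 70, 84, 83, 68, 67, 37, 43, 42, 40, 39, 41, 38]
def t2_c : List K25 := [⟨4, 0⟩, ⟨4, 0⟩, ⟨4, 0⟩, ⟨4, 0⟩, ⟨4, 0⟩, ⟨4, 0⟩, ⟨4, 0⟩, ⟨4, 0⟩, ⟨4, 0⟩, ⟨4, 0⟩, ⟨4, 0⟩, ⟨4, 0⟩, ⟨4, 0⟩, ⟨4, 0⟩, ⟨4, 0⟩, ⟨4, 0⟩, ⟨4, 0⟩, ⟨4, 0⟩, ⟨4, 0⟩, ⟨4, 0⟩, ⟨4, 0⟩, ⟨4, 0⟩, ⟨3, 0⟩, ⟨3, 0⟩, ⟨3, 0⟩, ⟨3, 0⟩, ⟨2, 0⟩, ⟨2, 0⟩, ⟨2, 0⟩, ⟨2, 0⟩, ⟨1, 0⟩, ⟨1, 0⟩, ⟨1, 0⟩, ⟨1, 0⟩, ⟨1, 0⟩, ⟨1, 0⟩, ⟨1, 0⟩, ⟨0, 4⟩, ⟨0, 4⟩, ⟨0, 4⟩, ⟨0, 4⟩, ⟨0, 4⟩, ⟨0, 4⟩, ⟨0, 4⟩, ⟨4, 4⟩, ⟨4, 4⟩, ⟨4, 4⟩, ⟨4, 4⟩, ⟨4, 4⟩, ⟨4, 4⟩, ⟨4, 4⟩, ⟨3, 4⟩, ⟨3, 4⟩,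 ⟨2, 4⟩, ⟨2, 4⟩, ⟨1, 4⟩, ⟨1, 4⟩, ⟨0, 3⟩, ⟨0, 3⟩, ⟨0, 3⟩, ⟨0, 3⟩, ⟨4, 3⟩, ⟨4, 3⟩, ⟨3, 3⟩, ⟨3, 3⟩, ⟨3, 3⟩, ⟨3, 3⟩, ⟨2, 3⟩, ⟨2, 3⟩, ⟨1, 3⟩, ⟨1, 3⟩, ⟨0, 2⟩, ⟨0, 2⟩, ⟨0, 2⟩, ⟨0, 2⟩, ⟨4, 2⟩, ⟨4, 2⟩, ⟨3, 2⟩, ⟨3, 2⟩, ⟨2, 2⟩, ⟨2, 2⟩, ⟨2, 2⟩, ⟨2, 2⟩, ⟨1, 2⟩, ⟨1, 2⟩, ⟨0, 1⟩, ⟨0, 1⟩, ⟨0, 1⟩, ⟨0, 1⟩, ⟨0, 1⟩, ⟨0, 1⟩, ⟨0, 1⟩, ⟨4, 1⟩, ⟨4, 1⟩, ⟨3, 1⟩, ⟨3, 1⟩, ⟨2, 1⟩, ⟨2, 1⟩, ⟨1, 1⟩, ⟨1, 1⟩, ⟨1, 1⟩, ⟨1, 1⟩, ⟨1, 1⟩, ⟨1, 1⟩, ⟨1, 1⟩]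
theorem t2_sig : ∀ i < 105, t2_p.getD i 0 < 105 ∧ t2_c.getD i 0 ≠ 0 ∧ Matrix.mulVec t2 (sig i) = t2_c.getD i 0 • sig (t2_p.getD i 0) := by decide
def x7 : Matrix (Fin 3) (Fin 3) K25 := !![⟨2, 0⟩, ⟨2, 1⟩, ⟨2, 2⟩; ⟨0, 3⟩, ⟨4, 1⟩, ⟨2, 0⟩; ⟨4, 1⟩, ⟨0, 0⟩, ⟨2, 1⟩]
def x7_i : Matrix (Fin 3) (Fin 3) K25 := !![⟨2, 0⟩, ⟨2, 2⟩, ⟨3, 4⟩; ⟨1, 4⟩, ⟨3, 4⟩, ⟨0, 0⟩; ⟨0, 3⟩, ⟨2, 0⟩, ⟨1, 4⟩]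
theorem x7_inv : x7_i * x7 = 1 := by decide
theorem x7_unitary : x7.transpose * x7.map (fun x => x ^ 5) = 1 := by decide
theorem x7_det : x7.det = 1 := by decide
theorem x7_pow : x7 ^ 7 = 1 := by decide
theorem x7_ne : x7 ≠ 1 := by decide
def x7_p : List ℕ := [88, 37, 67, 62, 55, 102, 95, 17, 89, 90, 86, 0, 91, 85, 87, 94, 72, 75, 23, 20, 92, 7, 14, 80, 97, 33, 6, 29, 69, 48, 56, 57, 51, 66, 103, 53, 10, 61, 21, 26, 11, 78, 96, 60, 18, 39, 104, 79, 36, 65, 44, 9, 93, 50, 74, 64, 28, 32, 76, 63, 4, 2, 77, 38, 47, 99, 15, 41, 8, 71, 31, 46,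 52, 24, 12, 59, 45, 40, 1, 43, 35, 19, 98, 13, 83, 68, 101, 81, 3, 84, 70, 73, 22, 82, 34, 58, 5, 54, 100, 42, 16, 27, 49, 25, 30]
def x7_c : List K25 := [⟨2, 2⟩, ⟨2, 1⟩, ⟨4, 3⟩, ⟨0, 4⟩, ⟨0, 1⟩, ⟨2, 3⟩, ⟨4, 1⟩, ⟨2, 4⟩, ⟨2, 0⟩, ⟨4, 2⟩, ⟨0, 3⟩, ⟨3, 2⟩, ⟨2, 2⟩, ⟨4, 0⟩, ⟨2, 3⟩, ⟨4, 1⟩, ⟨1, 3⟩, ⟨3, 0⟩, ⟨0, 2⟩, ⟨2, 4⟩, ⟨3, 2⟩, ⟨3, 2⟩, ⟨3, 4⟩, ⟨0, 1⟩, ⟨2, 3⟩, ⟨4, 0⟩, ⟨4, 1⟩, ⟨2, 2⟩, ⟨4, 4⟩, ⟨1, 1⟩, ⟨0, 4⟩, ⟨2, 1⟩, ⟨4, 3⟩, ⟨1, 0⟩, ⟨3, 2⟩, ⟨4, 0⟩, ⟨1, 3⟩, ⟨1, 1⟩, ⟨1, 3⟩, ⟨1, 0⟩, ⟨3, 2⟩, ⟨4, 0⟩, ⟨1, 2⟩, ⟨1, 4⟩, ⟨3, 2⟩, ⟨1, 2⟩, ⟨4, 2⟩, ⟨2, 0⟩, ⟨2, 2⟩,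 ⟨4, 4⟩, ⟨0, 2⟩, ⟨1, 1⟩, ⟨4, 0⟩, ⟨4, 1⟩, ⟨0, 2⟩, ⟨1, 4⟩, ⟨2, 1⟩, ⟨0, 4⟩, ⟨0, 1⟩, ⟨0, 3⟩, ⟨1, 2⟩, ⟨4, 4⟩, ⟨4, 1⟩, ⟨2, 4⟩, ⟨0, 4⟩, ⟨3, 4⟩, ⟨1, 4⟩, ⟨4, 0⟩, ⟨3, 0⟩, ⟨3, 3⟩, ⟨3, 4⟩, ⟨4, 0⟩, ⟨4, 2⟩, ⟨4, 4⟩, ⟨4, 1⟩, ⟨1, 1⟩, ⟨1, 2⟩, ⟨1, 0⟩, ⟨0, 2⟩, ⟨3, 1⟩, ⟨1, 1⟩, ⟨4, 1⟩, ⟨2, 1⟩, ⟨0, 4⟩, ⟨4, 0⟩, ⟨3, 4⟩, ⟨3, 1⟩, ⟨3, 3⟩, ⟨2, 4⟩, ⟨1, 3⟩, ⟨3, 0⟩, ⟨3, 2⟩, ⟨2, 4⟩, ⟨3, 1⟩, ⟨4, 3⟩, ⟨0, 4⟩, ⟨1, 0⟩, ⟨3, 4⟩, ⟨1, 3⟩, ⟨4, 3⟩, ⟨2, 3⟩, ⟨0, 1⟩, ⟨0, 3⟩, ⟨2, 0⟩, ⟨3, 3⟩]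
theorem x7_sig : ∀ i < 105, x7_p.getD i 0 < 105 ∧ x7_c.getD i 0 ≠ 0 ∧ Matrix.mulVec x7 (sig i) = x7_c.getD i 0 • sig (x7_p.getD i 0) := by decide
def y3 : Matrix (Fin 3) (Fin 3) K25 := !![⟨0, 0⟩, ⟨0, 0⟩, ⟨1, 1⟩; ⟨0, 1⟩, ⟨0, 0⟩, ⟨0, 0⟩; ⟨0, 0⟩, ⟨4, 0⟩, ⟨0, 0⟩]
def y3_i : Matrix (Fin 3) (Fin 3) K25 := !![⟨0, 0⟩, ⟨4, 4⟩, ⟨0, 0⟩; ⟨0, 0⟩, ⟨0, 0⟩, ⟨4, 0⟩; ⟨0, 4⟩, ⟨0, 0⟩, ⟨0, 0⟩]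
theorem y3_inv : y3_i * y3 = 1 := by decide
theorem y3_unitary : y3.transpose * y3.map (fun x => x ^ 5) = 1 := by decide
theorem y3_det : y3.det = 1 := by decide
theorem y3_pow : y3 ^ 3 = 1 := by decide
theorem y3_ne : y3 ≠ 1 := by decide
def y3_p : List ℕ := [8, 0, 11, 13, 9, 12, 10, 14, 1, 44, 98, 85, 15, 37, 30, 5, 45, 81, 64, 104, 56, 92, 46, 79, 66, 102, 48, 82, 63, 100, 7, 50, 80, 65, 99, 55, 93, 3, 19, 27, 83, 62, 24, 31, 4, 86, 59, 51, 72, 97, 43, 53, 95, 47, 103, 70, 75, 18, 29, 22, 32, 77, 68, 87, 57, 74, 42, 88, 41, 21, 35, 17,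 26, 25, 33, 20, 36, 89, 40, 90, 60, 71, 39, 78, 67, 2, 16, 28, 84, 61, 23, 34, 69, 76, 49, 101, 54, 94, 6, 91, 58, 52, 73, 96, 38]
def y3_c : List K25 := [⟨1, 1⟩, ⟨4, 0⟩, ⟨1, 1⟩, ⟨4, 4⟩, ⟨4, 0⟩, ⟨0, 1⟩, ⟨1, 0⟩, ⟨0, 4⟩, ⟨0, 1⟩, ⟨1, 1⟩, ⟨4, 4⟩, ⟨4, 0⟩, ⟨0, 1⟩, ⟨1, 0⟩, ⟨0, 4⟩, ⟨0, 1⟩, ⟨1, 1⟩, ⟨2, 2⟩, ⟨3, 3⟩, ⟨4, 4⟩, ⟨2, 3⟩, ⟨3, 2⟩, ⟨1, 1⟩, ⟨2, 2⟩, ⟨3, 3⟩, ⟨4, 4⟩, ⟨1, 1⟩, ⟨2, 2⟩, ⟨3, 3⟩, ⟨4, 4⟩, ⟨0, 1⟩, ⟨1, 1⟩, ⟨2, 2⟩, ⟨3, 3⟩, ⟨4, 4⟩, ⟨2, 3⟩, ⟨3, 2⟩, ⟨0, 1⟩, ⟨0, 1⟩, ⟨0, 2⟩, ⟨1, 3⟩, ⟨4, 2⟩, ⟨0, 3⟩, ⟨0, 4⟩, ⟨0, 1⟩, ⟨4, 0⟩, ⟨3, 0⟩, ⟨2, 4⟩, ⟨2, 0⟩,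 ⟨3, 1⟩, ⟨1, 0⟩, ⟨3, 4⟩, ⟨2, 1⟩, ⟨1, 1⟩, ⟨4, 4⟩, ⟨1, 2⟩, ⟨4, 3⟩, ⟨0, 1⟩, ⟨0, 2⟩, ⟨0, 3⟩, ⟨0, 4⟩, ⟨4, 1⟩, ⟨1, 4⟩, ⟨4, 0⟩, ⟨3, 0⟩, ⟨2, 0⟩, ⟨1, 0⟩, ⟨4, 0⟩, ⟨1, 0⟩, ⟨0, 1⟩, ⟨0, 4⟩, ⟨0, 1⟩, ⟨0, 2⟩, ⟨0, 3⟩, ⟨0, 4⟩, ⟨0, 1⟩, ⟨0, 4⟩, ⟨4, 0⟩, ⟨1, 0⟩, ⟨4, 0⟩, ⟨3, 0⟩, ⟨2, 0⟩, ⟨1, 0⟩, ⟨4, 1⟩, ⟨1, 4⟩, ⟨0, 1⟩, ⟨0, 1⟩, ⟨0, 2⟩, ⟨1, 3⟩, ⟨4, 2⟩, ⟨0, 3⟩, ⟨0, 4⟩, ⟨1, 2⟩, ⟨4, 3⟩, ⟨1, 1⟩, ⟨4, 4⟩, ⟨3, 4⟩, ⟨2, 1⟩, ⟨0, 1⟩, ⟨4, 0⟩, ⟨3, 0⟩, ⟨2, 4⟩, ⟨2, 0⟩, ⟨3, 1⟩, ⟨1, 0⟩]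
theorem y3_sig : ∀ i < 105, y3_p.getD i 0 < 105 ∧ y3_c.getD i 0 ≠ 0 ∧ Matrix.mulVec y3 (sig i) = y3_c.getD i 0 • sig (y3_p.getD i 0) := by decide
def a4 : Matrix (Fin 3) (Fin 3) K25 := !![⟨0, 0⟩, ⟨0, 0⟩, ⟨1, 0⟩; ⟨0, 0⟩, ⟨1, 0⟩, ⟨0, 0⟩; ⟨4, 0⟩, ⟨0, 0⟩, ⟨0, 0⟩]
def a4_i : Matrix (Fin 3) (Fin 3) K25 := !![⟨0, 0⟩, ⟨0, 0⟩, ⟨4, 0⟩; ⟨0, 0⟩, ⟨1, 0⟩, ⟨0, 0⟩; ⟨1, 0⟩, ⟨0, 0⟩, ⟨0, 0⟩]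
theorem a4_inv : a4_i * a4 = 1 := by decide
theorem a4_unitary : a4.transpose * a4.map (fun x => x ^ 5) = 1 := by decide
theorem a4_det : a4.det = 1 := by decide
theorem a4_pow : a4 ^ 4 = 1 := by decide
def a4_p : List ℕ := [8, 1, 15, 30, 98, 85, 44, 37, 0, 10, 9, 12, 11, 14, 13, 3, 19, 27, 24, 31, 62, 83, 25, 17, 33, 26, 29, 32, 18, 22, 2, 34, 23, 28, 16, 84, 61, 5, 45, 81, 92, 56, 64, 104, 4, 86, 59, 51, 72, 97, 43, 101, 49, 54, 94, 40, 89, 63, 48, 100, 82, 21, 35, 71, 90, 39, 60, 69, 76, 77, 68, 79, 102, 46, 66, 67, 78, 75, 70, 57, 42,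 87, 74, 36, 20, 7, 99, 65, 55, 93, 80, 50, 88, 41, 95, 53, 47, 103, 6, 38, 73, 96, 58, 52, 91]
def a4_c : List K25 := [⟨1, 0⟩, ⟨1, 0⟩, ⟨1, 0⟩, ⟨4, 0⟩, ⟨0, 1⟩, ⟨1, 1⟩, ⟨0, 4⟩, ⟨4, 4⟩, ⟨4, 0⟩, ⟨1, 0⟩, ⟨4, 0⟩, ⟨0, 1⟩, ⟨1, 1⟩, ⟨0, 4⟩, ⟨4, 4⟩, ⟨1, 0⟩, ⟨1, 0⟩, ⟨2, 0⟩, ⟨3, 0⟩, ⟨4, 0⟩, ⟨3, 1⟩, ⟨2, 4⟩, ⟨1, 0⟩, ⟨2, 0⟩, ⟨3, 0⟩, ⟨4, 0⟩, ⟨1, 0⟩, ⟨2, 0⟩, ⟨3, 0⟩, ⟨4, 0⟩, ⟨4, 0⟩, ⟨1, 0⟩, ⟨2, 0⟩, ⟨3, 0⟩, ⟨4, 0⟩, ⟨3, 1⟩, ⟨2, 4⟩, ⟨0, 1⟩, ⟨1, 1⟩, ⟨2, 2⟩, ⟨3, 2⟩, ⟨2, 3⟩, ⟨3, 3⟩, ⟨4, 4⟩, ⟨1, 1⟩, ⟨0, 1⟩, ⟨0, 2⟩, ⟨4, 2⟩, ⟨0, 3⟩, ⟨1, 3⟩, ⟨0, 4⟩, ⟨4, 1⟩, ⟨1, 4⟩, ⟨1,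 0⟩, ⟨4, 0⟩, ⟨2, 1⟩, ⟨3, 4⟩, ⟨1, 1⟩, ⟨2, 2⟩, ⟨3, 3⟩, ⟨4, 4⟩, ⟨1, 2⟩, ⟨4, 3⟩, ⟨0, 1⟩, ⟨0, 2⟩, ⟨0, 3⟩, ⟨0, 4⟩, ⟨0, 1⟩, ⟨0, 4⟩, ⟨1, 1⟩, ⟨4, 4⟩, ⟨1, 1⟩, ⟨2, 2⟩, ⟨3, 3⟩, ⟨4, 4⟩, ⟨1, 1⟩, ⟨4, 4⟩, ⟨0, 1⟩, ⟨0, 4⟩, ⟨0, 1⟩, ⟨0, 2⟩, ⟨0, 3⟩, ⟨0, 4⟩, ⟨1, 2⟩, ⟨4, 3⟩, ⟨0, 4⟩, ⟨1, 1⟩, ⟨2, 2⟩, ⟨3, 2⟩, ⟨2, 3⟩, ⟨3, 3⟩, ⟨4, 4⟩, ⟨2, 1⟩, ⟨3, 4⟩, ⟨1, 0⟩, ⟨4, 0⟩, ⟨4, 1⟩, ⟨1, 4⟩, ⟨4, 4⟩, ⟨0, 1⟩, ⟨0, 2⟩, ⟨4, 2⟩, ⟨0, 3⟩, ⟨1, 3⟩, ⟨0, 4⟩]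
theorem a4_sig : ∀ i < 105, a4_p.getD i 0 < 105 ∧ a4_c.getD i 0 ≠ 0 ∧ Matrix.mulVec a4 (sig i) = a4_c.getD i 0 • sig (a4_p.getD i 0) := by decide
def b5 : Matrix (Fin 3) (Fin 3) K25 := !![⟨1, 0⟩, ⟨1, 0⟩, ⟨3, 0⟩; ⟨4, 0⟩, ⟨3, 0⟩, ⟨1, 0⟩; ⟨2, 0⟩, ⟨1, 0⟩, ⟨4, 0⟩]
def b5_i : Matrix (Fin 3) (Fin 3) K25 := !![⟨1, 0⟩, ⟨4, 0⟩, ⟨2, 0⟩; ⟨1, 0⟩, ⟨3, 0⟩, ⟨1, 0⟩; ⟨3, 0⟩, ⟨1, 0⟩, ⟨4, 0⟩]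
theorem b5_inv : b5_i * b5 = 1 := by decide
theorem b5_unitary : b5.transpose * b5.map (fun x => x ^ 5) = 1 := by decide
theorem b5_det : b5.det = 1 := by decide
theorem b5_pow : b5 ^ 5 = 1 := by decide
def b5_p : List ℕ := [24, 26, 15, 34, 48, 101, 41, 87, 32, 10, 16, 60, 75, 68, 79, 19, 3, 27, 8, 31, 83, 62, 18, 28, 33, 1, 23, 0, 25, 22, 2, 30, 29, 17, 9, 104, 38, 97, 45, 58, 102, 82, 7, 84, 73, 21, 89, 93, 76, 5, 95, 85, 66, 99, 53, 103, 59, 74, 98, 77, 56, 86, 36, 88, 46, 52, 12, 78, 72, 100, 14, 13, 92, 90, 49, 65, 69, 11, 42, 96, 70,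 37, 63, 35, 50, 64, 54, 67, 6, 51, 47, 20, 71, 44, 43, 94, 80, 40, 55, 61, 4, 57, 81, 39, 91]
def b5_c : List K25 := [⟨3, 0⟩, ⟨1, 0⟩, ⟨4, 0⟩, ⟨3, 0⟩, ⟨1, 3⟩, ⟨4, 3⟩, ⟨1, 2⟩, ⟨3, 2⟩, ⟨1, 0⟩, ⟨4, 0⟩, ⟨3, 0⟩, ⟨1, 3⟩, ⟨4, 3⟩, ⟨1, 2⟩, ⟨3, 2⟩, ⟨2, 0⟩, ⟨3, 0⟩, ⟨3, 0⟩, ⟨1, 0⟩, ⟨4, 0⟩, ⟨1, 3⟩, ⟨3, 2⟩, ⟨1, 0⟩, ⟨4, 0⟩, ⟨2, 0⟩, ⟨4, 0⟩, ⟨2, 0⟩, ⟨3, 0⟩, ⟨3, 0⟩, ⟨1, 0⟩, ⟨1, 0⟩, ⟨3, 0⟩, ⟨1, 0⟩, ⟨4, 0⟩, ⟨2, 0⟩, ⟨4, 3⟩, ⟨1, 2⟩, ⟨1, 1⟩, ⟨4, 4⟩, ⟨2, 2⟩, ⟨0, 2⟩, ⟨2, 0⟩, ⟨2, 1⟩, ⟨3, 3⟩, ⟨2, 1⟩, ⟨2, 4⟩, ⟨2, 2⟩, ⟨4, 2⟩, ⟨2, 0⟩, ⟨3, 1⟩, ⟨2, 3⟩, ⟨0, 4⟩, ⟨1, 3⟩, ⟨2,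 1⟩, ⟨1, 1⟩, ⟨1, 4⟩, ⟨4, 3⟩, ⟨4, 0⟩, ⟨2, 3⟩, ⟨0, 1⟩, ⟨3, 4⟩, ⟨0, 3⟩, ⟨4, 1⟩, ⟨3, 0⟩, ⟨3, 3⟩, ⟨3, 1⟩, ⟨3, 4⟩, ⟨4, 0⟩, ⟨4, 4⟩, ⟨3, 0⟩, ⟨2, 4⟩, ⟨4, 1⟩, ⟨2, 4⟩, ⟨0, 2⟩, ⟨3, 0⟩, ⟨0, 1⟩, ⟨4, 0⟩, ⟨3, 1⟩, ⟨3, 0⟩, ⟨4, 1⟩, ⟨4, 4⟩, ⟨4, 2⟩, ⟨4, 0⟩, ⟨3, 4⟩, ⟨2, 2⟩, ⟨1, 4⟩, ⟨4, 2⟩, ⟨2, 0⟩, ⟨2, 4⟩, ⟨2, 3⟩, ⟨0, 3⟩, ⟨3, 1⟩, ⟨3, 2⟩, ⟨1, 1⟩, ⟨1, 4⟩, ⟨0, 4⟩, ⟨1, 2⟩, ⟨2, 1⟩, ⟨0, 4⟩, ⟨0, 2⟩, ⟨1, 4⟩, ⟨2, 0⟩, ⟨0, 3⟩, ⟨3, 3⟩, ⟨0, 1⟩]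
theorem b5_sig : ∀ i < 105, b5_p.getD i 0 < 105 ∧ b5_c.getD i 0 ≠ 0 ∧ Matrix.mulVec b5 (sig i) = b5_c.getD i 0 • sig (b5_p.getD i 0) := by decide
def w2 : Matrix (Fin 3) (Fin 3) K25 := !![⟨2, 0⟩, ⟨0, 0⟩, ⟨3, 2⟩; ⟨0, 0⟩, ⟨4, 0⟩, ⟨0, 0⟩; ⟨1, 3⟩, ⟨0, 0⟩, ⟨3, 0⟩]
def w2_i : Matrix (Fin 3) (Fin 3) K25 := !![⟨2, 0⟩, ⟨0, 0⟩, ⟨3, 2⟩; ⟨0, 0⟩, ⟨4, 0⟩, ⟨0, 0⟩; ⟨1, 3⟩, ⟨0, 0⟩, ⟨3, 0⟩]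
theorem w2_inv : w2_i * w2 = 1 := by decide
theorem w2_unitary : w2.transpose * w2.map (fun x => x ^ 5) = 1 := by decide
theorem w2_det : w2.det = 1 := by decide
theorem w2_pow : w2 ^ 2 = 1 := by decide
def xw : Matrix (Fin 3) (Fin 3) K25 := !![⟨0, 2⟩, ⟨4, 1⟩, ⟨3, 0⟩; ⟨2, 2⟩, ⟨4, 3⟩, ⟨0, 2⟩; ⟨4, 3⟩, ⟨0, 0⟩, ⟨4, 1⟩]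
def xw_i : Matrix (Fin 3) (Fin 3) K25 := !![⟨3, 3⟩, ⟨0, 3⟩, ⟨1, 2⟩; ⟨3, 4⟩, ⟨1, 2⟩, ⟨0, 0⟩; ⟨3, 0⟩, ⟨3, 3⟩, ⟨3, 4⟩]
theorem xw_inv : xw_i * xw = 1 := by decide
theorem xw_unitary : xw.transpose * xw.map (fun x => x ^ 5) = 1 := by decide
theorem xw_det : xw.det = 1 := by decide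
theorem xw_pow : xw ^ 21 = 1 := by decide
theorem xw_pow3 : xw ^ 3 ≠ 1 := by decide
theorem xw_pow7 : xw ^ 7 ≠ 1 := by decide
def om : Matrix (Fin 3) (Fin 3) K25 := !![⟨0, 1⟩, ⟨0, 0⟩, ⟨0, 0⟩; ⟨0, 0⟩, ⟨0, 1⟩, ⟨0, 0⟩; ⟨0, 0⟩, ⟨0, 0⟩, ⟨0, 1⟩]
def om_i : Matrix (Fin 3) (Fin 3) K25 := !![⟨4, 4⟩, ⟨0, 0⟩, ⟨0, 0⟩; ⟨0, 0⟩, ⟨4, 4⟩, ⟨0, 0⟩; ⟨0, 0⟩, ⟨0, 0⟩, ⟨4, 4⟩]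
theorem om_inv : om_i * om = 1 := by decide
theorem om_unitary : om.transpose * om.map (fun x => x ^ 5) = 1 := by decide
theorem om_det : om.det = 1 := by decide
theorem om_pow : om ^ 3 = 1 := by decide
theorem xw_eq : x7 * om = xw := by decide
theorem yx : y3 * x7 = x7 ^ 2 * y3 := by decide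
theorem yx_i : y3_i * x7 = x7 ^ 4 * y3_i := by decide
theorem yx_ne : y3 * x7 ≠ x7 * y3 := by decide
theorem cx : ∀ k < 7, c3 * x7 ≠ x7 ^ k * c3 := by decide
theorem w2_not : ∀ j < 105, ∀ c : K25, Matrix.mulVec w2 (sig 0) ≠ c • sig j := by decide
theorem sig_e0 : sig 8 = ![1, 0, 0] := by decide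
theorem sig_e1 : sig 1 = ![0, 1, 0] := by decide
theorem sig_e2 : sig 0 = ![0, 0, 1] := by decide

end Cfsg.Agent.Helper64.SU3.D25
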