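import Mathlib
import Cfsg.Prelude.Def_Transfer
import Cfsg.Prelude.Def_PLocal
import Cfsg.Agent.Helper64.SmallRank
import Cfsg.Agent.S0065

set_option autoImplicit false

namespace Cfsg.Agent.Helper64

section OmegaQuot

variable {R : Type*} [Group R]

/-- The cyclic subgroup generated by a central element is normal. -/
theorem omegaquot_zpowers_normal {z : R} (hz : z ∈ Subgroup.center R) :
    (Subgroup.zpowers z).Normal := by
  constructor
  intro n hn a
  have h1 : a * n * a⁻¹ = n := by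
    have hc := Subgroup.mem_center_iff.mp (Subgroup.zpowers_le.mpr hz hn) a
    rw [hc]; group
  rw [h1]; exact hn

/-- For `p > 3`, if every subgroup of exponent `p` has order at most `p ^ 2`, the elements of
order dividing `p` form a normal subgroup of order at most `p ^ 2`. -/
theorem omegaquot_exists_E [Finite R] {p : ℕ} [Fact p.Prime] (hp : 3 < p) (hR : IsPGroup p R)
    (hS : ∀ S : Subgroup R, (∀ s ∈ S, s ^ p = 1) → Nat.card S ≤ p ^ 2) :
    ∃ E : Subgroup R, E.Normal ∧ (∀ g, g ∈ E ↔ g ^ p = 1) ∧ Nat.card E ≤ p ^ 2 := by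
  have hrk : ∀ E : Subgroup R, Cfsg.IsElementaryAbelian p E → Nat.card E ≤ p ^ 2 :=
    fun E hE => hS E hE.2
  have key := smallrank_mul_pow_eq_one hp (Nat.card R) R rfl hR hrk
  let E : Subgroup R :=
    { carrier := {g | g ^ p = 1}
      mul_mem' := fun {a b} ha hb => key a b ha hb
      one_mem' := one_pow p
      inv_mem' := fun {a} ha => by
        show a⁻¹ ^ p = 1
        rw [inv_pow, (ha : a ^ p = 1), inv_one] }
  refine ⟨E, ⟨fun a ha g => ?_⟩, fun g => Iff.rfl, hS E (fun s hs => hs)⟩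
  show (g * a * g⁻¹) ^ p = 1
  rw [conj_pow, (ha : a ^ p = 1)]; group

/-- The exponent-`p` rank condition passes to subgroups. -/
theorem omegaquot_sub {p : ℕ} (M : Subgroup R)
    (hS : ∀ S : Subgroup R, (∀ s ∈ S, s ^ p = 1) → Nat.card S ≤ p ^ 2) :
    ∀ S : Subgroup M, (∀ s ∈ S, s ^ p = 1) → Nat.card S ≤ p ^ 2 := by
  intro S hSe
  have h1 := hS (S.map M.subtype) (by
    rintro a ⟨e, he, rfl⟩
    have h2 := congrArg Subtype.val (hSe e he)
    simpa using h2)
  rwa [Subgroup.card_map_of_injective M.subtype_injective] at h1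

/-- Adjoining an element `y` with `y ^ p ∈ N`, `y ^ p ≠ 1`, `y ^ (p ^ 2) = 1` to a normal
subgroup `N` multiplies the order by at most `p`. -/
theorem omegaquot_card_sup_le [Finite R] {p : ℕ} [Fact p.Prime] (hR : IsPGroup p R)
    (N : Subgroup R) [N.Normal] (a : ℕ) (hN : Nat.card N ≤ p ^ (a + 1)) (y : R)
    (hy2 : y ^ (p ^ 2) = 1) (hyN : y ^ p ∈ N) (hy1 : y ^ p ≠ 1) :
    Nat.card (Subgroup.zpowers y ⊔ N : Subgroup R) ≤ p ^ (a + 2) := by
  have hpp := (Fact.out : p.Prime)
  have h1 := card_sup_mul_card_inf (Subgroup.zpowers y) N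
  have h2 : Nat.card (Subgroup.zpowers y) ≤ p ^ 2 := by
    rw [Nat.card_zpowers]
    exact Nat.le_of_dvd (pow_pos hpp.pos 2) (orderOf_dvd_of_pow_eq_one hy2)
  have h3 : p ≤ Nat.card (Subgroup.zpowers y ⊓ N : Subgroup R) := by
    have hlt : (⊥ : Subgroup R) < Subgroup.zpowers y ⊓ N := by
      rw [bot_lt_iff_ne_bot]
      intro h
      apply hy1
      have h4 : y ^ p ∈ (Subgroup.zpowers y ⊓ N : Subgroup R) :=
        Subgroup.mem_inf.mpr ⟨Subgroup.pow_mem _ (Subgroup.mem_zpowers y) p, hyN⟩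
      rw [h] at h4
      simpa using h4
    have h5 := smallrank_card_mul_le_of_lt hR hlt
    rwa [Subgroup.card_bot, one_mul] at h5
  have h4 : Nat.card (Subgroup.zpowers y ⊔ N : Subgroup R) * p ≤ p ^ (a + 2) * p := by
    calc Nat.card (Subgroup.zpowers y ⊔ N : Subgroup R) * p
        ≤ Nat.card (Subgroup.zpowers y ⊔ N : Subgroup R) *
          Nat.card (Subgroup.zpowers y ⊓ N : Subgroup R) := Nat.mul_le_mul_left _ h3
      _ = Nat.card (Subgroup.zpowers y) * Nat.card N := h1
      _ ≤ p ^ 2 * p ^ (a + 1) := Nat.mul_le_mul h2 hN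
      _ = p ^ (a + 2) * p := by ring
  exact Nat.le_of_mul_le_mul_right h4 hpp.pos

/-- Key step: if `x ^ p` is a nontrivial element of the central subgroup `⟨z⟩` of order `p`, then
every `y` with `y ^ p ∈ ⟨z⟩` is a power of `x` times an element of order dividing `p`. -/
theorem omegaquot_key.{u} {p : ℕ} [Fact p.Prime] (hp : 3 < p) :
    ∀ (n : ℕ) (R : Type u) [Group R] [Finite R], Nat.card R = n → IsPGroup p R →
      (∀ S : Subgroup R, (∀ s ∈ S, s ^ p = 1) → Nat.card S ≤ p ^ 2) →
      ∀ z : R, z ∈ Subgroup.center R → z ^ p = 1 →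
      ∀ x y : R, x ^ p ∈ Subgroup.zpowers z → x ^ p ≠ 1 → y ^ p ∈ Subgroup.zpowers z →
        ∃ k : ℤ, (y * x ^ k) ^ p = 1 := by
  intro n
  induction n using Nat.strong_induction_on with
  | _ n ih =>
    intro R _ _ hn hR hS z hz hzp x y hx hx1 hy
    have hpp := (Fact.out : p.Prime)
    obtain ⟨E, hEn, hE, hEcard⟩ := omegaquot_exists_E hp hR hS
    haveI := hEn
    have hZp : ∀ w ∈ Subgroup.zpowers z, w ^ p = 1 := by
      intro w hw
      obtain ⟨m, rfl⟩ := Subgroup.mem_zpowers_iff.mp hw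
      rw [← zpow_natCast, ← zpow_mul, mul_comm, zpow_mul, zpow_natCast, hzp, one_zpow]
    have hZE : Subgroup.zpowers z ≤ E := fun w hw => (hE w).mpr (hZp w hw)
    have hZc : ∀ w ∈ Subgroup.zpowers z, ∀ g : R, g * w = w * g := by
      intro w hw g
      exact Subgroup.mem_center_iff.mp (Subgroup.zpowers_le.mpr hz hw) g
    obtain ⟨K, hK⟩ : ∃ K : Subgroup R, K = Subgroup.zpowers x ⊔ E := ⟨_, rfl⟩
    have hxK : x ∈ K := hK ▸ Subgroup.mem_sup_left (Subgroup.mem_zpowers x)
    have hEK : E ≤ K := hK ▸ le_sup_right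
    have hKmem : ∀ w : R, (∃ k : ℤ, (w * x ^ k) ^ p = 1) → w ∈ K := by
      rintro w ⟨k, hk⟩
      have h1 : w * x ^ k ∈ K := hEK ((hE _).mpr hk)
      have h2 : w = (w * x ^ k) * (x ^ k)⁻¹ := by group
      rw [h2]
      exact K.mul_mem h1 (K.inv_mem (K.zpow_mem hxK k))
    have hconj : ∀ g : R, g * x * g⁻¹ ∈ K := by
      intro g
      by_cases htop : K = ⊤
      · rw [htop]; exact Subgroup.mem_top _
      · obtain ⟨M, hM, hKM⟩ := (eq_top_or_exists_le_coatom K).resolve_left htop
        haveI hMn : M.Normal := coatom_normal_of_pgroup hR M hM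
        have hMidx : M.index = p := coatom_index_of_pgroup hR M hM
        have hMcard : Nat.card M < n := by
          have h1 := M.card_mul_index
          rw [hMidx, hn] at h1
          have hp1 := hpp.one_lt
          have hpos : 0 < Nat.card M := Nat.card_pos
          nlinarith
        have hzM : z ∈ M := hKM (hEK (hZE (Subgroup.mem_zpowers z)))
        have hxM : x ∈ M := hKM hxK
        have hgM : g * x * g⁻¹ ∈ M := hMn.conj_mem x hxM g
        obtain ⟨m, hm⟩ := Subgroup.mem_zpowers_iff.mp hx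
        have hconjp : (g * x * g⁻¹) ^ p = z ^ m := by
          rw [conj_pow, ← hm, hZc (z ^ m) (Subgroup.zpow_mem_zpowers z m) g]; group
        have hres := ih (Nat.card M) hMcard M rfl (hR.to_subgroup M) (omegaquot_sub M hS)
          ⟨z, hzM⟩ (by
            rw [Subgroup.mem_center_iff]
            intro a
            exact Subtype.ext (Subgroup.mem_center_iff.mp hz a))
          (Subtype.ext (by simpa using hzp))
          ⟨x, hxM⟩ ⟨g * x * g⁻¹, hgM⟩
          (Subgroup.mem_zpowers_iff.mpr ⟨m, Subtype.ext (by simpa using hm)⟩)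
          (by
            intro h
            apply hx1
            have h2 := congrArg Subtype.val h
            simpa using h2)
          (Subgroup.mem_zpowers_iff.mpr ⟨m, Subtype.ext (by
            rw [Subgroup.coe_zpow, Subgroup.coe_pow]
            exact hconjp.symm)⟩)
        obtain ⟨k, hk⟩ := hres
        apply hKmem
        refine ⟨k, ?_⟩
        have h2 := congrArg Subtype.val hk
        simpa using h2
    haveI hKn : K.Normal := by
      constructor
      intro w hw g
      have hle : Subgroup.zpowers x ⊔ E ≤ K.comap (MulAut.conj g).toMonoidHom := by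
        refine sup_le (Subgroup.zpowers_le.mpr ?_) ?_
        · show (MulAut.conj g) x ∈ K
          rw [MulAut.conj_apply]
          exact hconj g
        · intro e he
          show (MulAut.conj g) e ∈ K
          rw [MulAut.conj_apply]
          exact hEK (hEn.conj_mem e he g)
      have h1 : (MulAut.conj g) w ∈ K := hle (hK ▸ hw)
      rwa [MulAut.conj_apply] at h1
    have hxpp : x ^ (p ^ 2) = 1 := by rw [pow_two, pow_mul]; exact hZp _ hx
    have hKcard : Nat.card K ≤ p ^ 3 := by
      have h1 := omegaquot_card_sup_le hR E 1 hEcard x hxpp (hZE hx) hx1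
      rwa [← hK] at h1
    by_cases hy1 : y ^ p = 1
    · exact ⟨0, by simpa using hy1⟩
    · have hypp : y ^ (p ^ 2) = 1 := by rw [pow_two, pow_mul]; exact hZp _ hy
      have hLcard : Nat.card (Subgroup.zpowers y ⊔ K : Subgroup R) ≤ p ^ 4 :=
        omegaquot_card_sup_le hR K 2 hKcard y hypp (hEK (hZE hy)) hy1
      have hzx : Subgroup.zpowers (x ^ p) = Subgroup.zpowers z := by
        apply Subgroup.eq_of_le_of_card_ge (Subgroup.zpowers_le.mpr hx)
        rw [Nat.card_zpowers, Nat.card_zpowers, orderOf_eq_prime (hZp _ hx) hx1]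
        exact Nat.le_of_dvd hpp.pos (orderOf_dvd_of_pow_eq_one hzp)
      rw [← hzx] at hy
      obtain ⟨j, hj⟩ := Subgroup.mem_zpowers_iff.mp hy
      have hj' : y ^ p = (x ^ j) ^ p := by
        rw [← hj, ← zpow_natCast, ← zpow_mul, mul_comm, zpow_mul, zpow_natCast]
      have hyL : y ∈ (Subgroup.zpowers y ⊔ K : Subgroup R) :=
        Subgroup.mem_sup_left (Subgroup.mem_zpowers y)
      have hxL : x ^ j ∈ (Subgroup.zpowers y ⊔ K : Subgroup R) :=
        Subgroup.mem_sup_right (K.zpow_mem hxK j)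
      have h1 := (smallrank_pow_eq_iff hp hR _ hLcard hyL hxL).mp hj'
      exact ⟨-j, by rwa [zpow_neg]⟩

/-- There is a subgroup of order at most `p ^ 3` containing the central subgroup `⟨z⟩` and all
elements whose `p`-th power lies in `⟨z⟩`. -/
theorem omegaquot_exists_K [Finite R] {p : ℕ} [Fact p.Prime] (hp : 3 < p) (hR : IsPGroup p R)
    (hS : ∀ S : Subgroup R, (∀ s ∈ S, s ^ p = 1) → Nat.card S ≤ p ^ 2)
    (z : R) (hz : z ∈ Subgroup.center R) (hzp : z ^ p = 1) :
    ∃ K : Subgroup R, Subgroup.zpowers z ≤ K ∧ Nat.card K ≤ p ^ 3 ∧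
      ∀ y : R, y ^ p ∈ Subgroup.zpowers z → y ∈ K := by
  have hpp := (Fact.out : p.Prime)
  obtain ⟨E, hEn, hE, hEcard⟩ := omegaquot_exists_E hp hR hS
  haveI := hEn
  have hZp : ∀ w ∈ Subgroup.zpowers z, w ^ p = 1 := by
    intro w hw
    obtain ⟨m, rfl⟩ := Subgroup.mem_zpowers_iff.mp hw
    rw [← zpow_natCast, ← zpow_mul, mul_comm, zpow_mul, zpow_natCast, hzp, one_zpow]
  have hZE : Subgroup.zpowers z ≤ E := fun w hw => (hE w).mpr (hZp w hw)
  by_cases hex : ∃ x : R, x ^ p ∈ Subgroup.zpowers z ∧ x ^ p ≠ 1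
  · obtain ⟨x, hx, hx1⟩ := hex
    have hxpp : x ^ (p ^ 2) = 1 := by rw [pow_two, pow_mul]; exact hZp _ hx
    refine ⟨Subgroup.zpowers x ⊔ E, hZE.trans le_sup_right,
      omegaquot_card_sup_le hR E 1 hEcard x hxpp (hZE hx) hx1, ?_⟩
    intro y hy
    obtain ⟨k, hk⟩ := omegaquot_key hp (Nat.card R) R rfl hR hS z hz hzp x y hx hx1 hy
    have h1 : y * x ^ k ∈ (Subgroup.zpowers x ⊔ E : Subgroup R) :=
      Subgroup.mem_sup_right ((hE _).mpr hk)
    have h2 : y = (y * x ^ k) * (x ^ k)⁻¹ := by group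
    rw [h2]
    exact Subgroup.mul_mem _ h1 (Subgroup.inv_mem _
      (Subgroup.mem_sup_left (Subgroup.zpow_mem_zpowers x k)))
  · push Not at hex
    refine ⟨E, hZE, hEcard.trans (Nat.pow_le_pow_right hpp.pos (by norm_num)), ?_⟩
    intro y hy
    exact (hE y).mpr (hex y hy)

/-- Order of the image of a subgroup containing `Z` in the quotient by `Z`. -/
theorem omegaquot_card_map [Finite R] (Z K : Subgroup R) [Z.Normal] (h : Z ≤ K) :
    Nat.card (K.map (QuotientGroup.mk' Z)) * Nat.card Z = Nat.card K := by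
  have h1 : (K.map (QuotientGroup.mk' Z)).index = K.index :=
    Subgroup.index_map_eq _ (QuotientGroup.mk'_surjective Z)
      (by rw [QuotientGroup.ker_mk']; exact h)
  have h2 := (K.map (QuotientGroup.mk' Z)).card_mul_index
  have h3 := K.card_mul_index
  have h4 := Z.card_mul_index
  have h5 : Nat.card (R ⧸ Z) = Z.index := rfl
  rw [h1, h5] at h2
  have hpos : 0 < K.index := Nat.pos_of_ne_zero Subgroup.index_ne_zero_of_finite
  apply Nat.eq_of_mul_eq_mul_right hpos
  calc Nat.card (K.map (QuotientGroup.mk' Z)) * Nat.card Z * K.index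
      = Nat.card Z * (Nat.card (K.map (QuotientGroup.mk' Z)) * K.index) := by ring
    _ = Nat.card Z * Z.index := by rw [h2]
    _ = Nat.card R := h4
    _ = Nat.card K * K.index := h3.symm

/-- The exponent-`p` rank condition passes to the quotient by a central subgroup of order `p`
(`p > 3`). -/
theorem omegaquot_central_step [Finite R] {p : ℕ} [Fact p.Prime] (hp : 3 < p)
    (hR : IsPGroup p R)
    (hS : ∀ S : Subgroup R, (∀ s ∈ S, s ^ p = 1) → Nat.card S ≤ p ^ 2)
    (z : R) (hz : z ∈ Subgroup.center R) (hzp : z ^ p = 1) (hz1 : z ≠ 1)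
    [(Subgroup.zpowers z).Normal] :
    ∀ S : Subgroup (R ⧸ Subgroup.zpowers z), (∀ s ∈ S, s ^ p = 1) → Nat.card S ≤ p ^ 2 := by
  intro S hSe
  obtain ⟨K, hZK, hKcard, hK⟩ := omegaquot_exists_K hp hR hS z hz hzp
  have hle : S ≤ K.map (QuotientGroup.mk' (Subgroup.zpowers z)) := by
    intro s hs
    obtain ⟨y, rfl⟩ := QuotientGroup.mk_surjective s
    have h1 := hSe _ hs
    rw [← QuotientGroup.mk_pow, QuotientGroup.eq_one_iff] at h1
    exact ⟨y, hK y h1, rfl⟩
  have h1 := omegaquot_card_map (Subgroup.zpowers z) K hZK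
  have hZcard : Nat.card (Subgroup.zpowers z) = p := by
    rw [Nat.card_zpowers]; exact orderOf_eq_prime hzp hz1
  rw [hZcard] at h1
  have h2 := Subgroup.card_le_of_le hle
  have h3 : Nat.card S * p ≤ p ^ 2 * p := by
    calc Nat.card S * p
        ≤ Nat.card (K.map (QuotientGroup.mk' (Subgroup.zpowers z))) * p :=
          Nat.mul_le_mul_right p h2
      _ = Nat.card K := h1
      _ ≤ p ^ 3 := hKcard
      _ = p ^ 2 * p := by ring
  exact Nat.le_of_mul_le_mul_right h3 (Fact.out : p.Prime).pos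

/-- A nontrivial normal subgroup of a finite `p`-group contains a central element of order `p`. -/
theorem omegaquot_exists_central [Finite R] {p : ℕ} [Fact p.Prime] (hR : IsPGroup p R)
    (N : Subgroup R) [N.Normal] (hN : N ≠ ⊥) :
    ∃ z : R, z ∈ N ∧ z ∈ Subgroup.center R ∧ z ^ p = 1 ∧ z ≠ 1 := by
  have hpp := (Fact.out : p.Prime)
  haveI : Group.IsNilpotent R := hR.isNilpotent
  have h := Cfsg.Agent.S0065.result N hN
  obtain ⟨w, hw, hw1⟩ : ∃ w, w ∈ N ⊓ Subgroup.center R ∧ w ≠ 1 := by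
    by_contra hcon
    push Not at hcon
    exact h (eq_bot_iff.mpr fun w hw => by simpa using hcon w hw)
  obtain ⟨k, hk⟩ := (IsPGroup.iff_orderOf.mp hR) w
  have hk0 : k ≠ 0 := by
    rintro rfl
    rw [pow_zero, orderOf_eq_one_iff] at hk
    exact hw1 hk
  obtain ⟨k', rfl⟩ := Nat.exists_eq_succ_of_ne_zero hk0
  refine ⟨w ^ (p ^ k'), Subgroup.pow_mem _ hw.1 _, Subgroup.pow_mem _ hw.2 _, ?_, ?_⟩
  · rw [← pow_mul, ← pow_succ, ← hk]; exact pow_orderOf_eq_one w
  · intro h1
    have h2 := orderOf_dvd_of_pow_eq_one h1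
    rw [hk] at h2
    have h3 := (Nat.pow_dvd_pow_iff_le_right hpp.one_lt).mp h2
    omega

/-- The exponent-`p` rank condition passes to homomorphic images (`p > 3`). -/
theorem omegaquot_hom.{u, v} {p : ℕ} [Fact p.Prime] (hp : 3 < p) :
    ∀ (n : ℕ) (R : Type u) [Group R] [Finite R], Nat.card R = n → IsPGroup p R →
      (∀ S : Subgroup R, (∀ s ∈ S, s ^ p = 1) → Nat.card S ≤ p ^ 2) →
      ∀ (Q : Type v) [Group Q] (f : R →* Q), Function.Surjective f →
      ∀ S : Subgroup Q, (∀ s ∈ S, s ^ p = 1) → Nat.card S ≤ p ^ 2 := by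
  intro n
  induction n using Nat.strong_induction_on with
  | _ n ih =>
    intro R _ _ hn hR hS Q _ f hf S hSe
    have hpp := (Fact.out : p.Prime)
    by_cases hker : f.ker = ⊥
    · have hinj : Function.Injective f := (MonoidHom.ker_eq_bot_iff f).mp hker
      have h1 := hS (S.comap f) (by
        intro s hs
        apply hinj
        rw [map_pow, map_one]
        exact hSe _ hs)
      have h2 : Nat.card (S.comap f) = Nat.card S := by
        have h3 := Subgroup.card_map_of_injective (K := S.comap f) hinj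
        rw [Subgroup.map_comap_eq_self_of_surjective hf] at h3
        exact h3.symm
      rwa [h2] at h1
    · obtain ⟨z, hzker, hzc, hzp, hz1⟩ := omegaquot_exists_central hR f.ker hker
      haveI hZn : (Subgroup.zpowers z).Normal := omegaquot_zpowers_normal hzc
      have hZcard : Nat.card (Subgroup.zpowers z) = p := by
        rw [Nat.card_zpowers]; exact orderOf_eq_prime hzp hz1
      have hcardQ : Nat.card (R ⧸ Subgroup.zpowers z) < n := by
        have h1 := (Subgroup.zpowers z).card_mul_index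
        rw [hZcard, hn] at h1
        have h2 : Nat.card (R ⧸ Subgroup.zpowers z) = (Subgroup.zpowers z).index := rfl
        have hpos : 0 < (Subgroup.zpowers z).index :=
          Nat.pos_of_ne_zero Subgroup.index_ne_zero_of_finite
        have h3 := hpp.one_lt
        rw [h2]; nlinarith
      have hS' := omegaquot_central_step hp hR hS z hzc hzp hz1
      have hle : Subgroup.zpowers z ≤ f.ker := Subgroup.zpowers_le.mpr hzker
      exact ih _ hcardQ (R ⧸ Subgroup.zpowers z) rfl (hR.to_quotient _) hS' Q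
        (QuotientGroup.lift (Subgroup.zpowers z) f hle) (by
          intro q
          obtain ⟨r, rfl⟩ := hf q
          exact ⟨QuotientGroup.mk r, rfl⟩) S hSe

/-- In a `p`-group (`p > 3`) satisfying the exponent-`p` rank condition, `Ω₁` has exponent `p`. -/
theorem omegaquot_omega_exp [Finite R] {p : ℕ} [Fact p.Prime] (hp : 3 < p) (hR : IsPGroup p R)
    (hS : ∀ S : Subgroup R, (∀ s ∈ S, s ^ p = 1) → Nat.card S ≤ p ^ 2) :
    ∀ s ∈ Cfsg.omegaOne p (⊤ : Subgroup R), s ^ p = 1 := by
  intro s hs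
  have hrk : ∀ E : Subgroup R, Cfsg.IsElementaryAbelian p E → Nat.card E ≤ p ^ 2 :=
    fun E hE => hS E hE.2
  have key := smallrank_mul_pow_eq_one hp (Nat.card R) R rfl hR hrk
  have hs' : s ∈ Subgroup.closure {x : R | x ∈ (⊤ : Subgroup R) ∧ x ^ p = 1} := hs
  refine Subgroup.closure_induction (p := fun g _ => g ^ p = 1) ?_ ?_ ?_ ?_ hs'
  · intro x hx
    exact hx.2
  · exact one_pow p
  · intro x y _ _ hx hy
    exact key x y hx hy
  · intro x _ hx
    rw [inv_pow, hx, inv_one]

/-- The bound `|Ω₁(R)| ≤ p ^ 2` gives the exponent-`p` rank condition. -/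
theorem omegaquot_of_card_omega {p : ℕ} [Finite R]
    (hO : Nat.card ↥(Cfsg.omegaOne p (⊤ : Subgroup R)) ≤ p ^ 2) :
    ∀ S : Subgroup R, (∀ s ∈ S, s ^ p = 1) → Nat.card S ≤ p ^ 2 := by
  intro S hSe
  refine (Subgroup.card_le_of_le ?_).trans hO
  intro s hs
  exact Subgroup.subset_closure ⟨Subgroup.mem_top s, hSe s hs⟩

/-- For `p > 3`: if `|Ω₁(R)| ≤ p ^ 2` then `|Ω₁(R ⧸ T)| ≤ p ^ 2`. -/
theorem omegaquot_main [Finite R] {p : ℕ} [Fact p.Prime] (hp : 3 < p) (hR : IsPGroup p R)
    (hO : Nat.card ↥(Cfsg.omegaOne p (⊤ : Subgroup R)) ≤ p ^ 2) (T : Subgroup R) [T.Normal] :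
    Nat.card ↥(Cfsg.omegaOne p (⊤ : Subgroup (R ⧸ T))) ≤ p ^ 2 := by
  have hS := omegaquot_of_card_omega hO
  have hQ := omegaquot_hom hp (Nat.card R) R rfl hR hS (R ⧸ T) (QuotientGroup.mk' T)
    (QuotientGroup.mk'_surjective T)
  exact hQ _ (omegaquot_omega_exp hp (hR.to_quotient T) hQ)

end OmegaQuot

end Cfsg.Agent.Helper64
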