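import Mathlib
import Cfsg.Agent.Helper64.RegularClass

set_option autoImplicit false

namespace Cfsg.Agent.Helper64

section PExpClosed

variable {G : Type*} [Group G]

/-- A finite commutative `p`-group whose elements of order dividing `p` all lie in one cyclic
subgroup of order dividing `p` is cyclic. -/
theorem isCyclic_of_omega_le {Z : Type*} [Group Z] [Finite Z] {p : ℕ} [Fact p.Prime]
    (hZ : IsPGroup p Z) (hcomm : ∀ a b : Z, a * b = b * a) (z : Z) (hz : z ^ p = 1)
    (hΩ : ∀ a : Z, a ^ p = 1 → a ∈ Subgroup.zpowers z) : IsCyclic Z := by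
  classical
  haveI := Fintype.ofFinite Z
  have hp := (Fact.out : p.Prime)
  have hΩ1 : ∀ j : ℕ, (Finset.univ.filter (fun a : Z => a ^ p ^ j = 1)).card ≤ p ^ j := by
    intro j
    induction j with
    | zero =>
      have h0 : Finset.univ.filter (fun a : Z => a ^ p ^ 0 = 1) = {1} := by ext a; simp
      rw [h0]; simp
    | succ j ih =>
      have h1 := Finset.card_le_mul_card_image (f := fun a : Z => a ^ p)
        (Finset.univ.filter (fun a : Z => a ^ p ^ (j + 1) = 1)) p ?_
      · refine h1.trans ?_
        have h3 : ((Finset.univ.filter (fun a : Z => a ^ p ^ (j + 1) = 1)).image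
            (fun a : Z => a ^ p)).card ≤ p ^ j := by
          refine (Finset.card_le_card ?_).trans ih
          intro b hb
          obtain ⟨a, ha, rfl⟩ := Finset.mem_image.mp hb
          simp only [Finset.mem_filter, Finset.mem_univ, true_and] at ha ⊢
          rw [← pow_mul, ← pow_succ']; exact ha
        calc p * _ ≤ p * p ^ j := Nat.mul_le_mul_left p h3
          _ = p ^ (j + 1) := (pow_succ' p j).symm
      · intro b hb
        obtain ⟨a₀, ha₀, rfl⟩ := Finset.mem_image.mp hb
        have hsub : (Finset.univ.filter (fun a : Z => a ^ p ^ (j + 1) = 1)).filter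
            (fun x => x ^ p = a₀ ^ p) ⊆
            (Finset.univ.filter (fun t : Z => t ∈ Subgroup.zpowers z)).image (fun t => t * a₀) := by
          intro x hx
          simp only [Finset.mem_filter, Finset.mem_univ, true_and] at hx
          refine Finset.mem_image.mpr ⟨x * a₀⁻¹, ?_, by simp⟩
          simp only [Finset.mem_filter, Finset.mem_univ, true_and]
          apply hΩ
          have hc : Commute x a₀⁻¹ := hcomm x a₀⁻¹
          rw [hc.mul_pow, hx.2, inv_pow, mul_inv_cancel]
        refine (Finset.card_le_card hsub).trans (Finset.card_image_le.trans ?_)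
        have h2 : (Finset.univ.filter (fun t : Z => t ∈ Subgroup.zpowers z)).card = orderOf z := by
          rw [← Nat.card_zpowers, Nat.card_eq_fintype_card, Fintype.card_subtype]
        rw [h2]
        exact Nat.le_of_dvd hp.pos (orderOf_dvd_of_pow_eq_one hz)
  apply isCyclic_of_card_pow_eq_one_le
  intro n hn
  refine (Finset.card_le_card
    (t := Finset.univ.filter (fun a : Z => a ^ p ^ (n.factorization p) = 1)) ?_).trans
    ((hΩ1 _).trans ?_)
  · intro a ha
    simp only [Finset.mem_filter, Finset.mem_univ, true_and] at ha ⊢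
    obtain ⟨i, hi⟩ := (IsPGroup.iff_orderOf.mp hZ) a
    have h1 : p ^ i ∣ n := hi ▸ orderOf_dvd_of_pow_eq_one ha
    have h2 : i ≤ n.factorization p := (hp.pow_dvd_iff_le_factorization hn.ne').mp h1
    have h3 : orderOf a ∣ p ^ (n.factorization p) := by rw [hi]; exact pow_dvd_pow p h2
    exact orderOf_dvd_iff_pow_eq_one.mp h3
  · exact Nat.le_of_dvd hn (Nat.ordProj_dvd n p)

theorem exists_bad_pair {p : ℕ}
    (hnc : ¬ (∃ H : Subgroup G, (H : Set G) = {g : G | g ^ p = 1})) :
    ∃ x y : G, x ^ p = 1 ∧ y ^ p = 1 ∧ (x * y) ^ p ≠ 1 := by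
  by_contra h
  push Not at h
  apply hnc
  exact ⟨{ carrier := {g : G | g ^ p = 1}
           mul_mem' := fun {a b} ha hb => h a b ha hb
           one_mem' := one_pow p
           inv_mem' := fun {a} ha => by
             show a⁻¹ ^ p = 1
             rw [inv_pow, (ha : a ^ p = 1), inv_one] }, rfl⟩

/-- Structure of a finite `p`-group that is not `p`-exponent closed while all its proper subgroups
and proper quotients are. -/
theorem pexp_minimal_structure [Finite G] {p : ℕ} [Fact p.Prime] (hG : IsPGroup p G)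
    (hnc : ¬ (∃ H : Subgroup G, (H : Set G) = {g : G | g ^ p = 1}))
    (hsub : ∀ K : Subgroup G, K ≠ ⊤ → (∃ H : Subgroup ↥K, (H : Set ↥K) = {g : ↥K | g ^ p = 1}))
    (hquo : ∀ (N : Subgroup G) [N.Normal], N ≠ ⊥ →
      (∃ H : Subgroup (G ⧸ N), (H : Set (G ⧸ N)) = {g : (G ⧸ N) | g ^ p = 1})) :
    (∃ x y : G, Subgroup.closure ({x, y} : Set G) = ⊤) ∧
      (⊤ : Subgroup G).lowerCentralSeries (p - 1) ≠ ⊥ ∧
      Monoid.exponent G = p ^ 2 ∧ IsCyclic ↥(Subgroup.center G) ∧ p ^ (p + 1) ≤ Nat.card G := by
  have hp := (Fact.out : p.Prime)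
  obtain ⟨x, y, hx, hy, hxy⟩ := exists_bad_pair hnc
  have hgen : Subgroup.closure ({x, y} : Set G) = ⊤ := by
    by_contra hK
    obtain ⟨H, hH⟩ := hsub _ hK
    have hxK : x ∈ Subgroup.closure ({x, y} : Set G) := Subgroup.subset_closure (by simp)
    have hyK : y ∈ Subgroup.closure ({x, y} : Set G) := Subgroup.subset_closure (by simp)
    have hxH : (⟨x, hxK⟩ : Subgroup.closure ({x, y} : Set G)) ∈ H := by
      rw [← SetLike.mem_coe, hH]; exact Subtype.ext (by simpa using hx)
    have hyH : (⟨y, hyK⟩ : Subgroup.closure ({x, y} : Set G)) ∈ H := by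
      rw [← SetLike.mem_coe, hH]; exact Subtype.ext (by simpa using hy)
    have hm := H.mul_mem hxH hyH
    rw [← SetLike.mem_coe, hH] at hm
    have hm' := congrArg Subtype.val
      (hm : ((⟨x, hxK⟩ : Subgroup.closure ({x, y} : Set G)) * ⟨y, hyK⟩) ^ p = 1)
    exact hxy (by simpa using hm')
  have hclass : (⊤ : Subgroup G).lowerCentralSeries (p - 1) ≠ ⊥ := by
    intro hcl
    have h1 := mul_pow_eq_one_of_lcs_eq_bot hG hcl 1 x y (by simpa using hx) (by simpa using hy)
    exact hxy (by simpa using h1)
  have hpowmem : ∀ z₀ : G, z₀ ∈ Subgroup.center G → z₀ ≠ 1 →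
      ∀ g : G, g ^ p ∈ Subgroup.zpowers z₀ := by
    intro z₀ hz₀ hne g
    haveI : (Subgroup.zpowers z₀).Normal := by
      constructor
      intro n hn a
      have h1 : a * n * a⁻¹ = n := by
        obtain ⟨k, rfl⟩ := Subgroup.mem_zpowers_iff.mp hn
        have hc : z₀ ^ k ∈ Subgroup.center G := Subgroup.zpow_mem _ hz₀ k
        rw [Subgroup.mem_center_iff] at hc
        rw [hc a]; group
      rw [h1]; exact hn
    have hNne : Subgroup.zpowers z₀ ≠ ⊥ := by
      intro h
      apply hne
      have h1 : z₀ ∈ (⊥ : Subgroup G) := h ▸ Subgroup.mem_zpowers z₀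
      simpa using h1
    obtain ⟨H, hH⟩ := hquo (Subgroup.zpowers z₀) hNne
    have hmemH : ∀ u : G, u ^ p = 1 → (QuotientGroup.mk u : G ⧸ Subgroup.zpowers z₀) ∈ H := by
      intro u hu
      rw [← SetLike.mem_coe, hH]
      show (QuotientGroup.mk u : G ⧸ Subgroup.zpowers z₀) ^ p = 1
      rw [← QuotientGroup.mk_pow, hu]; rfl
    have htop : H.comap (QuotientGroup.mk' (Subgroup.zpowers z₀)) = ⊤ := by
      rw [eq_top_iff, ← hgen, Subgroup.closure_le]
      rintro u hu
      rcases hu with rfl | rfl
      · exact hmemH _ hx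
      · exact hmemH _ hy
    have hg : (QuotientGroup.mk g : G ⧸ Subgroup.zpowers z₀) ∈ H := by
      have h1 : g ∈ H.comap (QuotientGroup.mk' (Subgroup.zpowers z₀)) := htop ▸ Subgroup.mem_top g
      exact h1
    rw [← SetLike.mem_coe, hH] at hg
    have hg' : (QuotientGroup.mk g : G ⧸ Subgroup.zpowers z₀) ^ p = 1 := hg
    rw [← QuotientGroup.mk_pow, QuotientGroup.eq_one_iff] at hg'
    exact hg'
  haveI : Nontrivial G := ⟨⟨x * y, 1, fun h => hxy (by rw [h, one_pow])⟩⟩
  haveI := hG.center_nontrivial
  have hZp : IsPGroup p (Subgroup.center G) := hG.to_subgroup _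
  obtain ⟨z, hz⟩ : ∃ z : Subgroup.center G, orderOf z = p := by
    apply exists_prime_orderOf_dvd_card' p
    obtain ⟨k, hk⟩ := IsPGroup.iff_card.mp hZp
    rw [hk]
    have hk0 : k ≠ 0 := by
      rintro rfl
      have h1 : Nat.card (Subgroup.center G) = 1 := by simpa using hk
      have h2 := Finite.one_lt_card (α := Subgroup.center G)
      omega
    exact dvd_pow_self p hk0
  have hz1 : (z : G) ≠ 1 := by
    intro h
    have h1 : z = 1 := Subtype.ext h
    rw [h1, orderOf_one] at hz
    exact hp.one_lt.ne hz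
  have hzp : (z : G) ^ p = 1 := by
    have h1 := pow_orderOf_eq_one z
    rw [hz] at h1
    have h2 := congrArg Subtype.val h1
    simpa using h2
  have hexp2 : ∀ g : G, g ^ (p ^ 2) = 1 := by
    intro g
    obtain ⟨k, hk⟩ := Subgroup.mem_zpowers_iff.mp (hpowmem z z.2 hz1 g)
    rw [pow_two, pow_mul, ← hk, ← zpow_natCast, ← zpow_mul, mul_comm, zpow_mul, zpow_natCast, hzp,
      one_zpow]
  have hexp : Monoid.exponent G = p ^ 2 := by
    have hdvd : Monoid.exponent G ∣ p ^ 2 := Monoid.exponent_dvd_of_forall_pow_eq_one hexp2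
    obtain ⟨i, hi, hie⟩ := (Nat.dvd_prime_pow hp).mp hdvd
    have hi2 : i = 2 := by
      by_contra hne
      have hi1 : i ≤ 1 := by omega
      have h1 : Monoid.exponent G ∣ p := by
        rw [hie]; exact (pow_dvd_pow p hi1).trans (by simp)
      obtain ⟨t, ht⟩ := h1
      apply hxy
      rw [ht, pow_mul, Monoid.pow_exponent_eq_one, one_pow]
    rw [hie, hi2]
  have hcyc : IsCyclic (Subgroup.center G) := by
    apply isCyclic_of_omega_le hZp
      (fun a b => Subtype.ext (by
        have h := Subgroup.mem_center_iff.mp b.2 (a : G)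
        simpa using h)) z
      (by rw [← hz]; exact pow_orderOf_eq_one z)
    intro a ha
    by_contra hnot
    have ha1 : (a : G) ≠ 1 := by
      intro h
      apply hnot
      have h1 : a = 1 := Subtype.ext h
      rw [h1]; exact Subgroup.one_mem _
    have hap : (a : G) ^ p = 1 := by
      have h1 := congrArg Subtype.val ha; simpa using h1
    have h1 := hpowmem a a.2 ha1 (x * y)
    have h2 := hpowmem z z.2 hz1 (x * y)
    have hup : ((x * y) ^ p) ^ p = 1 := by rw [← pow_mul, ← pow_two]; exact hexp2 _
    have hou : orderOf ((x * y) ^ p) = p := orderOf_eq_prime hup hxy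
    have hoa : orderOf (a : G) = p := orderOf_eq_prime hap ha1
    have hoz : orderOf (z : G) = p := orderOf_eq_prime hzp hz1
    have e1 : Subgroup.zpowers ((x * y) ^ p) = Subgroup.zpowers (a : G) :=
      Subgroup.eq_of_le_of_card_ge (Subgroup.zpowers_le.mpr h1)
        (by rw [Nat.card_zpowers, Nat.card_zpowers, hou, hoa])
    have e2 : Subgroup.zpowers ((x * y) ^ p) = Subgroup.zpowers (z : G) :=
      Subgroup.eq_of_le_of_card_ge (Subgroup.zpowers_le.mpr h2)
        (by rw [Nat.card_zpowers, Nat.card_zpowers, hou, hoz])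
    have h3 : (a : G) ∈ Subgroup.zpowers (z : G) := by
      rw [← e2, e1]; exact Subgroup.mem_zpowers _
    obtain ⟨k, hk⟩ := Subgroup.mem_zpowers_iff.mp h3
    exact hnot (Subgroup.mem_zpowers_iff.mpr ⟨k, Subtype.ext (by simpa using hk)⟩)
  have hnil : Group.IsNilpotent G := hG.isNilpotent
  obtain ⟨c, hc⟩ := Subgroup.nilpotent_iff_lowerCentralSeries.mp hnil
  have hstrict : ∀ j, (⊤ : Subgroup G).lowerCentralSeries j ≠ ⊥ →
      (⊤ : Subgroup G).lowerCentralSeries (j + 1) ≠ (⊤ : Subgroup G).lowerCentralSeries j := by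
    intro j hj heq
    have hall : ∀ m, (⊤ : Subgroup G).lowerCentralSeries (j + m) =
        (⊤ : Subgroup G).lowerCentralSeries j := by
      intro m
      induction m with
      | zero => rfl
      | succ m ih =>
        rw [← add_assoc, Subgroup.lowerCentralSeries_succ, ih, ← Subgroup.lowerCentralSeries_succ,
          heq]
    apply hj
    rw [← hall c, eq_bot_iff, ← hc]
    exact (⊤ : Subgroup G).lowerCentralSeries_antitone (by omega)
  have hcardstep : ∀ j, (⊤ : Subgroup G).lowerCentralSeries j ≠ ⊥ →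
      Nat.card ((⊤ : Subgroup G).lowerCentralSeries (j + 1)) * p ≤
        Nat.card ((⊤ : Subgroup G).lowerCentralSeries j) := by
    intro j hj
    have hle : (⊤ : Subgroup G).lowerCentralSeries (j + 1) ≤
        (⊤ : Subgroup G).lowerCentralSeries j :=
      (⊤ : Subgroup G).lowerCentralSeries_antitone (Nat.le_succ j)
    obtain ⟨a, ha⟩ := IsPGroup.iff_card.mp
      (hG.to_subgroup ((⊤ : Subgroup G).lowerCentralSeries j))
    obtain ⟨b, hb⟩ := IsPGroup.iff_card.mp
      (hG.to_subgroup ((⊤ : Subgroup G).lowerCentralSeries (j + 1)))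
    have hlt : Nat.card ((⊤ : Subgroup G).lowerCentralSeries (j + 1)) <
        Nat.card ((⊤ : Subgroup G).lowerCentralSeries j) := by
      by_contra hcon
      push Not at hcon
      exact hstrict j hj (Subgroup.eq_of_le_of_card_ge hle hcon)
    rw [ha, hb] at hlt ⊢
    have hba : b < a := (Nat.pow_lt_pow_iff_right hp.one_lt).mp hlt
    calc p ^ b * p = p ^ (b + 1) := (pow_succ p b).symm
      _ ≤ p ^ a := Nat.pow_le_pow_right hp.pos (by omega)
  have hchain : ∀ k j, j + k = p - 1 →
      p ^ (k + 1) ≤ Nat.card ((⊤ : Subgroup G).lowerCentralSeries j) := by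
    intro k
    induction k with
    | zero =>
      intro j hj
      have hj' : j = p - 1 := by omega
      subst hj'
      obtain ⟨a, ha⟩ := IsPGroup.iff_card.mp
        (hG.to_subgroup ((⊤ : Subgroup G).lowerCentralSeries (p - 1)))
      rw [ha]
      have ha0 : a ≠ 0 := by
        rintro rfl
        apply hclass
        exact Subgroup.card_eq_one.mp (by simpa using ha)
      simpa using Nat.pow_le_pow_right hp.pos (Nat.one_le_iff_ne_zero.mpr ha0)
    | succ k ih =>
      intro j hj
      have h1 := ih (j + 1) (by omega)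
      have hjne : (⊤ : Subgroup G).lowerCentralSeries j ≠ ⊥ := by
        intro h
        apply hclass
        rw [eq_bot_iff, ← h]
        exact (⊤ : Subgroup G).lowerCentralSeries_antitone (by omega)
      have h2 := hcardstep j hjne
      calc p ^ (k + 1 + 1) = p ^ (k + 1) * p := pow_succ p (k + 1)
        _ ≤ Nat.card ((⊤ : Subgroup G).lowerCentralSeries (j + 1)) * p :=
          Nat.mul_le_mul_right p h1
        _ ≤ _ := h2
  have hcard : p ^ (p + 1) ≤ Nat.card G := by
    have hcomm1 : p ^ (p - 1) ≤ Nat.card (commutator G) := by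
      have h1 := hchain (p - 2) 1 (by have := hp.two_le; omega)
      have e : p - 2 + 1 = p - 1 := by have := hp.two_le; omega
      rw [e] at h1
      exact h1
    obtain ⟨i, hi⟩ := hG.index (commutator G)
    have hi2 : 2 ≤ i := by
      by_contra hlt
      have hcq : IsCyclic (G ⧸ commutator G) := by
        have hcardq : Nat.card (G ⧸ commutator G) = p ^ i := hi
        have hi01 : i = 0 ∨ i = 1 := by omega
        rcases hi01 with rfl | rfl
        · rw [pow_zero] at hcardq
          haveI : Subsingleton (G ⧸ commutator G) := (Nat.card_eq_one_iff_unique.mp hcardq).1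
          infer_instance
        · rw [pow_one] at hcardq
          exact isCyclic_of_prime_card hcardq
      obtain ⟨gq, hgq⟩ := hcq.exists_generator
      obtain ⟨g, rfl⟩ := QuotientGroup.mk_surjective gq
      have hsup : Subgroup.zpowers g ⊔ commutator G = ⊤ := by
        rw [eq_top_iff]
        intro h _
        obtain ⟨k, hk⟩ := Subgroup.mem_zpowers_iff.mp (hgq (QuotientGroup.mk h))
        have h1 : (g ^ k)⁻¹ * h ∈ commutator G := by
          rw [← QuotientGroup.eq]; simpa using hk
        have e : h = g ^ k * ((g ^ k)⁻¹ * h) := by group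
        rw [e]
        exact Subgroup.mul_mem _ (Subgroup.mem_sup_left (Subgroup.zpow_mem_zpowers g k))
          (Subgroup.mem_sup_right h1)
      have htop := Cfsg.Agent.Helper70.eq_top_of_sup_commutator_eq_top hG _ hsup
      have hxg : x ∈ Subgroup.zpowers g := htop ▸ Subgroup.mem_top x
      have hyg : y ∈ Subgroup.zpowers g := htop ▸ Subgroup.mem_top y
      obtain ⟨k1, hk1⟩ := Subgroup.mem_zpowers_iff.mp hxg
      obtain ⟨k2, hk2⟩ := Subgroup.mem_zpowers_iff.mp hyg
      apply hxy
      have hcm : Commute x y := by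
        rw [← hk1, ← hk2]; exact (Commute.refl g).zpow_zpow k1 k2
      rw [hcm.mul_pow, hx, hy, one_mul]
    have hmul := (commutator G).card_mul_index
    rw [hi] at hmul
    calc p ^ (p + 1) = p ^ (p - 1) * p ^ 2 := by
          rw [← pow_add]; congr 1; have := hp.two_le; omega
      _ ≤ Nat.card (commutator G) * p ^ i :=
          Nat.mul_le_mul hcomm1 (Nat.pow_le_pow_right hp.pos hi2)
      _ = Nat.card G := hmul
  exact ⟨⟨x, y, hgen⟩, hclass, hexp, hcyc, hcard⟩

end PExpClosed

end Cfsg.Agent.Helper64
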