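import Mathlib
import Cfsg.Prelude.Def_OddOrderLocal
import Cfsg.Agent.Helper64.OmegaQuot
import Cfsg.Agent.Helper64.PExpClosed
import Cfsg.Agent.Helper49.OddCyclic

set_option autoImplicit false

namespace Cfsg.Agent.Helper64

section MetaCyc

open scoped commutatorElement

variable {R : Type*} [Group R]

/-- Order of the image of a subgroup in a quotient. -/
theorem metacyc_card_map_mul [Finite R] (N E : Subgroup R) [N.Normal] :
    Nat.card (E.map (QuotientGroup.mk' N)) * Nat.card (N ⊓ E : Subgroup R) = Nat.card E := by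
  let φ : E →* R ⧸ N := (QuotientGroup.mk' N).comp E.subtype
  have h1 : φ.range = E.map (QuotientGroup.mk' N) := by
    rw [MonoidHom.range_comp, Subgroup.range_subtype]
  have h2 : φ.ker = N.subgroupOf E := by
    rw [← MonoidHom.comap_ker, QuotientGroup.ker_mk']
    rfl
  have h3 := φ.ker.card_mul_index
  rw [Subgroup.index_ker, h1, h2, card_subgroupOf_eq_card_inf] at h3
  rw [mul_comm]; exact h3

/-- Lemma M: an odd-order `p`-group whose derived subgroup lies in a central subgroup of order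
`p` and whose elements of order dividing `p` form a subgroup of order at most `p ^ 2` is
metacyclic. -/
theorem metacyc_of_comm_le [Finite R] {p : ℕ} [Fact p.Prime] (hp2 : p ≠ 2) (hR : IsPGroup p R)
    (E : Subgroup R) (hE : ∀ g, g ∈ E ↔ g ^ p = 1) (hEcard : Nat.card E ≤ p ^ 2)
    (z : R) (hz : z ∈ Subgroup.center R) (hzp : z ^ p = 1) (hz1 : z ≠ 1)
    (hcomm : commutator R ≤ Subgroup.zpowers z) : Cfsg.IsMetacyclic R := by
  have hpp := (Fact.out : p.Prime)
  have hZp : ∀ w ∈ Subgroup.zpowers z, w ^ p = 1 := by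
    intro w hw
    obtain ⟨m, rfl⟩ := Subgroup.mem_zpowers_iff.mp hw
    rw [← zpow_natCast, ← zpow_mul, mul_comm, zpow_mul, zpow_natCast, hzp, one_zpow]
  have hZc : Subgroup.zpowers z ≤ Subgroup.center R := Subgroup.zpowers_le.mpr hz
  have hcm : ∀ g₁ g₂ : R, ⁅g₁, g₂⁆ ∈ Subgroup.zpowers z := fun g₁ g₂ =>
    hcomm (Subgroup.commutator_mem_commutator (Subgroup.mem_top g₁) (Subgroup.mem_top g₂))
  -- the `p`-power map is multiplicative
  have hpow : ∀ a b : R, (a * b) ^ p = a ^ p * b ^ p := by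
    intro a b
    have hc : ⁅b⁻¹, a⁻¹⁆ ∈ Subgroup.zpowers z := hcm _ _
    have hcc := Subgroup.mem_center_iff.mp (hZc hc)
    apply Cfsg.Agent.Helper49.mul_pow_prime_of_central hpp hp2 (c := ⁅b⁻¹, a⁻¹⁆)
    · rw [commutatorElement_def]; group
    · exact (hcc a).symm
    · exact (hcc b).symm
    · exact hZp _ hc
  -- choose `g` of maximal order with `z ∈ ⟨g⟩`
  haveI : Nonempty {g : R // z ∈ Subgroup.zpowers g} := ⟨⟨z, Subgroup.mem_zpowers z⟩⟩
  obtain ⟨⟨g, hg⟩, hmax⟩ := Finite.exists_max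
    (fun g : {g : R // z ∈ Subgroup.zpowers g} => orderOf (g : R))
  have hmax' : ∀ y : R, z ∈ Subgroup.zpowers y → orderOf y ≤ orderOf g :=
    fun y hy => hmax ⟨y, hy⟩
  have hZN : Subgroup.zpowers z ≤ Subgroup.zpowers g := Subgroup.zpowers_le.mpr hg
  haveI hNn : (Subgroup.zpowers g).Normal := by
    constructor
    intro n hn a
    have h1 : a * n * a⁻¹ = ⁅a, n⁆ * n := by rw [commutatorElement_def]; group
    rw [h1]
    exact Subgroup.mul_mem _ (hZN (hcm a n)) hn
  obtain ⟨e, he⟩ := (IsPGroup.iff_orderOf.mp hR) g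
  have hg1 : g ≠ 1 := by
    rintro rfl
    apply hz1
    have h1 : z ∈ Subgroup.zpowers (1 : R) := hg
    rw [Subgroup.zpowers_one_eq_bot] at h1
    simpa using h1
  have he0 : e ≠ 0 := by
    rintro rfl
    rw [pow_zero, orderOf_eq_one_iff] at he
    exact hg1 he
  -- elements of order `p` of the quotient come from `E`
  have hlift : ∀ y : R, y ^ p ∈ Subgroup.zpowers g →
      ∃ e₀ ∈ E, (QuotientGroup.mk y : R ⧸ Subgroup.zpowers g) = QuotientGroup.mk e₀ := by
    intro y hy
    obtain ⟨k, hk⟩ := (Submonoid.mem_powers_iff _ _).mp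
      ((isOfFinOrder_of_finite g).mem_powers_iff_mem_zpowers.mpr hy)
    have hpk : p ∣ k := by
      by_contra hpk
      have hcop : (orderOf g).Coprime k := by
        rw [he]
        exact Nat.Coprime.pow_left e ((Nat.Prime.coprime_iff_not_dvd hpp).mpr hpk)
      have ho : orderOf (y ^ p) = orderOf g := by rw [← hk]; exact hcop.orderOf_pow
      have hzy : z ∈ Subgroup.zpowers y := by
        have h1 : Subgroup.zpowers (g ^ k) = Subgroup.zpowers g :=
          Subgroup.eq_of_le_of_card_ge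
            (Subgroup.zpowers_le.mpr (Subgroup.pow_mem _ (Subgroup.mem_zpowers g) k))
            (by rw [Nat.card_zpowers, Nat.card_zpowers, hcop.orderOf_pow])
        have h2 : z ∈ Subgroup.zpowers (y ^ p) := by rw [← hk, h1]; exact hg
        exact (Subgroup.zpowers_le.mpr (Subgroup.pow_mem _ (Subgroup.mem_zpowers y) p)) h2
      have h3 := hmax' y hzy
      obtain ⟨j, hj⟩ := (IsPGroup.iff_orderOf.mp hR) y
      rw [hj, he] at h3
      have hje : j ≤ e := (Nat.pow_le_pow_iff_right hpp.one_lt).mp h3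
      obtain ⟨e', rfl⟩ := Nat.exists_eq_succ_of_ne_zero he0
      have h4 : (y ^ p) ^ (p ^ e') = 1 := by
        rw [← pow_mul, ← pow_succ']
        have h5 : orderOf y ∣ p ^ (e' + 1) := by rw [hj]; exact pow_dvd_pow p hje
        exact orderOf_dvd_iff_pow_eq_one.mp h5
      have h6 := orderOf_dvd_of_pow_eq_one h4
      rw [ho, he] at h6
      have h7 := (Nat.pow_dvd_pow_iff_le_right hpp.one_lt).mp h6
      omega
    obtain ⟨k', rfl⟩ := hpk
    have hy' : y ^ p = (g ^ k') ^ p := by rw [← hk, ← pow_mul, mul_comm]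
    refine ⟨y * (g ^ k')⁻¹, (hE _).mpr ?_, ?_⟩
    · rw [hpow, inv_pow, hy', mul_inv_cancel]
    · rw [QuotientGroup.eq]
      have h1 : y⁻¹ * (y * (g ^ k')⁻¹) = (g ^ k')⁻¹ := by group
      rw [h1]
      exact Subgroup.inv_mem _ (Subgroup.pow_mem _ (Subgroup.mem_zpowers g) k')
  -- the image of `E` has order at most `p`
  have hEbar : Nat.card (E.map (QuotientGroup.mk' (Subgroup.zpowers g))) ≤ p := by
    have h1 := metacyc_card_map_mul (Subgroup.zpowers g) E
    have h2 : p ≤ Nat.card (Subgroup.zpowers g ⊓ E : Subgroup R) := by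
      have hlt : (⊥ : Subgroup R) < Subgroup.zpowers g ⊓ E := by
        rw [bot_lt_iff_ne_bot]
        intro h
        apply hz1
        have h4 : z ∈ (Subgroup.zpowers g ⊓ E : Subgroup R) :=
          Subgroup.mem_inf.mpr ⟨hg, (hE z).mpr hzp⟩
        rw [h] at h4
        simpa using h4
      have h5 := smallrank_card_mul_le_of_lt hR hlt
      rwa [Subgroup.card_bot, one_mul] at h5
    have h3 : Nat.card (E.map (QuotientGroup.mk' (Subgroup.zpowers g))) * p ≤ p * p := by
      calc Nat.card (E.map (QuotientGroup.mk' (Subgroup.zpowers g))) * p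
          ≤ Nat.card (E.map (QuotientGroup.mk' (Subgroup.zpowers g))) *
            Nat.card (Subgroup.zpowers g ⊓ E : Subgroup R) := Nat.mul_le_mul_left _ h2
        _ = Nat.card E := h1
        _ ≤ p ^ 2 := hEcard
        _ = p * p := by ring
    exact Nat.le_of_mul_le_mul_right h3 hpp.pos
  have hQcomm : ∀ a b : R ⧸ Subgroup.zpowers g, a * b = b * a := by
    intro a b
    obtain ⟨a, rfl⟩ := QuotientGroup.mk_surjective a
    obtain ⟨b, rfl⟩ := QuotientGroup.mk_surjective b
    rw [← QuotientGroup.mk_mul, ← QuotientGroup.mk_mul, QuotientGroup.eq]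
    have h1 : (a * b)⁻¹ * (b * a) = ⁅b⁻¹, a⁻¹⁆ := by rw [commutatorElement_def]; group
    rw [h1]
    exact hZN (hcm _ _)
  have hQcyc : IsCyclic (R ⧸ Subgroup.zpowers g) := by
    by_cases hex : ∃ e₀ ∈ E, (QuotientGroup.mk e₀ : R ⧸ Subgroup.zpowers g) ≠ 1
    · obtain ⟨e₀, he₀, hne⟩ := hex
      have hwp : (QuotientGroup.mk e₀ : R ⧸ Subgroup.zpowers g) ^ p = 1 := by
        rw [← QuotientGroup.mk_pow, (hE e₀).mp he₀]; rfl
      have hle : Subgroup.zpowers (QuotientGroup.mk e₀ : R ⧸ Subgroup.zpowers g) ≤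
          E.map (QuotientGroup.mk' (Subgroup.zpowers g)) :=
        Subgroup.zpowers_le.mpr ⟨e₀, he₀, rfl⟩
      have heq : Subgroup.zpowers (QuotientGroup.mk e₀ : R ⧸ Subgroup.zpowers g) =
          E.map (QuotientGroup.mk' (Subgroup.zpowers g)) :=
        Subgroup.eq_of_le_of_card_ge hle
          (by rw [Nat.card_zpowers, orderOf_eq_prime hwp hne]; exact hEbar)
      apply isCyclic_of_omega_le (hR.to_quotient _) hQcomm (QuotientGroup.mk e₀) hwp
      intro a ha
      obtain ⟨y, rfl⟩ := QuotientGroup.mk_surjective a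
      rw [← QuotientGroup.mk_pow, QuotientGroup.eq_one_iff] at ha
      obtain ⟨e₁, he₁, h1⟩ := hlift y ha
      rw [heq, h1]
      exact ⟨e₁, he₁, rfl⟩
    · push Not at hex
      apply isCyclic_of_omega_le (hR.to_quotient _) hQcomm 1 (one_pow p)
      intro a ha
      obtain ⟨y, rfl⟩ := QuotientGroup.mk_surjective a
      rw [← QuotientGroup.mk_pow, QuotientGroup.eq_one_iff] at ha
      obtain ⟨e₁, he₁, h1⟩ := hlift y ha
      rw [h1, hex e₁ he₁]
      exact Subgroup.one_mem _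
  exact ⟨Subgroup.zpowers g, hNn, inferInstance, hQcyc⟩

/-- Lemma D: if `S` is an abelian normal subgroup generated by `a` modulo a central subgroup `Z`
and `R = ⟨b⟩ S`, then the derived subgroup of `R` lies in the cyclic group generated by
`a * b * a⁻¹ * b⁻¹`. -/
theorem metacyc_commutator_le (S : Subgroup R) [hSn : S.Normal]
    (hSc : ∀ s ∈ S, ∀ t ∈ S, s * t = t * s) (a b : R) (haS : a ∈ S)
    (Z : Subgroup R) (hZ : Z ≤ Subgroup.center R)
    (hS : ∀ s ∈ S, ∃ k : ℤ, ∃ w ∈ Z, s = a ^ k * w)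
    (hb : ∀ r : R, ∃ j : ℤ, ∃ s ∈ S, r = b ^ j * s) :
    commutator R ≤ Subgroup.zpowers (a * b * a⁻¹ * b⁻¹) := by
  have hψmem : ∀ s ∈ S, s * b * s⁻¹ * b⁻¹ ∈ S := by
    intro s hs
    have h1 : s * b * s⁻¹ * b⁻¹ = s * (b * s⁻¹ * b⁻¹) := by group
    rw [h1]
    exact S.mul_mem hs (hSn.conj_mem _ (S.inv_mem hs) b)
  let ψ : S →* R := MonoidHom.mk' (fun s => (s : R) * b * (s : R)⁻¹ * b⁻¹) (by
    intro s t
    have hu : (t : R) * b * (t : R)⁻¹ * b⁻¹ ∈ S := hψmem _ t.2
    have hv : b * (s : R)⁻¹ * b⁻¹ ∈ S := hSn.conj_mem _ (S.inv_mem s.2) b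
    have huv := hSc _ hu _ hv
    show ((s * t : S) : R) * b * ((s * t : S) : R)⁻¹ * b⁻¹ =
      ((s : R) * b * (s : R)⁻¹ * b⁻¹) * ((t : R) * b * (t : R)⁻¹ * b⁻¹)
    rw [Subgroup.coe_mul]
    calc (s : R) * t * b * ((s : R) * t)⁻¹ * b⁻¹
        = s * (((t : R) * b * (t : R)⁻¹ * b⁻¹) * (b * (s : R)⁻¹ * b⁻¹)) := by group
      _ = s * ((b * (s : R)⁻¹ * b⁻¹) * ((t : R) * b * (t : R)⁻¹ * b⁻¹)) := by rw [huv]
      _ = _ := by group)
  have hψ : ∀ s : S, ψ s = (s : R) * b * (s : R)⁻¹ * b⁻¹ := fun s => rfl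
  have hψI : ∀ s : S, ψ s ∈ Subgroup.zpowers (a * b * a⁻¹ * b⁻¹) := by
    intro s
    obtain ⟨k, w, hw, hsw⟩ := hS s s.2
    have hwS : w ∈ S := by
      have h1 : w = (a ^ k)⁻¹ * s := by rw [hsw]; group
      rw [h1]
      exact S.mul_mem (S.inv_mem (S.zpow_mem haS k)) s.2
    have h2 : s = (⟨a, haS⟩ : S) ^ k * ⟨w, hwS⟩ := Subtype.ext (by
      rw [Subgroup.coe_mul, Subgroup.coe_zpow]; exact hsw)
    have h3 : ψ ⟨w, hwS⟩ = 1 := by
      rw [hψ]
      have hc := Subgroup.mem_center_iff.mp (hZ hw) b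
      show w * b * w⁻¹ * b⁻¹ = 1
      rw [← hc]; group
    rw [h2, map_mul, map_zpow, h3, mul_one]
    exact Subgroup.zpow_mem _ (Subgroup.mem_zpowers _) k
  have hIS : Subgroup.zpowers (a * b * a⁻¹ * b⁻¹) ≤ S :=
    Subgroup.zpowers_le.mpr (hψmem a haS)
  -- `b` normalizes `I`
  have hbn : b ∈ Subgroup.normalizer (Subgroup.zpowers (a * b * a⁻¹ * b⁻¹) : Set R) := by
    rw [Subgroup.mem_normalizer_iff]
    have h1 : b * (a * b * a⁻¹ * b⁻¹) * b⁻¹ ∈ Subgroup.zpowers (a * b * a⁻¹ * b⁻¹) := by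
      have h2 := hψI ⟨b * a * b⁻¹, hSn.conj_mem a haS b⟩
      rw [hψ] at h2
      have h3 : ((⟨b * a * b⁻¹, hSn.conj_mem a haS b⟩ : S) : R) * b *
          ((⟨b * a * b⁻¹, hSn.conj_mem a haS b⟩ : S) : R)⁻¹ * b⁻¹ =
          b * (a * b * a⁻¹ * b⁻¹) * b⁻¹ := by
        show b * a * b⁻¹ * b * (b * a * b⁻¹)⁻¹ * b⁻¹ = b * (a * b * a⁻¹ * b⁻¹) * b⁻¹
        group
      rwa [h3] at h2
    have h1' : b⁻¹ * (a * b * a⁻¹ * b⁻¹) * b ∈ Subgroup.zpowers (a * b * a⁻¹ * b⁻¹) := by
      have hm : b⁻¹ * a * b ∈ S := by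
        have := hSn.conj_mem a haS b⁻¹
        rwa [inv_inv] at this
      have h2 := hψI ⟨b⁻¹ * a * b, hm⟩
      rw [hψ] at h2
      have h3 : ((⟨b⁻¹ * a * b, hm⟩ : S) : R) * b * ((⟨b⁻¹ * a * b, hm⟩ : S) : R)⁻¹ * b⁻¹ =
          b⁻¹ * (a * b * a⁻¹ * b⁻¹) * b := by
        show b⁻¹ * a * b * b * (b⁻¹ * a * b)⁻¹ * b⁻¹ = b⁻¹ * (a * b * a⁻¹ * b⁻¹) * b
        group
      rwa [h3] at h2
    intro h
    constructor
    · intro hh
      obtain ⟨m, rfl⟩ := Subgroup.mem_zpowers_iff.mp hh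
      rw [← conj_zpow]
      exact Subgroup.zpow_mem _ h1 m
    · intro hh
      obtain ⟨m, hm⟩ := Subgroup.mem_zpowers_iff.mp hh
      have h4 : h = (b⁻¹ * (a * b * a⁻¹ * b⁻¹) * b) ^ m := by
        have h5 : (b⁻¹ * (a * b * a⁻¹ * b⁻¹) * b) ^ m = b⁻¹ * (a * b * a⁻¹ * b⁻¹) ^ m * b := by
          have := conj_zpow (a := b⁻¹) (b := a * b * a⁻¹ * b⁻¹) (i := m)
          rw [inv_inv] at this
          exact this
        rw [h5, hm]; group
      rw [h4]
      exact Subgroup.zpow_mem _ h1' m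
  haveI hIn : (Subgroup.zpowers (a * b * a⁻¹ * b⁻¹)).Normal := by
    constructor
    intro n hn r
    obtain ⟨j, s, hs, rfl⟩ := hb r
    have h1 : s * n * s⁻¹ = n := by
      rw [hSc s hs n (hIS hn)]; group
    have h2 : b ^ j * s * n * (b ^ j * s)⁻¹ = b ^ j * (s * n * s⁻¹) * (b ^ j)⁻¹ := by group
    rw [h2, h1]
    have h3 : b ^ j ∈ Subgroup.normalizer (Subgroup.zpowers (a * b * a⁻¹ * b⁻¹) : Set R) :=
      Subgroup.zpow_mem _ hbn j
    exact (Subgroup.mem_normalizer_iff.mp h3 n).mp hn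
  rw [commutator_def, Subgroup.commutator_le]
  intro g₁ _ g₂ _
  rw [← QuotientGroup.eq_one_iff, ← QuotientGroup.mk'_apply, map_commutatorElement,
    commutatorElement_eq_one_iff_commute]
  have hbs : ∀ s ∈ S, Commute (QuotientGroup.mk' (Subgroup.zpowers (a * b * a⁻¹ * b⁻¹)) b)
      (QuotientGroup.mk' (Subgroup.zpowers (a * b * a⁻¹ * b⁻¹)) s) := by
    intro s hs
    apply Commute.symm
    rw [← commutatorElement_eq_one_iff_commute, ← map_commutatorElement,
      QuotientGroup.mk'_apply, QuotientGroup.eq_one_iff]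
    have := hψI ⟨s, hs⟩
    rw [hψ] at this
    rw [commutatorElement_def]
    exact this
  have hst : ∀ s ∈ S, ∀ t ∈ S,
      Commute (QuotientGroup.mk' (Subgroup.zpowers (a * b * a⁻¹ * b⁻¹)) s)
        (QuotientGroup.mk' (Subgroup.zpowers (a * b * a⁻¹ * b⁻¹)) t) := by
    intro s hs t ht
    show _ * _ = _ * _
    rw [← map_mul, ← map_mul, hSc s hs t ht]
  obtain ⟨i, s, hs, rfl⟩ := hb g₁
  obtain ⟨j, t, ht, rfl⟩ := hb g₂
  rw [map_mul, map_mul, map_zpow, map_zpow]
  exact (((Commute.refl _).zpow_zpow i j).mul_right ((hbs t ht).zpow_left i)).mul_left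
    (((hbs s hs).symm.zpow_right j).mul_right (hst s hs t ht))

/-- For `p > 3`, a finite `p`-group in which every subgroup of exponent `p` has order at most
`p ^ 2` is metacyclic. -/
theorem metacyc_main.{u} {p : ℕ} [Fact p.Prime] (hp : 3 < p) :
    ∀ (n : ℕ) (R : Type u) [Group R] [Finite R], Nat.card R = n → IsPGroup p R →
      (∀ S : Subgroup R, (∀ s ∈ S, s ^ p = 1) → Nat.card S ≤ p ^ 2) → Cfsg.IsMetacyclic R := by
  intro n
  induction n using Nat.strong_induction_on with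
  | _ n ih =>
    intro R _ _ hn hR hS
    have hpp := (Fact.out : p.Prime)
    have hp2 : p ≠ 2 := by omega
    obtain ⟨E, hEn, hE, hEcard⟩ := omegaquot_exists_E hp hR hS
    by_cases hcomm : commutator R = ⊥
    · by_cases htriv : (⊤ : Subgroup R) = ⊥
      · haveI : Subsingleton R := by
          constructor
          intro x y
          have hx : x ∈ (⊥ : Subgroup R) := htriv ▸ Subgroup.mem_top x
          have hy : y ∈ (⊥ : Subgroup R) := htriv ▸ Subgroup.mem_top y
          rw [Subgroup.mem_bot] at hx hy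
          rw [hx, hy]
        exact ⟨⊥, inferInstance, inferInstance, inferInstance⟩
      · obtain ⟨z, _, hzc, hzp, hz1⟩ := omegaquot_exists_central hR (⊤ : Subgroup R) htriv
        exact metacyc_of_comm_le hp2 hR E hE hEcard z hzc hzp hz1 (by rw [hcomm]; exact bot_le)
    · haveI : (commutator R).Normal := inferInstance
      obtain ⟨z, hzcomm, hzc, hzp, hz1⟩ := omegaquot_exists_central hR (commutator R) hcomm
      haveI hZn : (Subgroup.zpowers z).Normal := omegaquot_zpowers_normal hzc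
      have hZcard : Nat.card (Subgroup.zpowers z) = p := by
        rw [Nat.card_zpowers]; exact orderOf_eq_prime hzp hz1
      have hZcen : Subgroup.zpowers z ≤ Subgroup.center R := Subgroup.zpowers_le.mpr hzc
      have hZp : ∀ w ∈ Subgroup.zpowers z, w ^ p = 1 := by
        intro w hw
        obtain ⟨m, rfl⟩ := Subgroup.mem_zpowers_iff.mp hw
        rw [← zpow_natCast, ← zpow_mul, mul_comm, zpow_mul, zpow_natCast, hzp, one_zpow]
      have hcardQ : Nat.card (R ⧸ Subgroup.zpowers z) < n := by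
        have h1 := (Subgroup.zpowers z).card_mul_index
        rw [hZcard, hn] at h1
        have h2 : Nat.card (R ⧸ Subgroup.zpowers z) = (Subgroup.zpowers z).index := rfl
        have hpos : 0 < (Subgroup.zpowers z).index :=
          Nat.pos_of_ne_zero Subgroup.index_ne_zero_of_finite
        have h3 := hpp.one_lt
        rw [h2]; nlinarith
      have hS' := omegaquot_central_step hp hR hS z hzc hzp hz1
      obtain ⟨Nb, hNbn, hcyc1, hcyc2⟩ :=
        ih _ hcardQ (R ⧸ Subgroup.zpowers z) rfl (hR.to_quotient _) hS'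
      haveI := hNbn
      obtain ⟨⟨abar, habar⟩, hgen⟩ := hcyc1.exists_generator
      obtain ⟨a, rfl⟩ := QuotientGroup.mk_surjective abar
      obtain ⟨bq, hbq⟩ := hcyc2.exists_generator
      obtain ⟨bz, rfl⟩ := QuotientGroup.mk_surjective bq
      obtain ⟨b, rfl⟩ := QuotientGroup.mk_surjective bz
      obtain ⟨S, hSdef⟩ : ∃ S : Subgroup R, S = Nb.comap (QuotientGroup.mk' (Subgroup.zpowers z)) :=
        ⟨_, rfl⟩
      haveI hSn : S.Normal := by rw [hSdef]; infer_instance
      have hSmem : ∀ s : R, s ∈ S ↔ (QuotientGroup.mk s : R ⧸ Subgroup.zpowers z) ∈ Nb := by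
        intro s; rw [hSdef]; rfl
      have haS : a ∈ S := (hSmem a).mpr habar
      have hSrep : ∀ s ∈ S, ∃ k : ℤ, ∃ w ∈ Subgroup.zpowers z, s = a ^ k * w := by
        intro s hs
        obtain ⟨k, hk⟩ := Subgroup.mem_zpowers_iff.mp (hgen ⟨QuotientGroup.mk s, (hSmem s).mp hs⟩)
        have hk' := congrArg Subtype.val hk
        rw [Subgroup.coe_zpow] at hk'
        have hk2 : (QuotientGroup.mk (a ^ k) : R ⧸ Subgroup.zpowers z) = QuotientGroup.mk s := by
          rw [QuotientGroup.mk_zpow]; exact hk'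
        rw [QuotientGroup.eq] at hk2
        exact ⟨k, (a ^ k)⁻¹ * s, hk2, by group⟩
      have hbrep : ∀ r : R, ∃ j : ℤ, ∃ s ∈ S, r = b ^ j * s := by
        intro r
        obtain ⟨j, hj⟩ := Subgroup.mem_zpowers_iff.mp
          (hbq (QuotientGroup.mk (QuotientGroup.mk r : R ⧸ Subgroup.zpowers z)))
        rw [← QuotientGroup.mk_zpow, ← QuotientGroup.mk_zpow, QuotientGroup.eq,
          ← QuotientGroup.mk_inv, ← QuotientGroup.mk_mul] at hj
        exact ⟨j, (b ^ j)⁻¹ * r, (hSmem _).mpr hj, by group⟩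
      have hSc : ∀ s ∈ S, ∀ t ∈ S, s * t = t * s := by
        intro s hs t ht
        obtain ⟨k, w, hw, rfl⟩ := hSrep s hs
        obtain ⟨l, w', hw', rfl⟩ := hSrep t ht
        have hwc : ∀ g : R, Commute g w := fun g => Subgroup.mem_center_iff.mp (hZcen hw) g
        have hwc' : ∀ g : R, Commute g w' := fun g => Subgroup.mem_center_iff.mp (hZcen hw') g
        exact ((((Commute.refl a).zpow_zpow k l).mul_right (hwc' _)).mul_left
          (((hwc _).symm).mul_right (hwc' _))).eq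
      by_cases hza : z ∈ Subgroup.zpowers a
      · have hSle : S ≤ Subgroup.zpowers a := by
          intro s hs
          obtain ⟨k, w, hw, rfl⟩ := hSrep s hs
          exact Subgroup.mul_mem _ (Subgroup.zpow_mem_zpowers a k)
            (Subgroup.zpowers_le.mpr hza hw)
        have haSle : Subgroup.zpowers a ≤ S := Subgroup.zpowers_le.mpr haS
        haveI hNn : (Subgroup.zpowers a).Normal := by
          constructor
          intro m hm r
          exact hSle (hSn.conj_mem m (haSle hm) r)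
        refine ⟨Subgroup.zpowers a, hNn, inferInstance, ⟨⟨QuotientGroup.mk b, fun q => ?_⟩⟩⟩
        obtain ⟨r, rfl⟩ := QuotientGroup.mk_surjective q
        obtain ⟨j, s, hs, rfl⟩ := hbrep r
        refine ⟨j, ?_⟩
        show (QuotientGroup.mk b : R ⧸ Subgroup.zpowers a) ^ j = QuotientGroup.mk (b ^ j * s)
        rw [← QuotientGroup.mk_zpow, QuotientGroup.eq]
        have h1 : (b ^ j)⁻¹ * (b ^ j * s) = s := by group
        rw [h1]
        exact hSle hs
      · have hD := metacyc_commutator_le S hSc a b haS (Subgroup.zpowers z) hZcen hSrep hbrep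
        have hcS : a * b * a⁻¹ * b⁻¹ ∈ S := by
          have h1 : a * b * a⁻¹ * b⁻¹ = a * (b * a⁻¹ * b⁻¹) := by group
          rw [h1]
          exact S.mul_mem haS (hSn.conj_mem _ (S.inv_mem haS) b)
        obtain ⟨i, w, hw, hcw⟩ := hSrep _ hcS
        obtain ⟨k, hk⟩ := (Submonoid.mem_powers_iff _ _).mp
          ((isOfFinOrder_of_finite (a * b * a⁻¹ * b⁻¹)).mem_powers_iff_mem_zpowers.mpr
            (hD hzcomm))
        have hpk : ¬ p ∣ k := by
          rintro ⟨k', rfl⟩
          apply hza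
          have hwc : Commute (a ^ i) w := Subgroup.mem_center_iff.mp (hZcen hw) _
          have h1 : (a * b * a⁻¹ * b⁻¹) ^ p = (a ^ i) ^ p := by
            rw [hcw, hwc.mul_pow, hZp w hw, mul_one]
          rw [pow_mul, h1] at hk
          rw [← hk]
          exact Subgroup.pow_mem _ (Subgroup.pow_mem _ (Subgroup.zpow_mem_zpowers a i) p) k'
        obtain ⟨e, he⟩ := (IsPGroup.iff_orderOf.mp hR) (a * b * a⁻¹ * b⁻¹)
        have hcop : (orderOf (a * b * a⁻¹ * b⁻¹)).Coprime k := by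
          rw [he]
          exact Nat.Coprime.pow_left e ((Nat.Prime.coprime_iff_not_dvd hpp).mpr hpk)
        have h1 : Subgroup.zpowers ((a * b * a⁻¹ * b⁻¹) ^ k) =
            Subgroup.zpowers (a * b * a⁻¹ * b⁻¹) :=
          Subgroup.eq_of_le_of_card_ge
            (Subgroup.zpowers_le.mpr (Subgroup.pow_mem _ (Subgroup.mem_zpowers _) k))
            (by rw [Nat.card_zpowers, Nat.card_zpowers, hcop.orderOf_pow])
        rw [hk] at h1
        rw [← h1] at hD
        exact metacyc_of_comm_le hp2 hR E hE hEcard z hzc hzp hz1 hD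

/-- For `p > 3`: if `|Ω₁(R)| ≤ p ^ 2` then `R` is metacyclic. -/
theorem metacyc_of_card_omega [Finite R] {p : ℕ} [Fact p.Prime] (hp : 3 < p) (hR : IsPGroup p R)
    (hO : Nat.card ↥(Cfsg.omegaOne p (⊤ : Subgroup R)) ≤ p ^ 2) : Cfsg.IsMetacyclic R :=
  metacyc_main hp (Nat.card R) R rfl hR (omegaquot_of_card_omega hO)

end MetaCyc

end Cfsg.Agent.Helper64
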