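import Mathlib
import Cfsg.Prelude.Def_CaseTheorems
import Cfsg.Prelude.Def_OddOrderLocal
import Cfsg.Agent.Helper64.MetaCyc
import Cfsg.Agent.Helper64.MaxClass

set_option autoImplicit false

namespace Cfsg.Agent.Helper64

section SecRank

open scoped commutatorElement

/-- Sectional rank: every homomorphic image of a subgroup has bounded rank. -/
theorem secrank_of_surj {G Q : Type*} [Group G] [Group Q] {p k : ℕ}
    (h : Cfsg.SectionalPRankLE p k G) (H : Subgroup G) (f : H →* Q)
    (hf : Function.Surjective f) : Cfsg.PRankLE p k Q := by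
  intro A hA hexp
  let e : H ⧸ f.ker ≃* Q := QuotientGroup.quotientKerEquivOfSurjective f hf
  let A' : Subgroup (H ⧸ f.ker) := A.map e.symm.toMonoidHom
  have hcard : Nat.card A' = Nat.card A :=
    (Nat.card_congr (e.symm.subgroupMap A).toEquiv).symm
  have hmem : ∀ x : H ⧸ f.ker, x ∈ A' → e x ∈ A := by
    intro x hx
    obtain ⟨a, ha, rfl⟩ := Subgroup.mem_map.mp hx
    simpa using ha
  haveI : IsMulCommutative A' := by
    refine ⟨⟨fun a b => ?_⟩⟩
    apply Subtype.ext
    apply e.injective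
    have h1 := hA.1.1 ⟨e a.1, hmem _ a.2⟩ ⟨e b.1, hmem _ b.2⟩
    have h2 := congrArg Subtype.val h1
    simpa using h2
  have hexp' : ∀ a ∈ A', a ^ p = 1 := by
    intro a ha
    apply e.injective
    rw [map_pow, map_one]
    exact hexp _ (hmem a ha)
  have := h H f.ker A' inferInstance hexp'
  rw [hcard] at this
  exact this

/-- Sectional rank passes to quotients. -/
theorem secrank_quotient {G : Type*} [Group G] {p k : ℕ}
    (h : Cfsg.SectionalPRankLE p k G) (N : Subgroup G) [N.Normal] :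
    Cfsg.SectionalPRankLE p k (G ⧸ N) := by
  intro H M hM
  let f1 : H.comap (QuotientGroup.mk' N) →* H := (QuotientGroup.mk' N).subgroupComap H
  have hf1 : Function.Surjective f1 :=
    MonoidHom.subgroupComap_surjective_of_surjective _ H (QuotientGroup.mk'_surjective N)
  exact secrank_of_surj h (H.comap (QuotientGroup.mk' N)) ((QuotientGroup.mk' M).comp f1)
    ((QuotientGroup.mk'_surjective M).comp hf1)

/-- Rank of the whole quotient. -/
theorem secrank_prank_quotient {G : Type*} [Group G] {p k : ℕ}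
    (h : Cfsg.SectionalPRankLE p k G) (N : Subgroup G) [N.Normal] :
    Cfsg.PRankLE p k (G ⧸ N) := by
  refine secrank_of_surj h ⊤ ((QuotientGroup.mk' N).comp (⊤ : Subgroup G).subtype) ?_
  intro q
  obtain ⟨g, rfl⟩ := QuotientGroup.mk_surjective q
  exact ⟨⟨g, Subgroup.mem_top g⟩, rfl⟩

/-- Five distinct elements in a subgroup. -/
theorem secrank_five_le {Q : Type*} [Group Q] [Finite Q] (A : Subgroup Q) (a b c d e : Q)
    (ha : a ∈ A) (hb : b ∈ A) (hc : c ∈ A) (hd : d ∈ A) (he : e ∈ A)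
    (hab : a ≠ b) (hac : a ≠ c) (had : a ≠ d) (hae : a ≠ e) (hbc : b ≠ c) (hbd : b ≠ d)
    (hbe : b ≠ e) (hcd : c ≠ d) (hce : c ≠ e) (hde : d ≠ e) : 5 ≤ Nat.card A := by
  classical
  have h5 : ({a, b, c, d, e} : Finset Q).card = 5 := by
    rw [Finset.card_insert_of_notMem, Finset.card_insert_of_notMem,
      Finset.card_insert_of_notMem, Finset.card_insert_of_notMem, Finset.card_singleton]
    all_goals simp [*]
  have hsub : ((({a, b, c, d, e} : Finset Q)) : Set Q) ⊆ (A : Set Q) := by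
    intro x hx
    simp only [Finset.coe_insert, Finset.coe_singleton, Set.mem_insert_iff,
      Set.mem_singleton_iff] at hx
    rcases hx with rfl | rfl | rfl | rfl | rfl <;> assumption
  have h1 := Set.ncard_le_ncard hsub (Set.toFinite _)
  rw [Set.ncard_coe_finset, h5] at h1
  have h2 : (A : Set Q).ncard = Nat.card A := (Nat.card_coe_set_eq _).symm
  rw [h2] at h1
  exact h1

/-- Lemma B': a `2`-group of sectional rank at most `2` with cyclic derived subgroup is
metacyclic. -/
theorem secrank_of_cyclic_comm {G : Type*} [Group G] [Finite G] (hG : IsPGroup 2 G)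
    (hr : Cfsg.SectionalPRankLE 2 2 G) (hc : ∃ c : G, commutator G ≤ Subgroup.zpowers c) :
    Cfsg.IsMetacyclic G := by
  classical
  haveI : Fact (Nat.Prime 2) := ⟨Nat.prime_two⟩
  obtain ⟨g, hg, hgmax⟩ := Set.exists_max_image {c : G | commutator G ≤ Subgroup.zpowers c}
    (fun c => orderOf c) (Set.toFinite _) hc
  simp only [Set.mem_setOf_eq] at hg hgmax
  set N := Subgroup.zpowers g with hNdef
  haveI hNn : N.Normal := maxclass_normal_of_commutator_le hg
  have hcomm : ∀ a b : G ⧸ N, a * b = b * a := by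
    intro a b
    obtain ⟨a, rfl⟩ := QuotientGroup.mk_surjective a
    obtain ⟨b, rfl⟩ := QuotientGroup.mk_surjective b
    rw [← QuotientGroup.mk_mul, ← QuotientGroup.mk_mul, QuotientGroup.eq]
    apply hg
    have h1 : (a * b)⁻¹ * (b * a) = ⁅b⁻¹, a⁻¹⁆ := by rw [commutatorElement_def]; group
    rw [h1]
    exact Subgroup.commutator_mem_commutator (Subgroup.mem_top _) (Subgroup.mem_top _)
  refine ⟨N, hNn, inferInstance, ?_⟩
  by_contra hnc
  -- two independent involutions of the quotient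
  obtain ⟨x', hx2, hx1⟩ : ∃ x : G ⧸ N, x ^ 2 = 1 ∧ x ≠ 1 := by
    by_contra hno
    push_neg at hno
    apply hnc
    refine isCyclic_of_omega_le (hG.to_quotient N) hcomm 1 (one_pow 2) ?_
    intro a ha
    rw [hno a ha]
    exact Subgroup.one_mem _
  obtain ⟨y', hy2, hy1⟩ : ∃ y : G ⧸ N, y ^ 2 = 1 ∧ y ∉ Subgroup.zpowers x' := by
    by_contra hno
    push_neg at hno
    exact hnc (isCyclic_of_omega_le (hG.to_quotient N) hcomm x' hx2 hno)
  obtain ⟨x, rfl⟩ := QuotientGroup.mk_surjective x'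
  obtain ⟨y, rfl⟩ := QuotientGroup.mk_surjective y'
  have hxN : x ∉ N := fun h => hx1 ((QuotientGroup.eq_one_iff x).mpr h)
  have hyN : y ∉ N := fun h => hy1 (by
    rw [(QuotientGroup.eq_one_iff y).mpr h]; exact Subgroup.one_mem _)
  have hxyN : x⁻¹ * y ∉ N := fun h => hy1 (by
    rw [← QuotientGroup.eq.mpr h]; exact Subgroup.mem_zpowers _)
  have hx2N : x ^ 2 ∈ N := by
    rw [← QuotientGroup.eq_one_iff, QuotientGroup.mk_pow]; exact hx2
  have hy2N : y ^ 2 ∈ N := by
    rw [← QuotientGroup.eq_one_iff, QuotientGroup.mk_pow]; exact hy2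
  have hgN : g ∈ N := Subgroup.mem_zpowers g
  -- the case g = 1
  by_cases hg1 : g = 1
  · have hN : N = ⊥ := by rw [hNdef, hg1, Subgroup.zpowers_one_eq_bot]
    have h1 := hgmax x (by rw [hN] at hg; exact hg.trans bot_le)
    rw [hg1, orderOf_one] at h1
    have hxo : 0 < orderOf x := orderOf_pos x
    have : orderOf x = 1 := by omega
    rw [orderOf_eq_one_iff] at this
    exact hxN (this ▸ Subgroup.one_mem _)
  -- g has even order
  obtain ⟨k, hk⟩ := (IsPGroup.iff_orderOf.mp hG) g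
  have hk0 : k ≠ 0 := by
    rintro rfl
    rw [pow_zero, orderOf_eq_one_iff] at hk
    exact hg1 hk
  have h2dvd : 2 ∣ orderOf g := by rw [hk]; exact dvd_pow_self 2 hk0
  -- key claim
  have hkey : ∃ m : G, m ^ 2 ∈ N ∧ m ^ 2 ∉ Subgroup.zpowers (g ^ 2) := by
    by_contra hno
    push_neg at hno
    set N₂ := Subgroup.zpowers (g ^ 2) with hN2def
    have hN2N : N₂ ≤ N := by
      rw [hN2def, Subgroup.zpowers_le]; exact Subgroup.pow_mem _ hgN 2
    haveI hN2n : N₂.Normal := by
      constructor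
      intro n hn a
      obtain ⟨i, rfl⟩ := Subgroup.mem_zpowers_iff.mp hn
      have h1 : a * g * a⁻¹ ∈ N := hNn.conj_mem g hgN a
      obtain ⟨j, hj⟩ := Subgroup.mem_zpowers_iff.mp h1
      have h2 : a * (g ^ 2) ^ i * a⁻¹ = ((g ^ 2) ^ j) ^ i := by
        have h3 : a * (g ^ 2) ^ i * a⁻¹ = ((a * g * a⁻¹) ^ 2) ^ i := by
          rw [conj_pow, conj_zpow]
        rw [h3, ← hj]
        congr 1
        rw [← zpow_natCast, ← zpow_natCast, ← zpow_mul, ← zpow_mul, mul_comm]
      rw [h2]
      exact Subgroup.zpow_mem _ (Subgroup.zpow_mem _ (Subgroup.mem_zpowers _) j) i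
    have hgN2 : g ∉ N₂ := by
      intro h
      have h1 : Subgroup.zpowers g ≤ N₂ := Subgroup.zpowers_le.mpr h
      have h2 := Subgroup.card_le_of_le h1
      rw [hN2def, Nat.card_zpowers, Nat.card_zpowers,
        orderOf_pow_of_dvd (by norm_num) h2dvd] at h2
      have h3 : 0 < orderOf g := orderOf_pos g
      obtain ⟨t, ht⟩ := h2dvd
      rw [ht] at h2 h3
      rw [Nat.mul_div_cancel_left t (by norm_num)] at h2
      omega
    -- the subgroup of elements with square in N
    let Ω : Subgroup (G ⧸ N) :=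
      { carrier := {a | a ^ 2 = 1}
        mul_mem' := by
          intro a b ha hb
          simp only [Set.mem_setOf_eq] at ha hb ⊢
          rw [(show Commute a b from hcomm a b).mul_pow, ha, hb, one_mul]
        one_mem' := by simp
        inv_mem' := by
          intro a ha
          simp only [Set.mem_setOf_eq] at ha ⊢
          rw [inv_pow, ha, inv_one] }
    let M : Subgroup G := Ω.comap (QuotientGroup.mk' N)
    have hMmem : ∀ m : G, m ∈ M ↔ m ^ 2 ∈ N := by
      intro m
      show ((m : G ⧸ N)) ^ 2 = 1 ↔ _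
      rw [← QuotientGroup.mk_pow, QuotientGroup.eq_one_iff]
    let A : Subgroup (G ⧸ N₂) := M.map (QuotientGroup.mk' N₂)
    have hAexp : ∀ a ∈ A, a ^ 2 = 1 := by
      intro a ha
      obtain ⟨m, hm, rfl⟩ := Subgroup.mem_map.mp ha
      show ((m : G ⧸ N₂)) ^ 2 = 1
      rw [← QuotientGroup.mk_pow, QuotientGroup.eq_one_iff]
      exact hno m ((hMmem m).mp hm)
    haveI : IsMulCommutative A := by
      refine ⟨⟨fun a b => ?_⟩⟩
      have ha := hAexp a.1 a.2
      have hb := hAexp b.1 b.2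
      have hab := hAexp (a.1 * b.1) (A.mul_mem a.2 b.2)
      apply Subtype.ext
      show a.1 * b.1 = b.1 * a.1
      have h1 : a.1 * b.1 = (a.1 * b.1)⁻¹ := by
        rw [eq_inv_iff_mul_eq_one, ← pow_two]; exact hab
      have h2 : a.1⁻¹ = a.1 := by
        rw [inv_eq_iff_eq_inv, eq_inv_iff_mul_eq_one, ← pow_two]; exact ha
      have h3 : b.1⁻¹ = b.1 := by
        rw [inv_eq_iff_eq_inv, eq_inv_iff_mul_eq_one, ← pow_two]; exact hb
      rw [h1, mul_inv_rev, h2, h3]
    have hAcard := secrank_prank_quotient hr N₂ A inferInstance hAexp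
    have hmemA : ∀ m : G, m ^ 2 ∈ N → ((m : G ⧸ N₂)) ∈ A := fun m hm =>
      Subgroup.mem_map.mpr ⟨m, (hMmem m).mpr hm, rfl⟩
    have hne : ∀ u v : G, u⁻¹ * v ∉ N₂ → ((u : G ⧸ N₂)) ≠ ((v : G ⧸ N₂)) := by
      intro u v h h'
      exact h (QuotientGroup.eq.mp h')
    have hNN : ∀ w : G, w ∉ N → w ∉ N₂ := fun w h h' => h (hN2N h')
    have h5 := secrank_five_le A ((1 : G) : G ⧸ N₂) ((g : G) : G ⧸ N₂) ((x : G) : G ⧸ N₂)
      ((y : G) : G ⧸ N₂) ((x * g : G) : G ⧸ N₂)
      (hmemA 1 (by rw [one_pow]; exact N.one_mem))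
      (hmemA g (N.pow_mem hgN 2))
      (hmemA x hx2N) (hmemA y hy2N)
      (hmemA (x * g) ((hMmem (x * g)).mp
        (M.mul_mem ((hMmem x).mpr hx2N) ((hMmem g).mpr (N.pow_mem hgN 2)))))
      (hne _ _ (by simpa using hgN2))
      (hne _ _ (by simpa using hNN _ hxN))
      (hne _ _ (by simpa using hNN _ hyN))
      (hne _ _ (by
        simp only [inv_one, one_mul]
        exact hNN _ (fun h => hxN (by
          have := N.mul_mem h (N.inv_mem hgN)
          simpa using this))))
      (hne _ _ (hNN _ (fun h => hxN (by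
          have := N.mul_mem hgN h
          simpa using this))))
      (hne _ _ (hNN _ (fun h => hyN (by
          have := N.mul_mem hgN h
          simpa using this))))
      (hne _ _ (hNN _ (fun h => hxN (by
          have h1 := N.mul_mem (N.mul_mem hgN h) (N.inv_mem hgN)
          have h2 : g * (g⁻¹ * (x * g)) * g⁻¹ = x := by group
          rw [h2] at h1; exact h1))))
      (hne _ _ (hNN _ hxyN))
      (hne _ _ (by simpa using hgN2))
      (hne _ _ (hNN _ (fun h => hxyN (by
          have h1 := N.inv_mem (N.mul_mem h (N.inv_mem hgN))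
          have h2 : (y⁻¹ * (x * g) * g⁻¹)⁻¹ = x⁻¹ * y := by group
          rw [h2] at h1; exact h1))))
    norm_num at hAcard
    omega
  obtain ⟨m, hm2N, hm2⟩ := hkey
  -- m² = g^i with i odd
  obtain ⟨i, hi⟩ := (mem_powers_iff_mem_zpowers.mpr hm2N : m ^ 2 ∈ Submonoid.powers g)
  have hiodd : ¬ 2 ∣ i := by
    rintro ⟨j, rfl⟩
    apply hm2
    have hi' : g ^ (2 * j) = m ^ 2 := hi
    rw [← hi', pow_mul]
    exact Subgroup.pow_mem _ (Subgroup.mem_zpowers _) j
  have hcop : (orderOf g).Coprime i := by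
    rw [hk]
    exact Nat.Coprime.pow_left k ((Nat.prime_two.coprime_iff_not_dvd).mpr hiodd)
  have ho1 : orderOf (m ^ 2) = orderOf g := by
    have hi' : g ^ i = m ^ 2 := hi
    rw [← hi']; exact hcop.orderOf_pow
  have hm1 : m ≠ 1 := by
    rintro rfl
    apply hm2
    rw [one_pow]; exact Subgroup.one_mem _
  obtain ⟨k', hk'⟩ := (IsPGroup.iff_orderOf.mp hG) m
  have hk'0 : k' ≠ 0 := by
    rintro rfl
    rw [pow_zero, orderOf_eq_one_iff] at hk'
    exact hm1 hk'
  have h2dvd' : 2 ∣ orderOf m := by rw [hk']; exact dvd_pow_self 2 hk'0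
  have ho2 : orderOf (m ^ 2) = orderOf m / 2 := orderOf_pow_of_dvd (by norm_num) h2dvd'
  have hgm : g ∈ Subgroup.zpowers m := by
    have h1 : Subgroup.zpowers (m ^ 2) ≤ Subgroup.zpowers g := Subgroup.zpowers_le.mpr hm2N
    have h2 : Subgroup.zpowers (m ^ 2) = Subgroup.zpowers g := by
      apply Subgroup.eq_of_le_of_card_ge h1
      rw [Nat.card_zpowers, Nat.card_zpowers, ho1]
    have h3 : g ∈ Subgroup.zpowers (m ^ 2) := by rw [h2]; exact Subgroup.mem_zpowers g
    exact (Subgroup.zpowers_le.mpr (Subgroup.pow_mem _ (Subgroup.mem_zpowers m) 2)) h3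
  have h3 := hgmax m (hg.trans (Subgroup.zpowers_le.mpr hgm))
  have h4 : 0 < orderOf g := orderOf_pos g
  obtain ⟨t, ht⟩ := h2dvd'
  rw [ht, Nat.mul_div_cancel_left t (by norm_num)] at ho2
  omega

/-- A `2`-group of sectional rank at most `2` is metacyclic. -/
theorem secrank_main.{u} : ∀ (n : ℕ) (G : Type u) [Group G] [Finite G], Nat.card G = n →
    IsPGroup 2 G → Cfsg.SectionalPRankLE 2 2 G → Cfsg.IsMetacyclic G := by
  intro n
  induction n using Nat.strong_induction_on with
  | _ n ih =>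
  intro G _ _ hn hG hr
  haveI : Fact (Nat.Prime 2) := ⟨Nat.prime_two⟩
  by_cases hc : ∃ c : G, commutator G ≤ Subgroup.zpowers c
  · exact secrank_of_cyclic_comm hG hr hc
  · exfalso
    have hne : commutator G ≠ ⊥ := fun h => hc ⟨1, by rw [h]; exact bot_le⟩
    obtain ⟨z, -, hzc, hz2, hz1⟩ := omegaquot_exists_central hG (commutator G) hne
    set Z := Subgroup.zpowers z with hZdef
    haveI hZn : Z.Normal := omegaquot_zpowers_normal hzc
    have hZc : Z ≤ Subgroup.center G := Subgroup.zpowers_le.mpr hzc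
    have hcard : Nat.card (G ⧸ Z) < n := by
      have h1 := Subgroup.card_eq_card_quotient_mul_card_subgroup Z
      have h2 : 2 ≤ Nat.card Z := by
        rw [hZdef, Nat.card_zpowers]
        have h3 : orderOf z ≠ 1 := fun h => hz1 (orderOf_eq_one_iff.mp h)
        have h4 : 0 < orderOf z := orderOf_pos z
        omega
      have h3 : 0 < Nat.card (G ⧸ Z) := Nat.card_pos
      rw [← hn, h1]
      nlinarith
    obtain ⟨L, hLn, hLc, hQc⟩ := ih _ hcard (G ⧸ Z) rfl (hG.to_quotient Z) (secrank_quotient hr Z)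
    obtain ⟨l', hl'⟩ := hLc.exists_generator
    obtain ⟨l, hl⟩ := QuotientGroup.mk_surjective (l' : G ⧸ Z)
    obtain ⟨b'', hb''⟩ := hQc.exists_generator
    obtain ⟨b', rfl⟩ := QuotientGroup.mk_surjective b''
    obtain ⟨b, rfl⟩ := QuotientGroup.mk_surjective b'
    apply hc
    refine ⟨l * b * l⁻¹ * b⁻¹, ?_⟩
    have hS : ∀ s ∈ L.comap (QuotientGroup.mk' Z), ∃ k : ℤ, ∃ w ∈ Z, s = l ^ k * w := by
      intro s hs
      have hs' : ((s : G ⧸ Z)) ∈ L := hs
      obtain ⟨k, hk⟩ := Subgroup.mem_zpowers_iff.mp (hl' ⟨_, hs'⟩)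
      have h1 : ((l ^ k : G) : G ⧸ Z) = ((s : G ⧸ Z)) := by
        have := congrArg Subtype.val hk
        rw [QuotientGroup.mk_zpow, hl]
        simpa using this
      refine ⟨k, (l ^ k)⁻¹ * s, QuotientGroup.eq.mp h1, by group⟩
    refine metacyc_commutator_le (L.comap (QuotientGroup.mk' Z)) ?_ l b ?_ Z hZc hS ?_
    · intro s hs t ht
      obtain ⟨k, w, hw, rfl⟩ := hS s hs
      obtain ⟨j, w', hw', rfl⟩ := hS t ht
      have c1 : Commute (l ^ k) (l ^ j) := (Commute.refl l).zpow_zpow k j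
      have cw : ∀ g : G, Commute w g := fun g =>
        (Subgroup.mem_center_iff.mp (hZc hw) g).symm
      have cw' : ∀ g : G, Commute w' g := fun g =>
        (Subgroup.mem_center_iff.mp (hZc hw') g).symm
      exact (c1.mul_right (cw' _).symm).mul_left (cw _)
    · show ((l : G ⧸ Z)) ∈ L
      rw [hl]; exact l'.2
    · intro r
      obtain ⟨j, hj⟩ := Subgroup.mem_zpowers_iff.mp (hb'' (((r : G ⧸ Z)) : (G ⧸ Z) ⧸ L))
      have h1 : ((((b : G ⧸ Z)) ^ j : G ⧸ Z) : (G ⧸ Z) ⧸ L) = (((r : G ⧸ Z)) : (G ⧸ Z) ⧸ L) := by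
        rw [QuotientGroup.mk_zpow]; exact hj
      have h2 := QuotientGroup.eq.mp h1
      refine ⟨j, (b ^ j)⁻¹ * r, ?_, by group⟩
      show (((b ^ j)⁻¹ * r : G) : G ⧸ Z) ∈ L
      rw [QuotientGroup.mk_mul, QuotientGroup.mk_inv, QuotientGroup.mk_zpow]
      exact h2

end SecRank

end Cfsg.Agent.Helper64
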