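import Mathlib

set_option autoImplicit false

namespace Cfsg.Agent.Helper64

variable {G : Type*} [Group G]

theorem mem_map_conj {M : Subgroup G} {g y : G} :
    y ∈ M.map (MulAut.conj g).toMonoidHom ↔ g⁻¹ * y * g ∈ M := by
  rw [Subgroup.mem_map_equiv, MulAut.conj_symm_apply]

theorem map_conj_eq_self_of_mem {M : Subgroup G} {g : G} (hg : g ∈ M) :
    M.map (MulAut.conj g).toMonoidHom = M := by
  ext y
  rw [mem_map_conj]
  constructor
  · intro h
    have := M.mul_mem (M.mul_mem hg h) (M.inv_mem hg)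
    simpa [mul_assoc] using this
  · intro h
    exact M.mul_mem (M.mul_mem (M.inv_mem hg) h) hg

theorem map_conj_map_conj (M : Subgroup G) (a b : G) :
    (M.map (MulAut.conj a).toMonoidHom).map (MulAut.conj b).toMonoidHom
      = M.map (MulAut.conj (b * a)).toMonoidHom := by
  ext y
  simp only [mem_map_conj]
  have : a⁻¹ * (b⁻¹ * y * b) * a = (b * a)⁻¹ * y * (b * a) := by group
  rw [this]

theorem map_conj_one (M : Subgroup G) : M.map (MulAut.conj (1 : G)).toMonoidHom = M := by
  ext y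
  simp

theorem isCoatom_map_conj {M : Subgroup G} (g : G) (hM : IsCoatom M) :
    IsCoatom (M.map (MulAut.conj g).toMonoidHom) :=
  (OrderIso.isCoatom_iff (MulEquiv.mapSubgroup (MulAut.conj g)) M).mpr hM

theorem index_map_conj (M : Subgroup G) (g : G) :
    (M.map (MulAut.conj g).toMonoidHom).index = M.index :=
  Subgroup.index_map_equiv M (MulAut.conj g)

theorem card_map_conj (M : Subgroup G) (g : G) :
    Nat.card (M.map (MulAut.conj g).toMonoidHom) = Nat.card M :=
  Subgroup.card_map_of_injective (MulAut.conj g).injective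

theorem map_conj_le_iff {M K : Subgroup G} {g : G} :
    M.map (MulAut.conj g).toMonoidHom ≤ K ↔ M ≤ K.map (MulAut.conj g⁻¹).toMonoidHom := by
  constructor
  · intro h x hx
    rw [mem_map_conj, inv_inv]
    exact h ⟨x, hx, by simp [MulAut.conj_apply]⟩
  · rintro h _ ⟨x, hx, rfl⟩
    have := h hx
    rw [mem_map_conj, inv_inv] at this
    simpa [MulAut.conj_apply] using this

/-- A subgroup of index prime to `r` contains a conjugate of every `r`-subgroup. -/
theorem exists_conj_le_of_not_dvd_index [Finite G] {r : ℕ} [Fact r.Prime] {R : Subgroup G}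
    (hR : IsPGroup r R) (M : Subgroup G) (h : ¬ r ∣ M.index) :
    ∃ g : G, R ≤ M.map (MulAut.conj g).toMonoidHom := by
  have hne := hR.nonempty_fixed_point_of_prime_not_dvd_card (G ⧸ M) (by rwa [← Subgroup.index])
  obtain ⟨q, hq⟩ := hne
  obtain ⟨g, rfl⟩ := QuotientGroup.mk_surjective q
  refine ⟨g, fun x hx => ?_⟩
  rw [mem_map_conj]
  rw [MulAction.mem_fixedPoints] at hq
  have := hq ⟨x, hx⟩
  have h2 : ((x * g : G) : G ⧸ M) = (g : G ⧸ M) := this
  rw [QuotientGroup.eq] at h2
  have h3 := M.inv_mem h2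
  have e : ((x * g)⁻¹ * g)⁻¹ = g⁻¹ * x * g := by group
  rwa [e] at h3

/-- Two Sylow subgroups inside a subgroup `M` are conjugate by an element of `M`. -/
theorem exists_mem_conj_eq_of_le [Finite G] {r : ℕ} [Fact r.Prime] (P Q : Sylow r G)
    {M : Subgroup G} (hP : (P : Subgroup G) ≤ M) (hQ : (Q : Subgroup G) ≤ M) :
    ∃ m ∈ M, m • P = Q := by
  obtain ⟨m, hm⟩ := MulAction.exists_smul_eq M (P.subtype hP) (Q.subtype hQ)
  refine ⟨m, m.2, ?_⟩
  rw [Sylow.smul_subtype] at hm
  exact Sylow.subtype_injective hm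

theorem sylow_smul_coe {r : ℕ} (P : Sylow r G) (g : G) :
    ((g • P : Sylow r G) : Subgroup G) = (P : Subgroup G).map (MulAut.conj g).toMonoidHom := by
  ext y
  rw [Sylow.coe_subgroup_smul, mem_map_conj, Subgroup.mem_smul_pointwise_iff_exists]
  constructor
  · rintro ⟨s, hs, rfl⟩
    simpa [MulAut.smul_def, MulAut.conj_apply, mul_assoc] using hs
  · intro h
    refine ⟨_, h, ?_⟩
    simp [MulAut.smul_def, MulAut.conj_apply, mul_assoc]

/-- If a Sylow subgroup `P` lies in `M` and in the conjugate of `M` by `g`, then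
`g ∈ N_G(P) M`; in particular if `N_G(P) ≤ M` then `g ∈ M`. -/
theorem mem_of_sylow_le_conj [Finite G] {r : ℕ} [Fact r.Prime] (P : Sylow r G)
    {M : Subgroup G} (hP : (P : Subgroup G) ≤ M)
    (hN : Subgroup.normalizer ((P : Subgroup G) : Set G) ≤ M) {g : G}
    (hg : (P : Subgroup G) ≤ M.map (MulAut.conj g).toMonoidHom) : g ∈ M := by
  have h1 : ((g⁻¹ • P : Sylow r G) : Subgroup G) ≤ M := by
    rw [sylow_smul_coe, map_conj_le_iff, inv_inv]
    exact hg
  obtain ⟨m, hm, hmP⟩ := exists_mem_conj_eq_of_le P (g⁻¹ • P) hP h1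
  have h2 : (g * m) • P = P := by
    rw [mul_smul, hmP, smul_inv_smul]
  rw [Sylow.smul_eq_iff_mem_normalizer] at h2
  have h3 := hN h2
  have := M.mul_mem h3 (M.inv_mem hm)
  simpa using this

end Cfsg.Agent.Helper64
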