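import Mathlib
import Cfsg.Agent.Helper70.FrobComp2
import Cfsg.Agent.Helper64.Index

/-!
General lemmas for the dichotomy "cyclic Sylow `p`-subgroup and abelian `p'`-subgroups":
automorphisms of cyclic `p`-groups induced by conjugation, Burnside transfer consequences,
and the congruence `|G : P| ≡ 1 (mod p)` for perfect groups with abelian `p'`-subgroups.
-/

set_option autoImplicit false

namespace Cfsg.Agent.Helper64

open Subgroup

variable {G : Type*} [Group G]

/-- if conjugation by `x` raises `g` to the `k`-th power, conjugation by `x ^ i` raises it to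
the power `k ^ i` -/
theorem cycab_conj_pow {x g : G} {k : ℕ} (h : x * g * x⁻¹ = g ^ k) (i : ℕ) :
    x ^ i * g * (x ^ i)⁻¹ = g ^ (k ^ i) := by
  induction i with
  | zero => simp
  | succ i ih =>
    have h1 : x ^ (i + 1) * g * (x ^ (i + 1))⁻¹ = x * (x ^ i * g * (x ^ i)⁻¹) * x⁻¹ := by
      rw [pow_succ']; group
    rw [h1, ih]
    have h2 : x * g ^ (k ^ i) * x⁻¹ = (x * g * x⁻¹) ^ (k ^ i) := by
      rw [conj_pow]
    rw [h2, h, ← pow_mul, pow_succ']

/-- a `p'`-element inducing on `⟨g⟩` (of order `p ^ n`) a power map congruent to `1` mod `p`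
centralizes `g` -/
theorem cycab_commute_of_dvd {p : ℕ} [hp : Fact p.Prime] {x g : G} {k n : ℕ}
    (hg : orderOf g = p ^ n) (h : x * g * x⁻¹ = g ^ k) (hk : (p : ℤ) ∣ (k : ℤ) - 1)
    (hx : (orderOf x).Coprime p) : Commute x g := by
  rcases Nat.eq_zero_or_pos n with h0 | h0
  · subst h0
    rw [pow_zero, orderOf_eq_one_iff] at hg
    subst hg
    exact Commute.one_right x
  have h1 : ((p : ℤ) ^ ((n - 1) + 1)) ∣ (k : ℤ) ^ p ^ (n - 1) - 1 ^ p ^ (n - 1) :=
    dvd_sub_pow_of_dvd_sub hk (n - 1)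
  rw [Nat.sub_add_cancel h0, one_pow] at h1
  have h2 : k ^ p ^ (n - 1) ≡ 1 [MOD p ^ n] := by
    apply Int.natCast_modEq_iff.mp
    push_cast
    exact (Int.modEq_iff_dvd.mpr h1).symm
  have h3 : x ^ (p ^ (n - 1)) * g * (x ^ (p ^ (n - 1)))⁻¹ = g := by
    rw [cycab_conj_pow h]
    have := (pow_eq_pow_iff_modEq (x := g)).mpr (hg ▸ h2)
    simpa using this
  have h4 : Commute (x ^ (p ^ (n - 1))) g := by
    have : x ^ (p ^ (n - 1)) * g = g * x ^ (p ^ (n - 1)) := by
      calc x ^ (p ^ (n - 1)) * g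
          = (x ^ (p ^ (n - 1)) * g * (x ^ (p ^ (n - 1)))⁻¹) * x ^ (p ^ (n - 1)) := by group
        _ = g * x ^ (p ^ (n - 1)) := by rw [h3]
    exact this
  obtain ⟨m, hm⟩ := exists_pow_eq_self_of_coprime
    (x := x) (n := p ^ (n - 1)) (Nat.Coprime.pow_left _ hx.symm)
  rw [← hm]
  exact h4.pow_left m

/-- a generator of a finite cyclic subgroup -/
theorem cycab_exists_gen [Finite G] {P : Subgroup G} (hc : IsCyclic P) :
    ∃ g ∈ P, ∀ y ∈ P, ∃ k : ℕ, y = g ^ k := by
  obtain ⟨g, hg⟩ := hc.exists_generator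
  refine ⟨g, g.2, fun y hy => ?_⟩
  have h1 := hg ⟨y, hy⟩
  rw [← mem_powers_iff_mem_zpowers] at h1
  obtain ⟨k, hk⟩ := h1
  refine ⟨k, ?_⟩
  have := congrArg Subtype.val hk
  simpa using this.symm

theorem cycab_orderOf_pow [Finite G] {p : ℕ} [hp : Fact p.Prime] {P : Subgroup G}
    (hP : IsPGroup p P) {g : G} (hg : g ∈ P) : ∃ n : ℕ, orderOf g = p ^ n := by
  obtain ⟨k, hk⟩ := hP ⟨g, hg⟩
  have h1 : g ^ p ^ k = 1 := by
    have := congrArg Subtype.val hk
    simpa using this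
  exact (Nat.dvd_prime_pow hp.out).mp (orderOf_dvd_of_pow_eq_one h1) |>.imp fun _ h => h.2

theorem cycab_int_coprime {p : ℕ} [hp : Fact p.Prime] {c : ℤ} (h : ¬ (p : ℤ) ∣ c) (n : ℕ) :
    IsCoprime ((p : ℤ) ^ n) c := by
  apply IsCoprime.pow_left
  exact (Nat.prime_iff_prime_int.mp hp.out).irreducible.coprime_iff_not_dvd.mpr h

/-- a `p'`-element normalizing a cyclic `p`-group and centralizing one of its nontrivial
elements centralizes it -/
theorem cycab_centralize_of_fix [Finite G] {p : ℕ} [hp : Fact p.Prime] {P : Subgroup G}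
    (hP : IsPGroup p P) (hc : IsCyclic P) {x : G} (hxN : x ∈ normalizer (P : Set G))
    (hx : (orderOf x).Coprime p) {u : G} (hu : u ∈ P) (hu1 : u ≠ 1) (hxu : Commute x u) :
    ∀ y ∈ P, Commute x y := by
  obtain ⟨g, hgP, hgen⟩ := cycab_exists_gen hc
  obtain ⟨n, hn⟩ := cycab_orderOf_pow hP hgP
  obtain ⟨k, hk⟩ := hgen _ ((mem_normalizer_iff.mp hxN g).mp hgP)
  obtain ⟨j, hj⟩ := hgen u hu
  have h1 : g ^ (k * j) = g ^ j := by
    have h2 : x * u * x⁻¹ = u := by rw [hxu.eq]; group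
    rw [hj, ← conj_pow, hk, ← pow_mul] at h2
    exact h2
  have h3 : k * j ≡ j [MOD p ^ n] := by
    have := (pow_eq_pow_iff_modEq (x := g)).mp h1
    rwa [hn] at this
  have h4 : ((p : ℤ) ^ n) ∣ (j : ℤ) * ((k : ℤ) - 1) := by
    have := (Int.modEq_iff_dvd.mp (Int.natCast_modEq_iff.mpr h3.symm))
    have e : ((k * j : ℕ) : ℤ) - (j : ℤ) = (j : ℤ) * ((k : ℤ) - 1) := by push_cast; ring
    rw [e] at this
    exact_mod_cast this
  have h5 : (p : ℤ) ∣ (k : ℤ) - 1 := by
    by_contra hnd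
    have h6 := (cycab_int_coprime hnd n).dvd_of_dvd_mul_right h4
    have h7 : p ^ n ∣ j := by exact_mod_cast h6
    apply hu1
    rw [hj]
    obtain ⟨c, rfl⟩ := h7
    rw [pow_mul, ← hn, pow_orderOf_eq_one, one_pow]
  have h8 := cycab_commute_of_dvd hn hk h5 hx
  intro y hy
  obtain ⟨i, rfl⟩ := hgen y hy
  exact h8.pow_right i

/-- a `p'`-element normalizing a cyclic `p`-group `P` and acting trivially modulo a proper
subgroup centralizes `P` -/
theorem cycab_centralize_of_comm_le [Finite G] {p : ℕ} [hp : Fact p.Prime] {P P₁ : Subgroup G}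
    (hP : IsPGroup p P) (hc : IsCyclic P) (hne : ¬ P ≤ P₁) {x : G}
    (hxN : x ∈ normalizer (P : Set G)) (hx : (orderOf x).Coprime p)
    (hcomm : ∀ y ∈ P, x * y * x⁻¹ * y⁻¹ ∈ P₁) : ∀ y ∈ P, Commute x y := by
  obtain ⟨g, hgP, hgen⟩ := cycab_exists_gen hc
  obtain ⟨n, hn⟩ := cycab_orderOf_pow hP hgP
  obtain ⟨k, hk⟩ := hgen _ ((mem_normalizer_iff.mp hxN g).mp hgP)
  have h5 : (p : ℤ) ∣ (k : ℤ) - 1 := by
    by_contra hnd
    obtain ⟨a, b, hab⟩ := cycab_int_coprime hnd n
    apply hne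
    have h1 : g ^ ((k : ℤ) - 1) ∈ P₁ := by
      have := hcomm g hgP
      rw [hk] at this
      rwa [zpow_sub, zpow_natCast, zpow_one]
    have h2 : g ∈ P₁ := by
      have e : g = (g ^ ((k : ℤ) - 1)) ^ b := by
        rw [← zpow_mul]
        have : ((k : ℤ) - 1) * b = 1 - a * (p : ℤ) ^ n := by linarith
        rw [this, zpow_sub, zpow_one, zpow_mul']
        have : g ^ ((p : ℤ) ^ n) = 1 := by
          have := pow_orderOf_eq_one g
          rw [hn] at this
          exact_mod_cast this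
        rw [this, one_zpow, inv_one, mul_one]
      rw [e]
      exact P₁.zpow_mem h1 b
    intro y hy
    obtain ⟨i, rfl⟩ := hgen y hy
    exact P₁.pow_mem h2 i
  have h8 := cycab_commute_of_dvd hn hk h5 hx
  intro y hy
  obtain ⟨i, rfl⟩ := hgen y hy
  exact h8.pow_right i

/-- an element commutes with `z` as soon as its `p`-part and its `p'`-part do -/
theorem cycab_commute_of_parts [Finite G] {p : ℕ} [hp : Fact p.Prime] {n z : G}
    (h1 : ∀ x ∈ zpowers n, (orderOf x).Coprime p → Commute x z)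
    (h2 : ∀ x ∈ zpowers n, (∃ j : ℕ, x ^ p ^ j = 1) → Commute x z) : Commute n z := by
  obtain ⟨a, m, hm, ho⟩ := Nat.exists_eq_pow_mul_and_not_dvd (orderOf_pos n).ne' p hp.out.ne_one
  have hx1 : Commute (n ^ p ^ a) z := by
    apply h1 _ (pow_mem (mem_zpowers n) _)
    have : orderOf (n ^ p ^ a) ∣ m := by
      apply orderOf_dvd_of_pow_eq_one
      rw [← pow_mul, ← ho, pow_orderOf_eq_one]
    exact Nat.Coprime.coprime_dvd_left this ((Nat.Prime.coprime_iff_not_dvd hp.out).mpr hm).symm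
  have hx2 : Commute (n ^ m) z := by
    apply h2 _ (pow_mem (mem_zpowers n) _)
    refine ⟨a, ?_⟩
    rw [← pow_mul, mul_comm, ← ho, pow_orderOf_eq_one]
  have hcop : IsCoprime ((p ^ a : ℕ) : ℤ) (m : ℤ) :=
    Nat.isCoprime_iff_coprime.mpr
      (Nat.Coprime.pow_left a ((Nat.Prime.coprime_iff_not_dvd hp.out).mpr hm))
  obtain ⟨u, v, huv⟩ := hcop
  have e : n = (n ^ p ^ a) ^ u * (n ^ m) ^ v := by
    rw [← zpow_natCast, ← zpow_natCast, ← zpow_mul, ← zpow_mul, ← zpow_add]
    have : ((p ^ a : ℕ) : ℤ) * u + (m : ℤ) * v = 1 := by linarith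
    rw [this, zpow_one]
  rw [e]
  exact (hx1.zpow_left u).mul_left (hx2.zpow_left v)

/-- if the `p'`-elements of `N_G(P)` centralize the abelian Sylow subgroup `P`, then
`N_G(P) ≤ C_G(P)` -/
theorem cycab_normalizer_le_centralizer [Finite G] {p : ℕ} [hp : Fact p.Prime] (P : Sylow p G)
    (hcomm : ∀ a ∈ P, ∀ b ∈ P, Commute a b)
    (h : ∀ x ∈ normalizer ((P : Subgroup G) : Set G), (orderOf x).Coprime p →
      ∀ y ∈ P, Commute x y) :
    normalizer ((P : Subgroup G) : Set G) ≤ centralizer ((P : Subgroup G) : Set G) := by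
  intro n hn
  rw [mem_centralizer_iff]
  intro y hy
  have hzn : zpowers n ≤ normalizer ((P : Subgroup G) : Set G) := by
    rw [zpowers_le]; exact hn
  have : Commute n y := by
    apply cycab_commute_of_parts (p := p)
    · intro x hx hxo
      exact h x (hzn hx) hxo y hy
    · intro x hx ⟨j, hj⟩
      have hpg : IsPGroup p (zpowers x) := by
        rw [IsPGroup]
        rintro ⟨w, hw⟩
        obtain ⟨i, rfl⟩ := mem_zpowers_iff.mp hw
        refine ⟨j, ?_⟩
        apply Subtype.ext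
        simp only [SubmonoidClass.mk_pow, OneMemClass.coe_one]
        rw [← zpow_natCast, ← zpow_mul, mul_comm, zpow_mul, zpow_natCast, hj, one_zpow]
      have h3 := hpg.inf_normalizer_sylow P
      have h4 : x ∈ zpowers x ⊓ normalizer (P : Set G) :=
        ⟨mem_zpowers x, hzn hx⟩
      rw [h3] at h4
      exact hcomm x h4.2 y hy
  exact this.eq.symm

/-- Burnside's transfer theorem in index form -/
theorem cycab_hasNPC_of_le [Finite G] {p : ℕ} [Fact p.Prime] (P : Sylow p G)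
    (h : normalizer ((P : Subgroup G) : Set G) ≤ centralizer ((P : Subgroup G) : Set G)) :
    Helper70.HasNPC p G :=
  Helper70.hasNPC_of_isComplement' P _ (MonoidHom.normal_ker _)
    (MonoidHom.ker_transferSylow_isComplement' P h)

end Cfsg.Agent.Helper64
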