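import Mathlib
import Cfsg.Agent.Helper64.CycAb1

/-!
Transfer consequences for groups whose `p'`-subgroups are abelian: the Sylow `q`-subgroups
(`q ≠ p`) of a perfect such group have order `≡ 1 (mod p)`; `|N_G(P) : C_G(P)|` divides `p - 1`
for a cyclic Sylow `p`-subgroup.
-/

set_option autoImplicit false

namespace Cfsg.Agent.Helper64

open Subgroup

variable {G : Type*} [Group G]

/-- if `A` normalizes `B` then `|AB|·|A ∩ B| = |A|·|B|` -/
theorem cycab_card_sup_mul [Finite G] {A B : Subgroup G} (h : A ≤ normalizer (B : Set G)) :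
    Nat.card (A ⊔ B : Subgroup G) * Nat.card (A ⊓ B : Subgroup G) = Nat.card A * Nat.card B := by
  have hB : B ≤ normalizer (B : Set G) := le_normalizer
  haveI : (B.subgroupOf (normalizer (B : Set G))).Normal := normal_in_normalizer
  have h1 := card_sup_mul_card_inf (A.subgroupOf (normalizer (B : Set G)))
    (B.subgroupOf (normalizer (B : Set G)))
  have einf : A.subgroupOf (normalizer (B : Set G)) ⊓ B.subgroupOf (normalizer (B : Set G)) =
      (A ⊓ B).subgroupOf (normalizer (B : Set G)) := (comap_inf A B _).symm
  rw [← subgroupOf_sup h hB, einf] at h1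
  have e1 : Nat.card ((A ⊔ B).subgroupOf (normalizer (B : Set G))) = Nat.card (A ⊔ B : Subgroup G) :=
    Nat.card_congr (subgroupOfEquivOfLe (sup_le h hB)).toEquiv
  have e2 : Nat.card ((A ⊓ B).subgroupOf (normalizer (B : Set G))) = Nat.card (A ⊓ B : Subgroup G) :=
    Nat.card_congr (subgroupOfEquivOfLe (inf_le_left.trans h)).toEquiv
  have e3 : Nat.card (A.subgroupOf (normalizer (B : Set G))) = Nat.card A :=
    Nat.card_congr (subgroupOfEquivOfLe h).toEquiv
  have e4 : Nat.card (B.subgroupOf (normalizer (B : Set G))) = Nat.card B :=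
    Nat.card_congr (subgroupOfEquivOfLe hB).toEquiv
  rw [e1, e2, e3, e4] at h1
  exact h1

theorem cycab_card_sup_dvd [Finite G] {A B : Subgroup G} (h : A ≤ normalizer (B : Set G)) :
    Nat.card (A ⊔ B : Subgroup G) ∣ Nat.card A * Nat.card B :=
  Dvd.intro _ (cycab_card_sup_mul h)

/-- a `p'`-element normalizing a `p'`-subgroup centralizes it, when `p'`-subgroups are abelian -/
theorem cycab_commute_of_coprime [Finite G] {p : ℕ}
    (hab : ∀ H : Subgroup G, (Nat.card H).Coprime p → IsMulCommutative H)
    {K : Subgroup G} (hK : (Nat.card K).Coprime p) {x : G} (hx : x ∈ normalizer (K : Set G))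
    (hxo : (orderOf x).Coprime p) : ∀ k ∈ K, Commute x k := by
  intro k hk
  have h1 : zpowers x ≤ normalizer (K : Set G) := by rw [zpowers_le]; exact hx
  have h2 := cycab_card_sup_dvd h1
  rw [Nat.card_zpowers] at h2
  have h3 : (Nat.card (zpowers x ⊔ K : Subgroup G)).Coprime p :=
    Nat.Coprime.coprime_dvd_left h2 (Nat.Coprime.mul_left hxo hK)
  have h4 := hab _ h3
  have hx' : x ∈ zpowers x ⊔ K := le_sup_left (a := zpowers x) (mem_zpowers x)
  have hk' : k ∈ zpowers x ⊔ K := le_sup_right (b := K) hk
  have := h4.is_comm.comm ⟨x, hx'⟩ ⟨k, hk'⟩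
  exact congrArg Subtype.val this

open scoped IsMulCommutative in
/-- in a perfect group an abelian Sylow subgroup meets the centre of its normalizer trivially -/
theorem cycab_eq_one_of_central [Finite G] {q : ℕ} [Fact q.Prime] (Q : Sylow q G)
    [hQ : IsMulCommutative (Q : Subgroup G)] (hperf : commutator G = ⊤) {g : G} (hg : g ∈ Q)
    (hc : ∀ n ∈ normalizer ((Q : Subgroup G) : Set G), Commute n g) : g = 1 := by
  have key : ∀ (k : ℕ) (g₀ : G), g₀⁻¹ * g ^ k * g₀ ∈ (Q : Subgroup G) →
      g₀⁻¹ * g ^ k * g₀ = g ^ k := by
    intro k g₀ h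
    obtain ⟨n, hn, hn2⟩ := Q.conj_eq_normalizer_conj_of_mem (g ^ k) g₀ (pow_mem hg k) h
    rw [hn2]
    have := (hc n hn).pow_right k
    rw [mul_assoc, ← this.eq, inv_mul_cancel_left]
  have h1 := MonoidHom.transfer_eq_pow (MonoidHom.id (Q : Subgroup G)) g key
  have h2 : MonoidHom.transfer (MonoidHom.id (Q : Subgroup G)) g = 1 := by
    have h3 := Abelianization.commutator_subset_ker
      (MonoidHom.transfer (MonoidHom.id (Q : Subgroup G)))
    rw [hperf] at h3
    exact h3 (mem_top g)
  rw [h2] at h1
  have h4 : g ^ (Q : Subgroup G).index = 1 := by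
    have := congrArg Subtype.val h1
    simpa using this.symm
  have h5 : orderOf g ∣ (Q : Subgroup G).index := orderOf_dvd_of_pow_eq_one h4
  obtain ⟨n, hn⟩ := cycab_orderOf_pow Q.isPGroup' hg
  rw [hn] at h5
  rcases Nat.eq_zero_or_pos n with h0 | h0
  · rw [h0, pow_zero] at hn
    exact orderOf_eq_one_iff.mp hn
  · exact absurd ((dvd_pow_self q h0.ne').trans h5) Q.not_dvd_index

/-- in a perfect group with abelian `p'`-subgroups, each Sylow `q`-subgroup (`q ≠ p`) has order
congruent to `1` modulo `p` -/
theorem cycab_sylow_card_modEq_one [Finite G] {p q : ℕ} [hp : Fact p.Prime] [hq : Fact q.Prime]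
    (hqp : q ≠ p) (hab : ∀ H : Subgroup G, (Nat.card H).Coprime p → IsMulCommutative H)
    (hperf : commutator G = ⊤) (Q : Sylow q G) : Nat.card (Q : Subgroup G) ≡ 1 [MOD p] := by
  have hQc : (Nat.card (Q : Subgroup G)).Coprime p := by
    obtain ⟨k, hk⟩ := IsPGroup.iff_card.mp Q.isPGroup'
    rw [hk]
    exact Nat.Coprime.pow_left k ((Nat.coprime_primes hq.out hp.out).mpr hqp)
  haveI hQ : IsMulCommutative (Q : Subgroup G) := hab _ hQc
  obtain ⟨S⟩ : Nonempty (Sylow p (normalizer ((Q : Subgroup G) : Set G))) := inferInstance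
  have h1 := S.isPGroup'.card_modEq_card_fixedPoints (Q : Subgroup G)
  have h2 : MulAction.fixedPoints (S : Subgroup (normalizer ((Q : Subgroup G) : Set G)))
      (Q : Subgroup G) = {1} := by
    ext a
    constructor
    · intro ha
      rw [MulAction.mem_fixedPoints] at ha
      have hS : ∀ s ∈ (S : Subgroup (normalizer ((Q : Subgroup G) : Set G))),
          Commute (s : G) (a : G) := by
        intro s hs
        have := congrArg Subtype.val (ha ⟨s, hs⟩)
        have h3 : (s : G) * (a : G) * (s : G)⁻¹ = (a : G) := this
        have : (s : G) * (a : G) = (a : G) * (s : G) := by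
          calc (s : G) * (a : G) = ((s : G) * (a : G) * (s : G)⁻¹) * (s : G) := by group
            _ = (a : G) * (s : G) := by rw [h3]
        exact this
      let K : Subgroup (normalizer ((Q : Subgroup G) : Set G)) :=
        (centralizer ((Q : Subgroup G) : Set G)).subgroupOf (normalizer ((Q : Subgroup G) : Set G))
      haveI hKn : K.Normal := by
        have := normalizerMonoidHom_ker (H := (Q : Subgroup G))
        show ((centralizer ((Q : Subgroup G) : Set G)).subgroupOf
          (normalizer ((Q : Subgroup G) : Set G))).Normal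
        rw [← this]
        infer_instance
      have hKp : IsPGroup p ((normalizer ((Q : Subgroup G) : Set G)) ⧸ K) := by
        intro x
        induction x using QuotientGroup.induction_on with
        | H n =>
          obtain ⟨e, m, hm, ho⟩ :=
            Nat.exists_eq_pow_mul_and_not_dvd (orderOf_pos (n : G)).ne' p hp.out.ne_one
          refine ⟨e, ?_⟩
          rw [← QuotientGroup.mk_pow, QuotientGroup.eq_one_iff]
          show ((n ^ p ^ e : normalizer ((Q : Subgroup G) : Set G)) : G) ∈
            centralizer ((Q : Subgroup G) : Set G)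
          rw [mem_centralizer_iff]
          intro y hy
          have hord : (orderOf ((n : G) ^ p ^ e)).Coprime p := by
            have : orderOf ((n : G) ^ p ^ e) ∣ m := by
              apply orderOf_dvd_of_pow_eq_one
              rw [← pow_mul, ← ho, pow_orderOf_eq_one]
            exact Nat.Coprime.coprime_dvd_left this
              ((Nat.Prime.coprime_iff_not_dvd hp.out).mpr hm).symm
          have hnorm : (n : G) ^ p ^ e ∈ normalizer ((Q : Subgroup G) : Set G) :=
            pow_mem n.2 _
          have := cycab_commute_of_coprime hab hQc hnorm hord y hy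
          simpa using this.eq.symm
      obtain ⟨j, hj⟩ := IsPGroup.iff_card.mp hKp
      have hKi : K.index = p ^ j := by rw [Subgroup.index_eq_card]; exact hj
      have hSK : (S : Subgroup (normalizer ((Q : Subgroup G) : Set G))) ⊔ K = ⊤ := by
        rw [← Subgroup.index_eq_one]
        have d1 : ((S : Subgroup (normalizer ((Q : Subgroup G) : Set G))) ⊔ K).index ∣
            (S : Subgroup (normalizer ((Q : Subgroup G) : Set G))).index :=
          Subgroup.index_dvd_of_le le_sup_left
        have d2 : ((S : Subgroup (normalizer ((Q : Subgroup G) : Set G))) ⊔ K).index ∣ p ^ j := by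
          rw [← hKi]; exact Subgroup.index_dvd_of_le le_sup_right
        have hcop : (p ^ j).Coprime (S : Subgroup (normalizer ((Q : Subgroup G) : Set G))).index :=
          Nat.Coprime.pow_left j ((Nat.Prime.coprime_iff_not_dvd hp.out).mpr S.not_dvd_index)
        exact Nat.eq_one_of_dvd_coprimes hcop d2 d1
      have hall : ∀ n : normalizer ((Q : Subgroup G) : Set G), Commute (n : G) (a : G) := by
        intro n
        have hn : n ∈ (S : Subgroup (normalizer ((Q : Subgroup G) : Set G))) ⊔ K := by
          rw [hSK]; exact mem_top n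
        have hle : (S : Subgroup (normalizer ((Q : Subgroup G) : Set G))) ⊔ K ≤
            (centralizer ({(a : G)} : Set G)).subgroupOf (normalizer ((Q : Subgroup G) : Set G)) := by
          apply sup_le
          · intro s hs
            rw [mem_subgroupOf, mem_centralizer_iff]
            intro y hy
            rw [Set.mem_singleton_iff] at hy
            subst hy
            exact (hS s hs).eq.symm
          · intro c hc
            rw [mem_subgroupOf, mem_centralizer_iff]
            intro y hy
            rw [Set.mem_singleton_iff] at hy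
            subst hy
            have hc' : (c : G) ∈ centralizer ((Q : Subgroup G) : Set G) := hc
            rw [mem_centralizer_iff] at hc'
            exact hc' _ a.2
        have := hle hn
        rw [mem_subgroupOf, mem_centralizer_iff] at this
        exact (this _ rfl).symm
      have ha1 : (a : G) = 1 :=
        cycab_eq_one_of_central Q hperf a.2 (fun n hn => hall ⟨n, hn⟩)
      rw [Set.mem_singleton_iff]
      exact Subtype.ext ha1
    · intro ha
      rw [Set.mem_singleton_iff] at ha
      subst ha
      rw [MulAction.mem_fixedPoints]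
      intro s
      exact smul_one s
  rw [h2] at h1
  simpa using h1

/-- in a perfect group with abelian `p'`-subgroups, `|G : P| ≡ 1 (mod p)` -/
theorem cycab_index_modEq_one [Finite G] {p : ℕ} [hp : Fact p.Prime]
    (hab : ∀ H : Subgroup G, (Nat.card H).Coprime p → IsMulCommutative H)
    (hperf : commutator G = ⊤) (P : Sylow p G) : (P : Subgroup G).index ≡ 1 [MOD p] := by
  have hm0 : (P : Subgroup G).index ≠ 0 := Subgroup.index_ne_zero_of_finite
  have hpm : ¬ p ∣ (P : Subgroup G).index := P.not_dvd_index
  have h1 := Nat.factorization_prod_pow_eq_self hm0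
  rw [← h1]
  unfold Finsupp.prod
  apply Finset.prod_induction (p := fun x => x ≡ 1 [MOD p])
  · intro a b ha hb
    simpa using ha.mul hb
  · exact Nat.ModEq.refl 1
  · intro q hq
    rw [Nat.support_factorization] at hq
    have hqp : q.Prime := Nat.prime_of_mem_primeFactors hq
    have hqd : q ∣ (P : Subgroup G).index := Nat.dvd_of_mem_primeFactors hq
    haveI : Fact q.Prime := ⟨hqp⟩
    have hqne : q ≠ p := by rintro rfl; exact hpm hqd
    obtain ⟨Q⟩ : Nonempty (Sylow q G) := inferInstance
    have h2 := cycab_sylow_card_modEq_one hqne hab hperf Q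
    rw [Q.card_eq_multiplicity] at h2
    have h3 : (Nat.card G).factorization q = ((P : Subgroup G).index).factorization q := by
      obtain ⟨k, hk⟩ := IsPGroup.iff_card.mp P.isPGroup'
      rw [← Subgroup.card_mul_index (P : Subgroup G), hk,
        Nat.factorization_mul (pow_ne_zero k hp.out.ne_zero) hm0,
        Nat.Prime.factorization_pow hp.out]
      simp [Finsupp.single_apply, hqne.symm]
    rw [h3] at h2
    exact h2

theorem cycab_comm_of_cyclic [Finite G] {P : Subgroup G} (hc : IsCyclic P) :
    ∀ a ∈ P, ∀ b ∈ P, Commute a b := by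
  obtain ⟨g, _, hgen⟩ := cycab_exists_gen hc
  intro a ha b hb
  obtain ⟨i, rfl⟩ := hgen a ha
  obtain ⟨j, rfl⟩ := hgen b hb
  exact (Commute.refl g).pow_pow i j

theorem cycab_le_centralizer [Finite G] {P : Subgroup G} (hc : IsCyclic P) :
    P ≤ centralizer (P : Set G) := by
  intro a ha
  rw [mem_centralizer_iff]
  intro b hb
  exact (cycab_comm_of_cyclic hc b hb a ha).eq

/-- for a cyclic Sylow `p`-subgroup, `|N_G(P) : C_G(P)|` divides `p - 1` -/
theorem cycab_relIndex_dvd [Finite G] {p : ℕ} [hp : Fact p.Prime] (P : Sylow p G)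
    (hc : IsCyclic (P : Subgroup G)) :
    (centralizer ((P : Subgroup G) : Set G)).relIndex (normalizer ((P : Subgroup G) : Set G)) ∣
      p - 1 := by
  have key := Subgroup.card_dvd_of_injective _
    (QuotientGroup.kerLift_injective (P : Subgroup G).normalizerMonoidHom)
  rw [normalizerMonoidHom_ker, ← Subgroup.index_eq_card] at key
  have key' : (centralizer ((P : Subgroup G) : Set G)).relIndex
      (normalizer ((P : Subgroup G) : Set G)) ∣ Nat.card (MulAut (P : Subgroup G)) := key
  obtain ⟨k, hk⟩ := IsPGroup.iff_card.mp P.isPGroup'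
  haveI := hc
  rw [IsCyclic.card_mulAut, hk] at key'
  rcases Nat.eq_zero_or_pos k with h0 | h0
  · rw [h0, pow_zero, Nat.totient_one] at key'
    exact key'.trans (one_dvd _)
  rw [Nat.totient_prime_pow hp.out h0] at key'
  have hcop : ((centralizer ((P : Subgroup G) : Set G)).relIndex
      (normalizer ((P : Subgroup G) : Set G))).Coprime (p ^ (k - 1)) := by
    apply Nat.Coprime.pow_right
    apply Nat.Coprime.coprime_dvd_left (relIndex_dvd_of_le_left _ (cycab_le_centralizer hc))
    apply Nat.Coprime.coprime_dvd_left (relIndex_dvd_index_of_le le_normalizer)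
    rw [Nat.coprime_comm, Nat.Prime.coprime_iff_not_dvd hp.out]
    exact P.not_dvd_index
  exact hcop.dvd_of_dvd_mul_left key'

end Cfsg.Agent.Helper64
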