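import Mathlib

set_option autoImplicit false

namespace Cfsg.Agent.Helper64

open Polynomial

/-- iterated Frobenius on polynomials over `ZMod q` -/
theorem expand_pow_card {q : ℕ} [Fact q.Prime] (e : ℕ) (f : (ZMod q)[X]) :
    expand (ZMod q) (q ^ e) f = f ^ q ^ e := by
  induction e with
  | zero => simp
  | succ e ih =>
    rw [pow_succ', expand_mul, ih, ZMod.expand_card, ← pow_mul, mul_comm]

/-- An irreducible module for a cyclic group of order dividing `p` over `ZMod q` has at most
`q ^ e` elements when `q ^ e ≡ 1 [MOD p]`. -/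
theorem card_le_of_irreducible {q e p : ℕ} [Fact q.Prime] {V : Type*} [AddCommGroup V]
    [Module (ZMod q) V] [Finite V] [Nontrivial V] (s : Module.End (ZMod q) V) (hs : s ^ p = 1)
    (hqe : q ^ e ≡ 1 [MOD p]) (he : e ≠ 0)
    (hirr : ∀ W : Submodule (ZMod q) V, (∀ v ∈ W, s v ∈ W) → W = ⊥ ∨ W = ⊤) :
    Nat.card V ≤ q ^ e := by
  classical
  have hq : q.Prime := Fact.out
  set φ : (ZMod q)[X] →ₐ[ZMod q] Module.End (ZMod q) V := aeval s with hφ
  have hφX : φ X = s := aeval_X s
  -- s ^ (q ^ e) = s
  have hspow : s ^ q ^ e = s := by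
    have h1 : 1 ≤ q ^ e := Nat.one_le_pow _ _ hq.pos
    obtain ⟨t, ht⟩ := (Nat.modEq_iff_dvd' h1).mp hqe.symm
    have : q ^ e = 1 + p * t := by omega
    rw [this, pow_add, pow_one, pow_mul, hs, one_pow, mul_one]
  -- Step 1
  have step1 : ∀ P : (ZMod q)[X], φ (P ^ q ^ e) = φ P := by
    intro P
    rw [← expand_pow_card, hφ, expand_aeval, hspow]
  -- commutation
  have hcomm : ∀ P : (ZMod q)[X], ∀ v : V, s (φ P v) = φ P (s v) := by
    intro P v
    have h1 : φ X * φ P = φ P * φ X := by rw [← map_mul, ← map_mul, mul_comm]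
    rw [hφX] at h1
    have := congrArg (fun f : Module.End (ZMod q) V => f v) h1
    simpa using this
  -- the kernel is a prime ideal
  set I : Ideal (ZMod q)[X] := RingHom.ker (φ : (ZMod q)[X] →+* Module.End (ZMod q) V) with hI
  have hIprime : I.IsPrime := by
    refine ⟨?_, ?_⟩
    · intro htop
      have h1 : (1 : (ZMod q)[X]) ∈ I := by rw [htop]; trivial
      rw [hI, RingHom.mem_ker] at h1
      have h2 : (1 : Module.End (ZMod q) V) = 0 := by simp at h1
      obtain ⟨v, hv⟩ := exists_ne (0 : V)
      apply hv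
      have := congrArg (fun f : Module.End (ZMod q) V => f v) h2
      simpa using this
    · intro P Q hPQ
      rw [hI, RingHom.mem_ker] at hPQ
      have hPQ' : φ P * φ Q = 0 := by
        have : φ (P * Q) = 0 := hPQ
        rwa [map_mul] at this
      rcases hirr (LinearMap.range (φ Q)) (by
        rintro _ ⟨v, rfl⟩
        exact ⟨s v, (hcomm Q v).symm⟩) with h | h
      · right
        rw [hI, RingHom.mem_ker]
        exact LinearMap.range_eq_bot.mp h
      · left
        rw [hI, RingHom.mem_ker]
        apply LinearMap.ext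
        intro v
        have hv : v ∈ LinearMap.range (φ Q) := by rw [h]; trivial
        obtain ⟨w, rfl⟩ := hv
        have := congrArg (fun f : Module.End (ZMod q) V => f w) hPQ'
        simpa using this
  -- the quotient field
  let K := (ZMod q)[X] ⧸ I
  have hKdom : IsDomain K := Ideal.Quotient.isDomain I
  let ψ : K →+* Module.End (ZMod q) V := RingHom.kerLift (φ : (ZMod q)[X] →+* Module.End (ZMod q) V)
  have hψinj : Function.Injective ψ := RingHom.kerLift_injective _
  have hEndfin : Finite (Module.End (ZMod q) V) :=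
    Finite.of_injective (fun f : Module.End (ZMod q) V => (f : V → V)) DFunLike.coe_injective
  have hKfin : Finite K := Finite.of_injective ψ hψinj
  -- every element of K is a root of X^(q^e) - X
  have hroot : ∀ k : K, k ^ q ^ e = k := by
    intro k
    obtain ⟨P, rfl⟩ := Ideal.Quotient.mk_surjective k
    rw [← map_pow, Ideal.Quotient.eq, hI, RingHom.mem_ker, map_sub]
    exact sub_eq_zero.mpr (step1 P)
  have hcardK : Nat.card K ≤ q ^ e := by
    letI := Fintype.ofFinite K
    rw [Nat.card_eq_fintype_card]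
    have hN : 1 < q ^ e := Nat.one_lt_pow he hq.one_lt
    have hmonic : (X ^ q ^ e - X : K[X]).Monic := by
      apply monic_X_pow_sub
      rw [degree_X]
      exact_mod_cast hN
    have hne : (X ^ q ^ e - X : K[X]) ≠ 0 := hmonic.ne_zero
    have hsub : (Finset.univ : Finset K).val ⊆ (X ^ q ^ e - X : K[X]).roots := by
      intro k _
      rw [mem_roots hne, IsRoot, eval_sub, eval_pow, eval_X, hroot k, sub_self]
    have h1 := card_le_degree_of_subset_roots hsub
    have h2 : (X ^ q ^ e - X : K[X]).natDegree ≤ q ^ e := by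
      refine (natDegree_sub_le _ _).trans ?_
      rw [natDegree_X_pow, natDegree_X]
      exact max_le le_rfl hN.le
    exact h1.trans h2
  -- V is a quotient of K
  obtain ⟨v₀, hv₀⟩ := exists_ne (0 : V)
  have hW : ∀ v : V, ∃ P : (ZMod q)[X], φ P v₀ = v := by
    let W : Submodule (ZMod q) V :=
      LinearMap.range ((LinearMap.applyₗ v₀).comp φ.toLinearMap)
    have hmemW : ∀ v : V, v ∈ W ↔ ∃ P : (ZMod q)[X], φ P v₀ = v := by
      intro v
      constructor
      · rintro ⟨P, rfl⟩; exact ⟨P, rfl⟩
      · rintro ⟨P, rfl⟩; exact ⟨P, rfl⟩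
    rcases hirr W (by
      intro v hv
      obtain ⟨P, rfl⟩ := (hmemW v).mp hv
      exact (hmemW _).mpr ⟨X * P, by rw [map_mul, hφX]; rfl⟩) with h | h
    · exfalso
      apply hv₀
      have : v₀ ∈ W := (hmemW v₀).mpr ⟨1, by simp⟩
      rw [h] at this
      exact (Submodule.mem_bot _).mp this
    · intro v
      exact (hmemW v).mp (by rw [h]; trivial)
  have hsurj : Function.Surjective (fun k : K => ψ k v₀) := by
    intro v
    obtain ⟨P, hP⟩ := hW v
    refine ⟨Ideal.Quotient.mk I P, ?_⟩
    have h1 : ψ (Ideal.Quotient.mk I P) = φ P := RingHom.kerLift_mk _ P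
    change ψ (Ideal.Quotient.mk I P) v₀ = v
    rw [h1, hP]
  exact (Nat.card_le_card_of_surjective _ hsurj).trans hcardK

end Cfsg.Agent.Helper64
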