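import Mathlib
import Cfsg.Agent.Helper64.Module

set_option autoImplicit false

namespace Cfsg.Agent.Helper64

variable {G : Type*} [Group G]

/-- a group generated by two subgroups which are commutative and commute elementwise is
commutative -/
theorem comm_of_gen (H₁ H₂ : Subgroup G) (h : H₁ ⊔ H₂ = ⊤)
    (h11 : ∀ a ∈ H₁, ∀ b ∈ H₁, a * b = b * a) (h12 : ∀ a ∈ H₁, ∀ b ∈ H₂, a * b = b * a)
    (h22 : ∀ a ∈ H₂, ∀ b ∈ H₂, a * b = b * a) : ∀ p q : G, p * q = q * p := by
  have key : ∀ p : G, (∀ a ∈ H₁, a * p = p * a) → (∀ b ∈ H₂, b * p = p * b) →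
      ∀ q : G, q * p = p * q := by
    intro p hp1 hp2 q
    have : (⊤ : Subgroup G) ≤ Subgroup.centralizer ({p} : Set G) := by
      rw [← h, sup_le_iff]
      constructor
      · intro a ha
        rw [Subgroup.mem_centralizer_iff]
        intro y hy
        rw [Set.mem_singleton_iff] at hy
        subst hy
        exact (hp1 a ha).symm
      · intro b hb
        rw [Subgroup.mem_centralizer_iff]
        intro y hy
        rw [Set.mem_singleton_iff] at hy
        subst hy
        exact (hp2 b hb).symm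
    have hq := this (Subgroup.mem_top q)
    rw [Subgroup.mem_centralizer_iff] at hq
    exact (hq p (Set.mem_singleton p)).symm
  have s1 : ∀ a ∈ H₁, ∀ q : G, q * a = a * q := fun a ha =>
    key a (fun a' ha' => h11 a' ha' a ha) (fun b hb => (h12 a ha b hb).symm)
  have s2 : ∀ b ∈ H₂, ∀ q : G, q * b = b * q := fun b hb =>
    key b (fun a ha => h12 a ha b hb) (fun b' hb' => h22 b' hb' b hb)
  intro p q
  exact (key p (fun a ha => (s1 a ha p).symm) (fun b hb => (s2 b hb p).symm) q).symm

/-- if `x` commutes with a commutative subgroup `A` and `A ⊔ ⟨x⟩ = ⊤` then `G` is commutative -/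
theorem comm_of_gen_zpowers (A : Subgroup G) (x : G) (h : A ⊔ Subgroup.zpowers x = ⊤)
    (hA : ∀ a ∈ A, ∀ b ∈ A, a * b = b * a) (hx : ∀ a ∈ A, x * a = a * x) :
    ∀ a b : G, a * b = b * a := by
  apply comm_of_gen A (Subgroup.zpowers x) h hA
  · intro a ha b hb
    obtain ⟨n, rfl⟩ := Subgroup.mem_zpowers_iff.mp hb
    exact ((Commute.zpow_right (hx a ha).symm n)).eq
  · intro a ha b hb
    obtain ⟨n, rfl⟩ := Subgroup.mem_zpowers_iff.mp hb
    obtain ⟨m, rfl⟩ := Subgroup.mem_zpowers_iff.mp ha
    rw [← zpow_add, ← zpow_add, add_comm]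

/-- a subgroup of prime index is maximal -/
theorem eq_top_of_index_prime [Finite G] {p : ℕ} (hp : p.Prime) (A : Subgroup G)
    (hidx : A.index = p) {H : Subgroup G} (hAH : A ≤ H) {x : G} (hxH : x ∈ H) (hxA : x ∉ A) :
    H = ⊤ := by
  have h1 : H.index ∣ p := hidx ▸ Subgroup.index_dvd_of_le hAH
  rcases (Nat.dvd_prime hp).mp h1 with h | h
  · exact Subgroup.index_eq_one.mp h
  · exfalso
    have : A = H := by
      apply Subgroup.eq_of_le_of_card_ge hAH
      have e1 := Subgroup.card_mul_index H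
      have e2 := Subgroup.card_mul_index A
      rw [h] at e1; rw [hidx] at e2
      have : Nat.card H = Nat.card A := Nat.eq_of_mul_eq_mul_right hp.pos (e1.trans e2.symm)
      exact this.le
    exact hxA (this ▸ hxH)

/-- a subgroup normalized by `A` (abelian, containing it) and by `x` is normal when
`A ⊔ ⟨x⟩ = ⊤`; here `x` has finite order. -/
theorem normal_of_conj_mem [Finite G] (A : Subgroup G) (x : G) (hgen : A ⊔ Subgroup.zpowers x = ⊤)
    (hAc : ∀ a ∈ A, ∀ b ∈ A, a * b = b * a) (B : Subgroup G) (hBA : B ≤ A)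
    (hB : ∀ b ∈ B, x * b * x⁻¹ ∈ B) : B.Normal := by
  rw [← Subgroup.normalizer_eq_top_iff, eq_top_iff, ← hgen, sup_le_iff]
  constructor
  · intro a ha
    rw [Subgroup.mem_normalizer_iff]
    intro h
    constructor
    · intro hh
      rw [hAc a ha h (hBA hh), mul_inv_cancel_right]; exact hh
    · intro hh
      have hhA : h ∈ A := by
        have := A.mul_mem (A.mul_mem (A.inv_mem ha) (hBA hh)) ha
        simpa [mul_assoc] using this
      rw [hAc a ha h hhA, mul_inv_cancel_right] at hh; exact hh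
  · rw [Subgroup.zpowers_le, Subgroup.mem_normalizer_iff]
    intro h
    refine ⟨hB h, fun hh => ?_⟩
    have hpow : ∀ n : ℕ, ∀ b ∈ B, x ^ n * b * (x ^ n)⁻¹ ∈ B := by
      intro n
      induction n with
      | zero => intro b hb; simpa using hb
      | succ n ih =>
        intro b hb
        have := hB _ (ih b hb)
        have e : x ^ (n + 1) * b * (x ^ (n + 1))⁻¹ = x * (x ^ n * b * (x ^ n)⁻¹) * x⁻¹ := by
          rw [pow_succ']; group
        rw [e]; exact this
    have hpos : 0 < orderOf x := orderOf_pos x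
    have := hpow (orderOf x - 1) _ hh
    have e : x ^ (orderOf x - 1) * (x * h * x⁻¹) * (x ^ (orderOf x - 1))⁻¹ = h := by
      have e1 : x ^ (orderOf x - 1) * x = 1 := by
        rw [← pow_succ, Nat.sub_add_cancel hpos, pow_orderOf_eq_one]
      calc x ^ (orderOf x - 1) * (x * h * x⁻¹) * (x ^ (orderOf x - 1))⁻¹
          = (x ^ (orderOf x - 1) * x) * h * (x ^ (orderOf x - 1) * x)⁻¹ := by group
        _ = h := by rw [e1]; simp
    rwa [e] at this

theorem card_of_irreducible_aut_aux {A : Type*} [CommGroup A] [Finite A] {p q : ℕ} [Fact p.Prime]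
    [Fact q.Prime] [Module (ZMod q) (Additive A)] (hpq : q ≠ p) (σ : MulAut A) (hσ : σ ^ p = 1) (hAq : ∀ a : A, a ^ q = 1)
    (hfix : ∀ a : A, σ a = a → a = 1) (hnt : ∃ a : A, a ≠ 1)
    (hirr : ∀ B : Subgroup A, (∀ b ∈ B, σ b ∈ B) → B = ⊥ ∨ B = ⊤) :
    Nat.card A = q ^ orderOf (q : ZMod p) := by
  classical
  have hp : p.Prime := Fact.out
  have hq : q.Prime := Fact.out
  obtain ⟨a₀, ha₀1⟩ := hnt
  have hntv : Nontrivial (Additive A) :=
    ⟨⟨Additive.ofMul a₀, 0, fun h => ha₀1 (congrArg (fun v => (Additive.toMul v : A)) h)⟩⟩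
  let s : Module.End (ZMod q) (Additive A) :=
    (MonoidHom.toAdditive σ.toMonoidHom).toZModLinearMap q
  have hs_apply : ∀ v : Additive A, s v = Additive.ofMul (σ (Additive.toMul v)) := fun v => rfl
  have hs_iter : ∀ n : ℕ, ∀ v : Additive A,
      (s ^ n) v = Additive.ofMul ((σ ^ n) (Additive.toMul v)) := by
    intro n
    induction n with
    | zero => intro v; simp
    | succ n ih =>
      intro v
      rw [pow_succ', Module.End.mul_apply, ih, hs_apply, pow_succ']
      rfl
  have hs : s ^ p = 1 := by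
    apply LinearMap.ext
    intro v
    rw [hs_iter, hσ]
    rfl
  -- irreducibility
  have hirr' : ∀ W : Submodule (ZMod q) (Additive A), (∀ v ∈ W, s v ∈ W) → W = ⊥ ∨ W = ⊤ := by
    intro W hW
    let B : Subgroup A :=
      { carrier := {g | Additive.ofMul g ∈ W}
        one_mem' := W.zero_mem
        mul_mem' := fun ha hb => W.add_mem ha hb
        inv_mem' := fun ha => W.neg_mem ha }
    rcases hirr B (fun b hb => hW _ hb) with h | h
    · left
      rw [eq_bot_iff]
      intro v hv
      have h1 : (Additive.toMul v : A) ∈ B := hv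
      rw [h, Subgroup.mem_bot] at h1
      exact (Submodule.mem_bot _).mpr (congrArg Additive.ofMul h1)
    · right
      rw [eq_top_iff]
      intro v _
      have h1 : (Additive.toMul v : A) ∈ B := by rw [h]; exact Subgroup.mem_top _
      exact h1
  -- q ^ e ≡ 1 mod p
  have hq0 : (q : ZMod p) ≠ 0 := by
    intro h
    rw [ZMod.natCast_eq_zero_iff] at h
    exact hpq ((Nat.prime_dvd_prime_iff_eq hp hq).mp h).symm
  set e := orderOf (q : ZMod p) with he
  have he0 : e ≠ 0 := by
    intro h0
    have := ZMod.orderOf_dvd_card_sub_one hq0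
    rw [← he, h0, zero_dvd_iff] at this
    have := hp.two_le
    omega
  have hqe : q ^ e ≡ 1 [MOD p] := by
    rw [← ZMod.natCast_eq_natCast_iff, Nat.cast_pow, Nat.cast_one, he, pow_orderOf_eq_one]
  have hupper : Nat.card A ≤ q ^ e := by
    have := card_le_of_irreducible s hs hqe he0 hirr'
    rwa [Nat.card_congr (Additive.toMul : Additive A ≃ A)] at this
  -- lower bound
  have hAp : IsPGroup q A := fun a => ⟨1, by simpa using hAq a⟩
  obtain ⟨d, hd⟩ := hAp.exists_card_eq
  have hmod : Nat.card A ≡ 1 [MOD p] := by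
    have hS : IsPGroup p (Subgroup.zpowers σ) := by
      have hdvd : orderOf σ ∣ p ^ 1 := by rw [pow_one]; exact orderOf_dvd_of_pow_eq_one hσ
      obtain ⟨l, -, hl⟩ := (Nat.dvd_prime_pow hp).mp hdvd
      exact IsPGroup.of_card (n := l) (by rw [Nat.card_zpowers, hl])
    have h1 := hS.card_modEq_card_fixedPoints A
    have h2 : Nat.card (MulAction.fixedPoints (Subgroup.zpowers σ) A) = 1 := by
      rw [Nat.card_eq_one_iff_unique]
      refine ⟨⟨?_⟩, ⟨⟨1, fun g => ?_⟩⟩⟩
      · rintro ⟨a, ha⟩ ⟨b, hb⟩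
        have ha1 : a = 1 := hfix a (ha ⟨σ, Subgroup.mem_zpowers σ⟩)
        have hb1 : b = 1 := hfix b (hb ⟨σ, Subgroup.mem_zpowers σ⟩)
        simp [ha1, hb1]
      · exact map_one (g : MulAut A)
    rwa [h2] at h1
  have hdvd : e ∣ d := by
    rw [he]
    apply orderOf_dvd_of_pow_eq_one
    have : ((q ^ d : ℕ) : ZMod p) = ((1 : ℕ) : ZMod p) := by
      rw [ZMod.natCast_eq_natCast_iff, ← hd]; exact hmod
    simpa using this
  have hd0 : d ≠ 0 := by
    intro h0
    rw [h0, pow_zero] at hd
    have hsub := (Nat.card_eq_one_iff_unique.mp hd).1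
    exact ha₀1 (Subsingleton.elim _ _)
  have hed : e ≤ d := Nat.le_of_dvd (Nat.pos_of_ne_zero hd0) hdvd
  apply le_antisymm hupper
  rw [hd]
  exact Nat.pow_le_pow_right hq.pos hed

/-- **Irreducible action of an automorphism of prime order.** -/
theorem card_of_irreducible_aut {A : Type*} [CommGroup A] [Finite A] {p q : ℕ} [Fact p.Prime]
    [Fact q.Prime] (hpq : q ≠ p) (σ : MulAut A) (hσ : σ ^ p = 1) (hAq : ∀ a : A, a ^ q = 1)
    (hfix : ∀ a : A, σ a = a → a = 1) (hnt : ∃ a : A, a ≠ 1)
    (hirr : ∀ B : Subgroup A, (∀ b ∈ B, σ b ∈ B) → B = ⊥ ∨ B = ⊤) :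
    Nat.card A = q ^ orderOf (q : ZMod p) := by
  have hqsmul : ∀ v : Additive A, q • v = 0 := by
    intro v
    exact congrArg Additive.ofMul (hAq (Additive.toMul v))
  letI : Module (ZMod q) (Additive A) := AddCommGroup.zmodModule hqsmul
  exact card_of_irreducible_aut_aux hpq σ hσ hAq hfix hnt hirr

/-- the commutative group structure on a subgroup whose elements commute -/
@[reducible] def commGroupOfComm (A : Subgroup G) (hAc : ∀ a ∈ A, ∀ b ∈ A, a * b = b * a) :
    CommGroup A :=
  { (inferInstance : Group A) with mul_comm := fun a b => Subtype.ext (hAc a a.2 b b.2) }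

/-- **The order of a minimal normal subgroup of prime index.** Let `A` be a normal elementary
abelian `q`-subgroup of index `p ≠ q` of the non-abelian finite group `G`, minimal normal in `G`.
Then `A` has order `q ^ e`, `e` the multiplicative order of `q` modulo `p`. -/
theorem card_of_minimal_normal_index_prime [Finite G] {p q : ℕ} [Fact p.Prime] (hq : q.Prime)
    (hpq : q ≠ p) (hna : ¬ ∀ a b : G, a * b = b * a) (A : Subgroup G) [A.Normal]
    (hAc : ∀ a ∈ A, ∀ b ∈ A, a * b = b * a) (hAq : ∀ a ∈ A, a ^ q = 1) (hidx : A.index = p)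
    (hmin : ∀ B : Subgroup G, B.Normal → B ≤ A → B = ⊥ ∨ B = A) :
    Nat.card A = q ^ orderOf (q : ZMod p) := by
  classical
  have hp : p.Prime := Fact.out
  have hqf : Fact q.Prime := ⟨hq⟩
  have hpG : p ∣ Nat.card G := hidx ▸ A.index_dvd_card
  obtain ⟨x, hx⟩ := exists_prime_orderOf_dvd_card' p hpG
  have hxp : x ^ p = 1 := by rw [← hx]; exact pow_orderOf_eq_one x
  have hxA : x ∉ A := by
    intro h
    have := orderOf_dvd_of_pow_eq_one (hAq x h)
    rw [hx] at this
    exact hpq ((Nat.prime_dvd_prime_iff_eq hp hq).mp this).symm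
  have hgen : A ⊔ Subgroup.zpowers x = ⊤ :=
    eq_top_of_index_prime hp A hidx le_sup_left
      (Subgroup.mem_sup_right (Subgroup.mem_zpowers x)) hxA
  have hxc : ¬ ∀ a ∈ A, x * a = a * x := fun h => hna (comm_of_gen_zpowers A x hgen hAc h)
  have hinv : ∀ B : Subgroup G, B ≤ A → (∀ b ∈ B, x * b * x⁻¹ ∈ B) → B = ⊥ ∨ B = A :=
    fun B hBA hB => hmin B (normal_of_conj_mem A x hgen hAc B hBA hB) hBA
  -- fixed points are trivial
  have hfix : ∀ a ∈ A, x * a * x⁻¹ = a → a = 1 := by
    intro a ha hxa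
    have hstab : ∀ b ∈ A ⊓ Subgroup.centralizer ({x} : Set G),
        x * b * x⁻¹ ∈ A ⊓ Subgroup.centralizer ({x} : Set G) := by
      intro b hb
      have hbC : b ∈ Subgroup.centralizer ({x} : Set G) := (Subgroup.mem_inf.mp hb).2
      have hbC' := (Subgroup.mem_centralizer_iff.mp hbC) x rfl
      have : x * b * x⁻¹ = b := by rw [hbC']; group
      rw [this]
      exact hb
    rcases hinv (A ⊓ Subgroup.centralizer ({x} : Set G)) inf_le_left hstab with h | h
    · have hmem : a ∈ A ⊓ Subgroup.centralizer ({x} : Set G) := by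
        refine Subgroup.mem_inf.mpr ⟨ha, ?_⟩
        rw [Subgroup.mem_centralizer_iff]
        intro y hy
        rw [Set.mem_singleton_iff] at hy
        subst hy
        calc y * a = (y * a * y⁻¹) * y := by group
          _ = a * y := by rw [hxa]
      rw [h] at hmem
      exact Subgroup.mem_bot.mp hmem
    · exfalso
      apply hxc
      intro b hb
      have hmem : b ∈ A ⊓ Subgroup.centralizer ({x} : Set G) := by rw [h]; exact hb
      exact (Subgroup.mem_centralizer_iff.mp (Subgroup.mem_inf.mp hmem).2) x rfl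
  -- A is nontrivial
  have hAnt : ∃ a ∈ A, a ≠ 1 := by
    by_contra hcon
    push Not at hcon
    apply hxc
    intro a ha
    rw [hcon a ha]; simp
  obtain ⟨a₀, ha₀, ha₀1⟩ := hAnt
  refine @card_of_irreducible_aut A (commGroupOfComm A hAc) _ p q _ hqf hpq
    (MulAut.conjNormal x : MulAut A) ?_ ?_ ?_ ?_ ?_
  · rw [← map_pow, hxp, map_one]
  · intro a
    exact Subtype.ext (by simpa using hAq a a.2)
  · intro a ha
    apply Subtype.ext
    apply hfix a a.2
    have := congrArg Subtype.val ha
    simpa using this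
  · exact ⟨⟨a₀, ha₀⟩, fun h => ha₀1 (congrArg Subtype.val h)⟩
  · intro B hB
    have hBA : B.map A.subtype ≤ A := by
      rintro _ ⟨b, -, rfl⟩
      exact b.2
    rcases hinv (B.map A.subtype) hBA (by
      rintro _ ⟨b, hb, rfl⟩
      refine ⟨(MulAut.conjNormal x : MulAut A) b, hB b hb, ?_⟩
      simp) with h | h
    · left
      rw [eq_bot_iff]
      intro b hb
      have h1 : (b : G) ∈ B.map A.subtype := ⟨b, hb, rfl⟩
      rw [h, Subgroup.mem_bot] at h1
      exact Subgroup.mem_bot.mpr (Subtype.ext h1)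
    · right
      rw [eq_top_iff]
      intro b _
      have h1 : (b : G) ∈ B.map A.subtype := by rw [h]; exact b.2
      obtain ⟨b', hb', hbb⟩ := h1
      have : b' = b := Subtype.ext hbb
      exact this ▸ hb'

end Cfsg.Agent.Helper64
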