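import Mathlib
import Cfsg.Agent.Helper64.MinNormal

set_option autoImplicit false

namespace Cfsg.Agent.Helper64

variable {G : Type*} [Group G]

/-- in a `p`-group every Sylow `p`-subgroup is everything -/
theorem sylow_eq_top_of_isPGroup {p : ℕ} (h : IsPGroup p G) (P : Sylow p G) :
    (P : Subgroup G) = ⊤ := by
  have h1 : IsPGroup p (⊤ : Subgroup G) := h.to_subgroup _
  exact (P.is_maximal' h1 le_top).symm

/-- in a `p`-group every Sylow `p`-subgroup is normal -/
theorem sylow_normal_of_isPGroup {p : ℕ} (h : IsPGroup p G) (P : Sylow p G) :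
    (P : Subgroup G).Normal := by
  rw [sylow_eq_top_of_isPGroup h P]
  infer_instance

/-- a group of order dividing the prime `p` has normal Sylow `p`-subgroups -/
theorem sylow_normal_of_card_dvd_prime [Finite G] {p : ℕ} (hp : p.Prime) (h : Nat.card G ∣ p)
    (P : Sylow p G) : (P : Subgroup G).Normal := by
  apply sylow_normal_of_isPGroup
  rcases (Nat.dvd_prime hp).mp h with h1 | h1
  · exact IsPGroup.of_card (n := 0) (by rw [h1, pow_zero])
  · exact IsPGroup.of_card (n := 1) (by rw [h1, pow_one])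

/-- in a `q`-group the Sylow `p`-subgroups are trivial for `p ≠ q` -/
theorem sylow_eq_bot_of_isPGroup_ne {p q : ℕ} [Fact p.Prime] [Fact q.Prime] (hpq : q ≠ p)
    (h : IsPGroup q G) (P : Sylow p G) : (P : Subgroup G) = ⊥ := by
  have h1 : IsPGroup q (P : Subgroup G) := h.to_subgroup _
  have h2 : IsPGroup p (P : Subgroup G) := P.isPGroup'
  have := IsPGroup.disjoint_of_ne q p hpq (P : Subgroup G) (P : Subgroup G) h1 h2
  exact disjoint_self.mp this

/-- in a `q`-group the Sylow `p`-subgroups are normal for `p ≠ q` -/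
theorem sylow_normal_of_isPGroup_ne {p q : ℕ} [Fact p.Prime] [Fact q.Prime] (hpq : q ≠ p)
    (h : IsPGroup q G) (P : Sylow p G) : (P : Subgroup G).Normal := by
  rw [sylow_eq_bot_of_isPGroup_ne hpq h P]
  infer_instance

/-- a normal subgroup meeting trivially a commutative normal subgroup `A` of prime index
is trivial, when `G` is not commutative -/
theorem eq_bot_of_normal_of_inf_eq_bot [Finite G] {p : ℕ} (hp : p.Prime)
    (hna : ¬ ∀ a b : G, a * b = b * a) (A : Subgroup G) [A.Normal]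
    (hAc : ∀ a ∈ A, ∀ b ∈ A, a * b = b * a) (hidx : A.index = p)
    (N : Subgroup G) [N.Normal] (hNA : N ⊓ A = ⊥) : N = ⊥ := by
  by_contra hN
  obtain ⟨y, hyN, hy1⟩ := (Subgroup.ne_bot_iff_exists_ne_one (H := N)).mp hN |> fun ⟨⟨y, hy⟩, h⟩ =>
    (⟨y, hy, fun h' => h (Subtype.ext h')⟩ : ∃ y : G, y ∈ N ∧ y ≠ 1)
  have hyA : y ∉ A := by
    intro h
    have : y ∈ N ⊓ A := Subgroup.mem_inf.mpr ⟨hyN, h⟩
    rw [hNA, Subgroup.mem_bot] at this
    exact hy1 this
  have hgen : A ⊔ Subgroup.zpowers y = ⊤ :=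
    eq_top_of_index_prime hp A hidx le_sup_left
      (Subgroup.mem_sup_right (Subgroup.mem_zpowers y)) hyA
  apply hna
  apply comm_of_gen_zpowers A y hgen hAc
  intro a ha
  have h1 : y * a * y⁻¹ * a⁻¹ ∈ N ⊓ A := by
    refine Subgroup.mem_inf.mpr ⟨?_, ?_⟩
    · have : y * (a * y⁻¹ * a⁻¹) ∈ N :=
        N.mul_mem hyN (‹N.Normal›.conj_mem _ (N.inv_mem hyN) a)
      simpa [mul_assoc] using this
    · exact A.mul_mem (‹A.Normal›.conj_mem a ha y) (A.inv_mem ha)
  rw [hNA, Subgroup.mem_bot] at h1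
  calc y * a = (y * a * y⁻¹ * a⁻¹) * (a * y) := by group
    _ = a * y := by rw [h1, one_mul]

end Cfsg.Agent.Helper64
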