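import Mathlib
import Cfsg.Agent.Helper64.PClosed
import Cfsg.Agent.Helper64.Index
import Cfsg.Agent.Helper64.Basic

set_option autoImplicit false

namespace Cfsg.Agent.Helper64

variable {G : Type*} [Group G]

/-- a nontrivial normal subgroup contains a minimal normal subgroup -/
theorem exists_minimal_normal_le [Finite G] (N₀ : Subgroup G) (hn : N₀.Normal) (h : N₀ ≠ ⊥) :
    ∃ N : Subgroup G, N.Normal ∧ N ≠ ⊥ ∧ N ≤ N₀ ∧
      ∀ B : Subgroup G, B.Normal → B ≤ N → B = ⊥ ∨ B = N := by
  have hwf : WellFounded ((· < ·) : Subgroup G → Subgroup G → Prop) := wellFounded_lt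
  obtain ⟨N, ⟨hN1, hN2, hN3⟩, hmin⟩ := hwf.has_min {B : Subgroup G | B.Normal ∧ B ≠ ⊥ ∧ B ≤ N₀}
    ⟨N₀, hn, h, le_rfl⟩
  refine ⟨N, hN1, hN2, hN3, fun B hB hBN => ?_⟩
  by_cases hB0 : B = ⊥
  · exact Or.inl hB0
  · right
    have := hmin B ⟨hB, hB0, hBN.trans hN3⟩
    exact eq_of_le_of_not_lt hBN this

/-- a nontrivial non-simple group has a proper nontrivial normal subgroup -/
theorem exists_normal_ne_bot_ne_top [Nontrivial G] (hns : ¬ IsSimpleGroup G) :
    ∃ N : Subgroup G, N.Normal ∧ N ≠ ⊥ ∧ N ≠ ⊤ := by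
  by_contra hcon
  push Not at hcon
  apply hns
  refine ⟨fun H hH => ?_⟩
  by_cases h : H = ⊥
  · exact Or.inl h
  · exact Or.inr (hcon H hH h)

/-- a `p`-subgroup meets a subgroup of order prime to `p` trivially -/
theorem inf_eq_bot_of_isPGroup_of_not_dvd [Finite G] {p : ℕ} [Fact p.Prime] {R N : Subgroup G}
    (hR : IsPGroup p R) (hN : ¬ p ∣ Nat.card N) : R ⊓ N = ⊥ := by
  have h1 : IsPGroup p (R ⊓ N : Subgroup G) := hR.to_le inf_le_left
  rcases h1.card_eq_or_dvd with h | h
  · exact Subgroup.card_eq_one.mp h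
  · exact absurd (h.trans (Subgroup.card_dvd_of_le inf_le_right)) hN

/-- the image in `G` of a normal Sylow subgroup of a normal subgroup is normal -/
theorem map_sylow_normal_of_normal [Finite G] {p : ℕ} [Fact p.Prime] (M : Subgroup G) [M.Normal]
    (Q : Sylow p M) (h : (Q : Subgroup M).Normal) : ((Q : Subgroup M).map M.subtype).Normal := by
  haveI := Sylow.characteristic_of_normal Q h
  exact ConjAct.normal_of_characteristic_of_normal

/-- a Sylow subgroup of `G` inside a normal subgroup with normal Sylow subgroups is normal -/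
theorem sylow_normal_of_le_normal [Finite G] {p : ℕ} [Fact p.Prime] (P : Sylow p G)
    (M : Subgroup G) [M.Normal] (hPM : (P : Subgroup G) ≤ M)
    (hM : ∀ Q : Sylow p M, (Q : Subgroup M).Normal) : (P : Subgroup G).Normal := by
  have := map_sylow_normal_of_normal M (P.subtype hPM) (hM _)
  rwa [Sylow.coe_subtype, Subgroup.map_subgroupOf_eq_of_le hPM] at this

/-- if the Sylow subgroups of `G ⧸ K` are normal then `P ⊔ K` is normal, `P` a Sylow subgroup -/
theorem sup_normal_of_quotient_sylow_normal [Finite G] {p : ℕ} [Fact p.Prime] (P : Sylow p G)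
    (K : Subgroup G) [K.Normal] (hK : ∀ S : Sylow p (G ⧸ K), (S : Subgroup (G ⧸ K)).Normal) :
    ((P : Subgroup G) ⊔ K).Normal := by
  have h1 := hK (P.mapSurjective (QuotientGroup.mk'_surjective K))
  rw [Sylow.coe_mapSurjective] at h1
  have h2 := h1.comap (QuotientGroup.mk' K)
  rwa [QuotientGroup.comap_map_mk', sup_comm] at h2

/-- the image of a normal subgroup of `H` is normalized by `H` -/
theorem le_normalizer_map_subtype (H : Subgroup G) (S : Subgroup H) [S.Normal] :
    H ≤ Subgroup.normalizer ((S.map H.subtype : Subgroup G) : Set G) := by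
  have h1 := Subgroup.le_normalizer_map (H := S) H.subtype
  rw [Subgroup.normalizer_eq_top, ← MonoidHom.range_eq_map, Subgroup.range_subtype] at h1
  exact h1

/-- a `p`-subgroup `R` normalizes a Sylow `q`-subgroup of the normal subgroup `N` of order
prime to `p` -/
theorem exists_sylow_normalized [Finite G] {p : ℕ} [Fact p.Prime] {R : Subgroup G}
    (hR : IsPGroup p R) (N : Subgroup G) [N.Normal] (hpN : ¬ p ∣ Nat.card N) (q : ℕ)
    [Fact q.Prime] :
    ∃ Q : Subgroup G, Q ≤ N ∧ IsPGroup q Q ∧ Nat.card Q = q ^ (Nat.card N).factorization q ∧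
      R ≤ Subgroup.normalizer (Q : Set G) := by
  obtain ⟨Q₀⟩ := (inferInstance : Nonempty (Sylow q N))
  set Q : Subgroup G := (Q₀ : Subgroup N).map N.subtype with hQ
  have hfr : Subgroup.normalizer (Q : Set G) ⊔ N = ⊤ := Sylow.normalizer_sup_eq_top Q₀
  have hidx : ¬ p ∣ (Subgroup.normalizer (Q : Set G)).index := by
    have h1 : (Subgroup.normalizer (Q : Set G)).index =
        (Subgroup.normalizer (Q : Set G)).relIndex N := by
      rw [← relIndex_sup_of_normal, hfr, Subgroup.relIndex_top_right]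
    rw [h1]
    exact fun h => hpN (h.trans (Subgroup.relIndex_dvd_card _ _))
  obtain ⟨g, hg⟩ := exists_conj_le_of_not_dvd_index hR _ hidx
  refine ⟨Q.map (MulAut.conj g).toMonoidHom, ?_, ?_, ?_, ?_⟩
  · rintro _ ⟨x, hx, rfl⟩
    obtain ⟨y, -, rfl⟩ := hx
    exact ‹N.Normal›.conj_mem _ y.2 g
  · exact (Q₀.isPGroup'.map N.subtype).map _
  · rw [card_map_conj, hQ, Subgroup.card_map_of_injective N.subtype_injective,
      Sylow.card_eq_multiplicity]
  · rw [← Subgroup.map_equiv_normalizer_eq]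
    exact hg

/-- a subgroup of `N` containing, for every prime `q`, a subgroup of the order of a Sylow
`q`-subgroup of `N`, is `N` -/
theorem eq_of_forall_prime_card [Finite G] {C N : Subgroup G} (hCN : C ≤ N)
    (h : ∀ q : ℕ, q.Prime → q ∣ Nat.card N →
      ∃ Q : Subgroup G, Q ≤ C ∧ Nat.card Q = q ^ (Nat.card N).factorization q) : C = N := by
  apply Subgroup.eq_of_le_of_card_ge hCN
  apply Nat.le_of_dvd Nat.card_pos
  rw [← Nat.factorization_prime_le_iff_dvd Nat.card_pos.ne' Nat.card_pos.ne']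
  intro q hq
  by_cases hqN : q ∣ Nat.card N
  · obtain ⟨Q, hQC, hQ⟩ := h q hq hqN
    rw [← hq.pow_dvd_iff_le_factorization Nat.card_pos.ne', ← hQ]
    exact Subgroup.card_dvd_of_le hQC
  · rw [Nat.factorization_eq_zero_of_not_dvd hqN]
    exact Nat.zero_le _

/-- two subgroups normalizing each other and meeting trivially commute elementwise -/
theorem commute_of_normalize_of_inf_eq_bot {H K : Subgroup G}
    (hHK : H ≤ Subgroup.normalizer (K : Set G)) (hKH : K ≤ Subgroup.normalizer (H : Set G))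
    (hinf : H ⊓ K = ⊥) : ∀ a ∈ H, ∀ b ∈ K, a * b = b * a := by
  intro a ha b hb
  have h1 : a * b * a⁻¹ * b⁻¹ ∈ H ⊓ K := by
    refine Subgroup.mem_inf.mpr ⟨?_, ?_⟩
    · have h2 : b * a⁻¹ * b⁻¹ ∈ H :=
        (Subgroup.mem_normalizer_iff.mp (hKH hb) a⁻¹).mp (H.inv_mem ha)
      have := H.mul_mem ha h2
      simpa [mul_assoc] using this
    · have h2 : a * b * a⁻¹ ∈ K := (Subgroup.mem_normalizer_iff.mp (hHK ha) b).mp hb
      exact K.mul_mem h2 (K.inv_mem hb)
  rw [hinf, Subgroup.mem_bot] at h1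
  calc a * b = (a * b * a⁻¹ * b⁻¹) * (b * a) := by group
    _ = b * a := by rw [h1, one_mul]

/-- a subgroup stable under conjugation by two subgroups generating `G` is normal -/
theorem normal_of_sup_eq_top {H K : Subgroup G} (h : H ⊔ K = ⊤) (B : Subgroup G)
    (hH : ∀ g ∈ H, ∀ b ∈ B, g * b * g⁻¹ ∈ B) (hK : ∀ g ∈ K, ∀ b ∈ B, g * b * g⁻¹ ∈ B) :
    B.Normal := by
  have key : ∀ L : Subgroup G, (∀ g ∈ L, ∀ b ∈ B, g * b * g⁻¹ ∈ B) →
      L ≤ Subgroup.normalizer (B : Set G) := by
    intro L hL g hg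
    rw [Subgroup.mem_normalizer_iff]
    intro b
    refine ⟨hL g hg b, fun hb => ?_⟩
    have := hL g⁻¹ (L.inv_mem hg) _ hb
    have e : g⁻¹ * (g * b * g⁻¹) * g⁻¹⁻¹ = b := by group
    rwa [e] at this
  rw [← Subgroup.normalizer_eq_top_iff, eq_top_iff, ← h, sup_le_iff]
  exact ⟨key H hH, key K hK⟩

/-- a minimal normal subgroup which is a `q`-group is elementary abelian -/
theorem minimal_normal_pgroup_elementary [Finite G] {q : ℕ} [Fact q.Prime] (N : Subgroup G)
    [N.Normal] (hNq : IsPGroup q N) (hN0 : N ≠ ⊥)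
    (hmin : ∀ B : Subgroup G, B.Normal → B ≤ N → B = ⊥ ∨ B = N) :
    (∀ a ∈ N, ∀ b ∈ N, a * b = b * a) ∧ ∀ a ∈ N, a ^ q = 1 := by
  have hq : q.Prime := Fact.out
  haveI : Nontrivial N := (Subgroup.nontrivial_iff_ne_bot N).mpr hN0
  -- commutative
  have hNc : ∀ a ∈ N, ∀ b ∈ N, a * b = b * a := by
    have hZn : ((Subgroup.center N).map N.subtype).Normal :=
      ConjAct.normal_of_characteristic_of_normal
    have hZle : (Subgroup.center N).map N.subtype ≤ N := by
      rintro _ ⟨z, -, rfl⟩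
      exact z.2
    have hZ0 : (Subgroup.center N).map N.subtype ≠ ⊥ := by
      haveI := hNq.center_nontrivial
      obtain ⟨z, hz⟩ := exists_ne (1 : Subgroup.center N)
      intro h0
      have h1 : ((z : N) : G) ∈ (Subgroup.center N).map N.subtype := ⟨z, z.2, rfl⟩
      rw [h0, Subgroup.mem_bot] at h1
      exact hz (Subtype.ext (Subtype.ext h1))
    rcases hmin _ hZn hZle with h | h
    · exact absurd h hZ0
    · intro a ha b hb
      have h1 : b ∈ (Subgroup.center N).map N.subtype := by rw [h]; exact hb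
      obtain ⟨z, hz, rfl⟩ := h1
      have := (Subgroup.mem_center_iff.mp hz) ⟨a, ha⟩
      exact congrArg Subtype.val this
  refine ⟨hNc, ?_⟩
  let M : Subgroup G :=
    { carrier := {x | x ∈ N ∧ x ^ q = 1}
      mul_mem' := by
        rintro a b ⟨ha, ha'⟩ ⟨hb, hb'⟩
        refine ⟨N.mul_mem ha hb, ?_⟩
        have hc : Commute a b := hNc a ha b hb
        rw [hc.mul_pow, ha', hb', one_mul]
      one_mem' := ⟨N.one_mem, one_pow q⟩
      inv_mem' := by
        rintro a ⟨ha, ha'⟩
        exact ⟨N.inv_mem ha, by rw [inv_pow, ha', inv_one]⟩ }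
  have hMn : M.Normal :=
    ⟨fun x hx g => ⟨‹N.Normal›.conj_mem x hx.1 g, by rw [conj_pow, hx.2]; simp⟩⟩
  have hMN : M ≤ N := fun x hx => hx.1
  have hqN : q ∣ Nat.card N := by
    rcases hNq.card_eq_or_dvd with h | h
    · exact absurd (Subgroup.card_eq_one.mp h) hN0
    · exact h
  obtain ⟨x, hx⟩ := exists_prime_orderOf_dvd_card' q hqN
  have hMne : M ≠ ⊥ := by
    intro h
    have hxM : (x : G) ∈ M := by
      refine ⟨x.2, ?_⟩
      have := pow_orderOf_eq_one x
      rw [hx] at this
      exact_mod_cast congrArg Subtype.val this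
    rw [h, Subgroup.mem_bot] at hxM
    have hx1 : x = 1 := Subtype.ext hxM
    rw [hx1, orderOf_one] at hx
    exact hq.one_lt.ne hx
  rcases hmin M hMn hMN with h | h
  · exact absurd h hMne
  · intro y hy
    rw [← h] at hy
    exact hy.2

/-- **Core of the structure theorems for minimal non-closed groups.** -/
theorem min_non_closed_core [Finite G] {p : ℕ} [Fact p.Prime] (P : Sylow p G) (N : Subgroup G)
    [N.Normal] (h1 : (P : Subgroup G) ⊔ N = ⊤) (h2 : ¬ p ∣ Nat.card N) (hN0 : N ≠ ⊥)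
    (hmin : ∀ B : Subgroup G, B.Normal → B ≤ N → B = ⊥ ∨ B = N)
    (h4 : ¬ (P : Subgroup G).Normal)
    (h5a : ∀ H : Subgroup G, H ≠ ⊤ → (P : Subgroup G) ≤ H →
      H ≤ Subgroup.normalizer ((P : Subgroup G) : Set G))
    (h5b : ∀ H : Subgroup G, H ≠ ⊤ → ∀ y ∈ H, y ^ p = 1 →
      ∃ S : Subgroup G, y ∈ S ∧ IsPGroup p S ∧ H ≤ Subgroup.normalizer (S : Set G))
    (h6 : ∀ C : Subgroup G, C.Normal → C ≤ (P : Subgroup G) → C = ⊥) :
    ∃ q : ℕ, q.Prime ∧ q ≠ p ∧ Nat.card G = p * q ^ orderOf (q : ZMod p) ∧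
      Nat.card N = q ^ orderOf (q : ZMod p) ∧ (∀ a ∈ N, ∀ b ∈ N, a * b = b * a) ∧
      ∀ a ∈ N, a ^ q = 1 := by
  classical
  have hp : p.Prime := Fact.out
  have hPN : (P : Subgroup G) ⊓ N = ⊥ := inf_eq_bot_of_isPGroup_of_not_dvd P.isPGroup' h2
  have hcard : Nat.card G = Nat.card (P : Subgroup G) * Nat.card N := by
    have := card_sup_mul_card_inf (P : Subgroup G) N
    rw [h1, hPN, Subgroup.card_top, Subgroup.card_bot, mul_one] at this
    exact this
  -- `N` is a `q`-group
  have hq : ∃ q : ℕ, q.Prime ∧ IsPGroup q N := by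
    by_contra hcon
    push Not at hcon
    have hC : N ⊓ Subgroup.centralizer ((P : Subgroup G) : Set G) = N := by
      apply eq_of_forall_prime_card inf_le_left
      intro q hq hqN
      haveI : Fact q.Prime := ⟨hq⟩
      obtain ⟨Q, hQN, hQq, hQc, hQP⟩ := exists_sylow_normalized P.isPGroup' N h2 q
      refine ⟨Q, ?_, hQc⟩
      have hQ0 : Q ≠ ⊥ := by
        intro h0
        rw [h0, Subgroup.card_bot] at hQc
        have hk : 0 < (Nat.card N).factorization q :=
          hq.factorization_pos_of_dvd Nat.card_pos.ne' hqN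
        have := Nat.one_lt_pow hk.ne' hq.one_lt
        omega
      have hHtop : (P : Subgroup G) ⊔ Q ≠ ⊤ := by
        intro htop
        have hQn : Q.Normal := by
          rw [← Subgroup.normalizer_eq_top_iff, eq_top_iff, ← htop, sup_le_iff]
          exact ⟨hQP, Subgroup.le_normalizer⟩
        rcases hmin Q hQn hQN with h | h
        · exact hQ0 h
        · exact hcon q hq (h ▸ hQq)
      have hQnP : Q ≤ Subgroup.normalizer ((P : Subgroup G) : Set G) :=
        le_sup_right.trans (h5a _ hHtop le_sup_left)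
      have hPQ : (P : Subgroup G) ⊓ Q = ⊥ := by
        rw [eq_bot_iff, ← hPN]; exact inf_le_inf_left _ hQN
      have hcomm := commute_of_normalize_of_inf_eq_bot hQP hQnP hPQ
      intro b hb
      refine Subgroup.mem_inf.mpr ⟨hQN hb, ?_⟩
      rw [Subgroup.mem_centralizer_iff]
      intro a ha
      exact hcomm a ha b hb
    apply h4
    rw [← Subgroup.normalizer_eq_top_iff, eq_top_iff, ← h1, sup_le_iff]
    refine ⟨Subgroup.le_normalizer, ?_⟩
    intro n hn
    have : n ∈ Subgroup.centralizer ((P : Subgroup G) : Set G) := by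
      rw [← hC] at hn; exact (Subgroup.mem_inf.mp hn).2
    exact Subgroup.centralizer_le_normalizer _ this
  obtain ⟨q, hq, hNq⟩ := hq
  haveI : Fact q.Prime := ⟨hq⟩
  have hqN : q ∣ Nat.card N := by
    rcases hNq.card_eq_or_dvd with h | h
    · exact absurd (Subgroup.card_eq_one.mp h) hN0
    · exact h
  have hqp : q ≠ p := fun h => h2 (h ▸ hqN)
  obtain ⟨hNc, hNe⟩ := minimal_normal_pgroup_elementary N hNq hN0 hmin
  -- the kernel of the action of `P` on `N` is trivial
  have hC0 : (P : Subgroup G) ⊓ Subgroup.centralizer (N : Set G) = ⊥ := by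
    apply h6 _ _ inf_le_left
    apply normal_of_sup_eq_top h1
    · intro g hg c hc
      exact Subgroup.mem_inf.mpr ⟨(P : Subgroup G).mul_mem ((P : Subgroup G).mul_mem hg
        (Subgroup.mem_inf.mp hc).1) ((P : Subgroup G).inv_mem hg),
        (Subgroup.normal_centralizer (H := N)).conj_mem c (Subgroup.mem_inf.mp hc).2 g⟩
    · intro n hn c hc
      have : n * c * n⁻¹ = c := by
        have := (Subgroup.mem_centralizer_iff.mp (Subgroup.mem_inf.mp hc).2) n hn
        rw [this]; group
      rw [this]; exact hc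
  -- an element of order `p`
  have hP0 : (P : Subgroup G) ≠ ⊥ := by
    intro h0
    apply h4
    rw [h0]; infer_instance
  have hpP : p ∣ Nat.card (P : Subgroup G) := by
    rcases P.isPGroup'.card_eq_or_dvd with h | h
    · exact absurd (Subgroup.card_eq_one.mp h) hP0
    · exact h
  obtain ⟨y', hy'⟩ := exists_prime_orderOf_dvd_card' p hpP
  obtain ⟨y, hyP, hyo⟩ : ∃ y : G, y ∈ (P : Subgroup G) ∧ orderOf y = p :=
    ⟨y', y'.2, by rw [Subgroup.orderOf_coe, hy']⟩
  have hyp : y ^ p = 1 := by rw [← hyo]; exact pow_orderOf_eq_one y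
  have hcardP : Nat.card (P : Subgroup G) = p := by
    by_cases htop : Subgroup.zpowers y ⊔ N = ⊤
    · have := card_sup_mul_card_inf (Subgroup.zpowers y) N
      have hinf : Subgroup.zpowers y ⊓ N = ⊥ := by
        rw [eq_bot_iff, ← hPN]
        exact inf_le_inf_right _ (Subgroup.zpowers_le.mpr hyP)
      rw [htop, hinf, Subgroup.card_top, Subgroup.card_bot, mul_one, Nat.card_zpowers, hyo,
        hcard] at this
      exact Nat.eq_of_mul_eq_mul_right Nat.card_pos this
    · exfalso
      obtain ⟨S, hyS, hSp, hSn⟩ :=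
        h5b _ htop y (Subgroup.mem_sup_left (Subgroup.mem_zpowers y)) hyp
      have hSN : S ⊓ N = ⊥ := inf_eq_bot_of_isPGroup_of_not_dvd hSp h2
      have hyc : y ∈ Subgroup.centralizer (N : Set G) := by
        rw [Subgroup.mem_centralizer_iff]
        intro n hn
        have h1' : y * n * y⁻¹ * n⁻¹ ∈ S ⊓ N := by
          refine Subgroup.mem_inf.mpr ⟨?_, ?_⟩
          · have hnS : n ∈ Subgroup.normalizer (S : Set G) := hSn (Subgroup.mem_sup_right hn)
            have h2' : n * y⁻¹ * n⁻¹ ∈ S :=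
              (Subgroup.mem_normalizer_iff.mp hnS y⁻¹).mp (S.inv_mem hyS)
            have := S.mul_mem hyS h2'
            simpa [mul_assoc] using this
          · exact N.mul_mem (‹N.Normal›.conj_mem n hn y) (N.inv_mem hn)
        rw [hSN, Subgroup.mem_bot] at h1'
        calc n * y = (y * n * y⁻¹ * n⁻¹)⁻¹ * (y * n) := by group
          _ = y * n := by rw [h1']; simp
      have hyC : y ∈ (P : Subgroup G) ⊓ Subgroup.centralizer (N : Set G) :=
        Subgroup.mem_inf.mpr ⟨hyP, hyc⟩
      rw [hC0, Subgroup.mem_bot] at hyC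
      rw [hyC, orderOf_one] at hyo
      exact hp.one_lt.ne hyo
  have hidx : N.index = p := by
    have := Subgroup.card_mul_index N
    rw [hcard, hcardP, mul_comm] at this
    exact Nat.eq_of_mul_eq_mul_right Nat.card_pos this
  have hna : ¬ ∀ a b : G, a * b = b * a := by
    intro hab
    apply h4
    exact ⟨fun n hn g => by rw [hab g n, mul_inv_cancel_right]; exact hn⟩
  have hcN := card_of_minimal_normal_index_prime hq hqp hna N hNc hNe hidx hmin
  exact ⟨q, hq, hqp, by rw [hcard, hcardP, hcN], hcN, hNc, hNe⟩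

end Cfsg.Agent.Helper64
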