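import Mathlib
import Cfsg.Agent.Helper64.CycAb2
import Cfsg.Agent.Helper64.MinNonClosed

/-!
Cyclic Sylow `p`-subgroup and abelian `p'`-subgroups: a minimal counterexample to
"normal `p`-complement or normal Sylow `p`-subgroup" is a simple group.
-/

set_option autoImplicit false

namespace Cfsg.Agent.Helper64

open Subgroup

universe u

/-- the hypotheses: cyclic Sylow `p`-subgroups and abelian `p'`-subgroups -/
def CycAbHyp (p : ℕ) (G : Type u) [Group G] : Prop :=
  (∀ P : Sylow p G, IsCyclic (P : Subgroup G)) ∧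
  ∀ H : Subgroup G, (Nat.card H).Coprime p → IsMulCommutative H

/-- the conclusion: a normal `p`-complement or normal Sylow `p`-subgroups -/
def CycAbConcl (p : ℕ) (G : Type u) [Group G] : Prop :=
  Helper70.HasNPC p G ∨ ∀ P : Sylow p G, (P : Subgroup G).Normal

variable {G : Type u} [Group G] [Finite G] {p : ℕ} [hp : Fact p.Prime]

theorem CycAbHyp.subgroup (h : CycAbHyp p G) (H : Subgroup G) : CycAbHyp p H := by
  refine ⟨fun S => ?_, fun K hK => ?_⟩
  · have hpg : IsPGroup p ((S : Subgroup H).map H.subtype) := S.isPGroup'.map _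
    obtain ⟨P, hP⟩ := hpg.exists_le_sylow
    haveI := h.1 P
    haveI h1 : IsCyclic ((S : Subgroup H).map H.subtype) :=
      isCyclic_of_injective (Subgroup.inclusion hP) (Subgroup.inclusion_injective hP)
    exact isCyclic_of_injective
      ((S : Subgroup H).equivMapOfInjective H.subtype H.subtype_injective).toMonoidHom
      (MulEquiv.injective _)
  · have e : Nat.card (K.map H.subtype) = Nat.card K :=
      Subgroup.card_map_of_injective H.subtype_injective
    have h1 := h.2 (K.map H.subtype) (e ▸ hK)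
    refine ⟨⟨fun a b => ?_⟩⟩
    have h3 := congrArg Subtype.val
      (h1.is_comm.comm ⟨a.1.1, ⟨a.1, a.2, rfl⟩⟩ ⟨b.1.1, ⟨b.1, b.2, rfl⟩⟩)
    apply Subtype.ext
    apply Subtype.ext
    exact h3

theorem cycab_card_comap (K : Subgroup G) [K.Normal] (H : Subgroup (G ⧸ K)) :
    Nat.card (H.comap (QuotientGroup.mk' K)) = Nat.card K * Nat.card H := by
  have h1 := Subgroup.card_mul_index (H.comap (QuotientGroup.mk' K))
  rw [Subgroup.index_comap_of_surjective _ (QuotientGroup.mk'_surjective K)] at h1
  have h2 := Subgroup.card_mul_index H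
  have h3 := Subgroup.card_eq_card_quotient_mul_card_subgroup K
  have h0 : H.index ≠ 0 := Subgroup.index_ne_zero_of_finite
  apply Nat.eq_of_mul_eq_mul_right (Nat.pos_of_ne_zero h0)
  rw [h1, h3, ← h2]
  ring

theorem CycAbHyp.quotient (h : CycAbHyp p G) (K : Subgroup G) [K.Normal]
    (hK : (Nat.card K).Coprime p) : CycAbHyp p (G ⧸ K) := by
  refine ⟨fun S => ?_, fun H hH => ?_⟩
  · obtain ⟨P, rfl⟩ := Sylow.mapSurjective_surjective (QuotientGroup.mk'_surjective K) p S
    rw [Sylow.coe_mapSurjective]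
    haveI := h.1 P
    exact isCyclic_of_surjective ((QuotientGroup.mk' K).subgroupMap (P : Subgroup G))
      (MonoidHom.subgroupMap_surjective _ _)
  · have hcomap : (Nat.card (H.comap (QuotientGroup.mk' K))).Coprime p := by
      rw [cycab_card_comap]
      exact Nat.Coprime.mul_left hK hH
    have h1 := h.2 _ hcomap
    refine ⟨⟨fun a b => ?_⟩⟩
    obtain ⟨a', ha'⟩ := QuotientGroup.mk'_surjective K a.1
    obtain ⟨b', hb'⟩ := QuotientGroup.mk'_surjective K b.1
    have hamem : a' ∈ H.comap (QuotientGroup.mk' K) := by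
      rw [Subgroup.mem_comap, ha']; exact a.2
    have hbmem : b' ∈ H.comap (QuotientGroup.mk' K) := by
      rw [Subgroup.mem_comap, hb']; exact b.2
    have := congrArg Subtype.val (h1.is_comm.comm ⟨a', hamem⟩ ⟨b', hbmem⟩)
    apply Subtype.ext
    show a.1 * b.1 = b.1 * a.1
    rw [← ha', ← hb', ← map_mul, ← map_mul]
    exact congrArg _ this

theorem cycab_all_normal_of_normal (P : Sylow p G) (h : (P : Subgroup G).Normal) :
    ∀ Q : Sylow p G, (Q : Subgroup G).Normal := by
  intro Q
  obtain ⟨g, hg⟩ := MulAction.exists_smul_eq G P Q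
  haveI := h
  rw [Sylow.smul_eq_of_normal] at hg
  rw [← hg]
  exact h

/-- a normal `p`-complement of a normal subgroup is normal in the whole group -/
theorem cycab_npc_normal (N : Subgroup G) [hN : N.Normal] (L : Subgroup N) [L.Normal]
    (hLc : (Nat.card L).Coprime p) {k : ℕ} (hLi : L.index = p ^ k) :
    (L.map N.subtype).Normal := by
  constructor
  intro y hy g
  obtain ⟨l, hl, rfl⟩ := hy
  have hmem : g * (l : G) * g⁻¹ ∈ N := hN.conj_mem _ l.2 g
  refine ⟨⟨g * (l : G) * g⁻¹, hmem⟩, ?_, rfl⟩
  apply Helper70.mem_of_coprime_orderOf_of_index_pow L hLi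
  have h1 : orderOf (⟨g * (l : G) * g⁻¹, hmem⟩ : N) = orderOf l := by
    rw [← Subgroup.orderOf_coe, ← Subgroup.orderOf_coe]
    exact Helper70.orderOf_conj_eq g (l : G)
  rw [h1]
  have h2 : orderOf l ∣ Nat.card L := by
    have := orderOf_dvd_natCard (⟨l, hl⟩ : L)
    rwa [Subgroup.orderOf_mk] at this
  exact Nat.Coprime.coprime_dvd_left h2 hLc

/-- a minimal counterexample to the dichotomy -/
structure CycAbMin (p : ℕ) (G : Type u) [Group G] : Prop where
  hyp : CycAbHyp p G
  ih : ∀ (H : Type u) [Group H] [Finite H], Nat.card H < Nat.card G → CycAbHyp p H →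
    CycAbConcl p H
  no_npc : ¬ Helper70.HasNPC p G
  no_normal : ∀ P : Sylow p G, ¬ (P : Subgroup G).Normal

theorem CycAbMin.sub (h : CycAbMin p G) (H : Subgroup G) (hH : H ≠ ⊤) : CycAbConcl p H := by
  apply h.ih H _ (h.hyp.subgroup H)
  apply lt_of_le_of_ne (Subgroup.card_le_card_group H)
  intro he
  exact hH (Subgroup.eq_top_of_card_eq H he)

theorem CycAbMin.comm (h : CycAbMin p G) (P : Sylow p G) :
    ∀ a ∈ P, ∀ b ∈ P, Commute a b :=
  cycab_comm_of_cyclic (h.hyp.1 P)

theorem CycAbMin.not_le (h : CycAbMin p G) (P : Sylow p G) :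
    ¬ normalizer ((P : Subgroup G) : Set G) ≤ centralizer ((P : Subgroup G) : Set G) :=
  fun hle => h.no_npc (cycab_hasNPC_of_le P hle)

theorem CycAbMin.false_of_centralize (h : CycAbMin p G) (P : Sylow p G)
    (hx : ∀ x ∈ normalizer ((P : Subgroup G) : Set G), (orderOf x).Coprime p →
      ∀ y ∈ P, Commute x y) : False :=
  h.not_le P (cycab_normalizer_le_centralizer P (h.comm P) hx)

/-- no nontrivial normal `p'`-subgroup -/
theorem CycAbMin.eq_bot_of_normal_coprime (h : CycAbMin p G) (K : Subgroup G) [hKn : K.Normal]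
    (hK : (Nat.card K).Coprime p) : K = ⊥ := by
  by_contra hKb
  obtain ⟨P⟩ : Nonempty (Sylow p G) := inferInstance
  have hlt : Nat.card (G ⧸ K) < Nat.card G := by
    have h3 := Subgroup.card_eq_card_quotient_mul_card_subgroup K
    have h4 : 1 < Nat.card K := (Subgroup.one_lt_card_iff_ne_bot K).mpr hKb
    have h5 : 0 < Nat.card (G ⧸ K) := Nat.card_pos
    nlinarith
  rcases h.ih (G ⧸ K) hlt (h.hyp.quotient K hK) with hq | hq
  · obtain ⟨N, hNn, hNc, k, hNi⟩ := hq
    apply h.no_npc
    refine ⟨N.comap (QuotientGroup.mk' K), hNn.comap _, ?_, k, ?_⟩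
    · rw [cycab_card_comap]
      exact Nat.Coprime.mul_left hK hNc
    · rw [Subgroup.index_comap_of_surjective _ (QuotientGroup.mk'_surjective K)]
      exact hNi
  · haveI hM := sup_normal_of_quotient_sylow_normal P K hq
    have hxK : ∀ x ∈ normalizer ((P : Subgroup G) : Set G), (orderOf x).Coprime p →
        ∀ k ∈ K, Commute x k := fun x _ hxo =>
      cycab_commute_of_coprime h.hyp.2 hK (by rw [normalizer_eq_top]; exact mem_top x) hxo
    by_cases hPK : (P : Subgroup G) ≤ centralizer (K : Set G)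
    · apply h.no_normal P
      apply sylow_normal_of_le_normal P ((P : Subgroup G) ⊔ K) le_sup_left
      apply cycab_all_normal_of_normal (P.subtype le_sup_left)
      rw [Sylow.coe_subtype, normal_subgroupOf_iff_le_normalizer le_sup_left]
      apply sup_le le_normalizer
      intro k hk
      rw [mem_normalizer_iff]
      intro y
      have hc : ∀ y ∈ (P : Subgroup G), k * y * k⁻¹ = y := by
        intro y hy
        have := hPK hy
        rw [mem_centralizer_iff] at this
        rw [this k hk]; group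
      constructor
      · intro hy; rw [hc y hy]; exact hy
      · intro hy
        have h2 := hc _ hy
        have e : k * y * k⁻¹ = y := by
          calc k * y * k⁻¹ = k⁻¹ * (k * (k * y * k⁻¹) * k⁻¹) * k := by group
            _ = k⁻¹ * (k * y * k⁻¹) * k := by rw [h2]
            _ = y := by group
        rw [← e]
        exact hy
    · apply h.false_of_centralize P
      intro x hx hxo
      apply cycab_centralize_of_comm_le P.isPGroup' (h.hyp.1 P)
        (P₁ := (P : Subgroup G) ⊓ centralizer (K : Set G))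
        (fun hle => hPK (hle.trans inf_le_right)) hx hxo
      intro y hy
      refine Subgroup.mem_inf.mpr ⟨?_, ?_⟩
      · exact (P : Subgroup G).mul_mem ((mem_normalizer_iff.mp hx y).mp hy)
          ((P : Subgroup G).inv_mem hy)
      · rw [mem_centralizer_iff]
        intro k hk
        have hk1 : y⁻¹ * k * y ∈ K := by
          have := hKn.conj_mem k hk y⁻¹
          simpa using this
        have c1 := (hxK x hx hxo k hk).eq
        have c2 := (hxK x hx hxo _ hk1).eq
        have c3 : x⁻¹ * (y⁻¹ * k * y) = (y⁻¹ * k * y) * x⁻¹ := by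
          calc x⁻¹ * (y⁻¹ * k * y) = x⁻¹ * ((y⁻¹ * k * y) * x) * x⁻¹ := by group
            _ = x⁻¹ * (x * (y⁻¹ * k * y)) * x⁻¹ := by rw [c2]
            _ = (y⁻¹ * k * y) * x⁻¹ := by group
        calc k * (x * y * x⁻¹ * y⁻¹) = (k * x) * y * x⁻¹ * y⁻¹ := by group
          _ = (x * k) * y * x⁻¹ * y⁻¹ := by rw [c1]
          _ = x * y * ((y⁻¹ * k * y) * x⁻¹) * y⁻¹ := by group
          _ = x * y * (x⁻¹ * (y⁻¹ * k * y)) * y⁻¹ := by rw [c3]
          _ = x * y * x⁻¹ * y⁻¹ * k := by group

end Cfsg.Agent.Helper64
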