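import Mathlib
import Cfsg.Agent.Helper64.CycAb3

/-!
Cyclic Sylow `p`-subgroup and abelian `p'`-subgroups: the minimal counterexample is simple,
`N_G(P)` is a maximal subgroup, and `C_G(P) ≠ P`.
-/

set_option autoImplicit false

namespace Cfsg.Agent.Helper64

open Subgroup

universe u

variable {G : Type u} [Group G] [Finite G] {p : ℕ} [hp : Fact p.Prime]

theorem cycab_normal_le_sylow {U : Subgroup G} [hUn : U.Normal] (hU : IsPGroup p U)
    (P : Sylow p G) : U ≤ (P : Subgroup G) := by
  obtain ⟨P', hP'⟩ := hU.exists_le_sylow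
  obtain ⟨g, hg⟩ := MulAction.exists_smul_eq G P' P
  intro u hu
  rw [← hg, Helper70.sylow_mem_smul_iff]
  apply hP'
  have := hUn.conj_mem u hu g⁻¹
  simpa using this

/-- no nontrivial normal `p`-subgroup -/
theorem CycAbMin.eq_bot_of_normal_pgroup (h : CycAbMin p G) (U : Subgroup G) [hUn : U.Normal]
    (hU : IsPGroup p U) : U = ⊥ := by
  by_contra hUb
  obtain ⟨P⟩ : Nonempty (Sylow p G) := inferInstance
  have hUP : U ≤ (P : Subgroup G) := cycab_normal_le_sylow hU P
  have hPC : (P : Subgroup G) ≤ centralizer (U : Set G) := by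
    intro y hy
    rw [mem_centralizer_iff]
    intro u hu
    exact (h.comm P u (hUP hu) y hy).eq
  by_cases hC : centralizer (U : Set G) = ⊤
  · obtain ⟨u, hu⟩ := (Subgroup.ne_bot_iff_exists_ne_one.mp hUb)
    apply h.false_of_centralize P
    intro x hx hxo
    have hxc : x ∈ centralizer (U : Set G) := by rw [hC]; exact mem_top x
    rw [mem_centralizer_iff] at hxc
    exact cycab_centralize_of_fix P.isPGroup' (h.hyp.1 P) hx hxo (hUP u.2)
      (fun h1 => hu (Subtype.ext h1)) (hxc u u.2).symm
  · rcases h.sub _ hC with hq | hq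
    · obtain ⟨L, hLn, hLc, k, hLi⟩ := hq
      haveI := hLn
      haveI hLG := cycab_npc_normal (centralizer (U : Set G)) L hLc hLi
      have e : Nat.card (L.map (centralizer (U : Set G)).subtype) = Nat.card L :=
        Subgroup.card_map_of_injective (Subgroup.subtype_injective _)
      have hLb := h.eq_bot_of_normal_coprime (L.map (centralizer (U : Set G)).subtype)
        (e ▸ hLc)
      have hL : L = ⊥ :=
        (Subgroup.map_eq_bot_iff_of_injective L (Subgroup.subtype_injective _)).mp hLb
      have hCp : IsPGroup p (centralizer (U : Set G)) := by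
        apply IsPGroup.of_card (n := k)
        rw [← hLi, hL, Subgroup.index_bot]
      have heq : centralizer (U : Set G) = (P : Subgroup G) := P.is_maximal' hCp hPC
      apply h.no_normal P
      rw [← heq]
      infer_instance
    · exact h.no_normal P (sylow_normal_of_le_normal P _ hPC hq)

/-- the minimal counterexample is simple -/
theorem CycAbMin.simple (h : CycAbMin p G) (N : Subgroup G) [hN : N.Normal] :
    N = ⊥ ∨ N = ⊤ := by
  by_contra hcon
  obtain ⟨hNb, hNt⟩ := not_or.mp hcon
  rcases h.sub N hNt with hq | hq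
  · obtain ⟨L, hLn, hLc, k, hLi⟩ := hq
    haveI := hLn
    haveI hLG := cycab_npc_normal N L hLc hLi
    have e : Nat.card (L.map N.subtype) = Nat.card L :=
      Subgroup.card_map_of_injective (Subgroup.subtype_injective _)
    have hLb := h.eq_bot_of_normal_coprime (L.map N.subtype) (e ▸ hLc)
    have hL : L = ⊥ :=
      (Subgroup.map_eq_bot_iff_of_injective L (Subgroup.subtype_injective _)).mp hLb
    have hNp : IsPGroup p N := by
      apply IsPGroup.of_card (n := k)
      rw [← hLi, hL, Subgroup.index_bot]
    exact hNb (h.eq_bot_of_normal_pgroup N hNp)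
  · obtain ⟨Q⟩ : Nonempty (Sylow p N) := inferInstance
    haveI hQn := map_sylow_normal_of_normal N Q (hq Q)
    have hQb := h.eq_bot_of_normal_pgroup ((Q : Subgroup N).map N.subtype) (Q.isPGroup'.map _)
    have hQ : (Q : Subgroup N) = ⊥ :=
      (Subgroup.map_eq_bot_iff_of_injective _ (Subgroup.subtype_injective _)).mp hQb
    have hNc : (Nat.card N).Coprime p := by
      rw [Nat.coprime_comm, Nat.Prime.coprime_iff_not_dvd hp.out]
      intro hdvd
      exact Q.ne_bot_of_dvd_card hdvd hQ
    exact hNb (h.eq_bot_of_normal_coprime N hNc)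

theorem CycAbMin.perfect (h : CycAbMin p G) : commutator G = ⊤ := by
  rcases h.simple (commutator G) with h1 | h1
  · exfalso
    obtain ⟨P⟩ : Nonempty (Sylow p G) := inferInstance
    apply h.no_normal P
    constructor
    intro y hy g
    have hc : g * y * g⁻¹ * y⁻¹ ∈ commutator G := by
      rw [commutator_def]
      exact Subgroup.commutator_mem_commutator (mem_top g) (mem_top y)
    rw [h1, mem_bot] at hc
    have : g * y * g⁻¹ = y := by
      calc g * y * g⁻¹ = (g * y * g⁻¹ * y⁻¹) * y := by group
        _ = y := by rw [hc, one_mul]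
    rw [this]
    exact hy
  · exact h1

theorem CycAbMin.center_eq_bot (h : CycAbMin p G) : Subgroup.center G = ⊥ := by
  rcases h.simple (Subgroup.center G) with h1 | h1
  · exact h1
  · exfalso
    obtain ⟨P⟩ : Nonempty (Sylow p G) := inferInstance
    apply h.no_normal P
    constructor
    intro y hy g
    have hg : g ∈ Subgroup.center G := by rw [h1]; exact mem_top g
    have : g * y * g⁻¹ = y := by
      rw [mem_center_iff] at hg
      rw [← hg y]; group
    rw [this]
    exact hy

/-- `N_G(P)` is a maximal subgroup -/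
theorem CycAbMin.maximal (h : CycAbMin p G) (P : Sylow p G) (H : Subgroup G)
    (hNH : normalizer ((P : Subgroup G) : Set G) ≤ H) (hH : H ≠ ⊤) :
    H ≤ normalizer ((P : Subgroup G) : Set G) := by
  have hPH : (P : Subgroup G) ≤ H := le_normalizer.trans hNH
  rcases h.sub H hH with hq | hq
  · exfalso
    apply h.false_of_centralize P
    intro x hx hxo y hy
    have hF := (Helper70.HasNPC.frobCond hq) ((P : Subgroup G).subgroupOf H)
      (P.isPGroup'.comap_subtype) ⟨x, hNH hx⟩
      (by
        rw [mem_normalizer_iff]
        intro z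
        rw [mem_subgroupOf, mem_subgroupOf]
        exact mem_normalizer_iff.mp hx z)
      (by rw [Subgroup.orderOf_mk]; exact hxo)
    rw [mem_centralizer_iff] at hF
    have := hF ⟨y, hPH hy⟩ (mem_subgroupOf.mpr hy)
    exact (congrArg Subtype.val this).symm
  · haveI := hq (P.subtype hPH)
    have h1 := le_normalizer_map_subtype H ((P.subtype hPH : Sylow p H) : Subgroup H)
    rwa [Sylow.coe_subtype, Subgroup.map_subgroupOf_eq_of_le hPH] at h1

end Cfsg.Agent.Helper64
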