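import Mathlib
import Cfsg.Agent.S0125
import Cfsg.Agent.Helper64.CycAb4

/-!
Cyclic Sylow `p`-subgroup and abelian `p'`-subgroups, simple minimal counterexample:
`C_G(P) ≠ P` (by a congruence), `C_G(P) = P × A₀`, and `C_G(z) = N_G(P)` for `1 ≠ z ∈ A₀`.
-/

set_option autoImplicit false

namespace Cfsg.Agent.Helper64

open Subgroup

universe u

variable {G : Type u} [Group G] [Finite G] {p : ℕ} [hp : Fact p.Prime]

theorem CycAbMin.relIndex_modEq (h : CycAbMin p G) (P : Sylow p G) :
    (P : Subgroup G).relIndex (normalizer ((P : Subgroup G) : Set G)) ≡ 1 [MOD p] := by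
  have h1 := cycab_index_modEq_one h.hyp.2 h.perfect P
  have h2 : (normalizer ((P : Subgroup G) : Set G)).index ≡ 1 [MOD p] := by
    have := card_sylow_modEq_one p G
    rwa [Sylow.card_eq_index_normalizer P] at this
  have h3 := Subgroup.relIndex_mul_index (le_normalizer (H := (P : Subgroup G)))
  rw [← h3] at h1
  have h4 := Nat.ModEq.mul_left ((P : Subgroup G).relIndex
    (normalizer ((P : Subgroup G) : Set G))) h2.symm
  rw [mul_one] at h4
  exact h4.trans h1

theorem CycAbMin.e_dvd (h : CycAbMin p G) (P : Sylow p G) :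
    (centralizer ((P : Subgroup G) : Set G)).relIndex (normalizer ((P : Subgroup G) : Set G)) ∣
      p - 1 :=
  cycab_relIndex_dvd P (h.hyp.1 P)

theorem CycAbMin.e_ne_one (h : CycAbMin p G) (P : Sylow p G) :
    (centralizer ((P : Subgroup G) : Set G)).relIndex (normalizer ((P : Subgroup G) : Set G)) ≠
      1 := by
  intro he
  exact h.not_le P (Subgroup.relIndex_eq_one.mp he)

theorem CycAbMin.p_ne_two (h : CycAbMin p G) (P : Sylow p G) : p ≠ 2 := by
  intro h2
  have h1 := h.e_dvd P
  have h3 : p - 1 = 1 := by omega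
  rw [h3] at h1
  exact h.e_ne_one P (Nat.dvd_one.mp h1)

/-- the case `C_G(P) = P` is impossible -/
theorem CycAbMin.relIndex_ne_one (h : CycAbMin p G) (P : Sylow p G) :
    (P : Subgroup G).relIndex (centralizer ((P : Subgroup G) : Set G)) ≠ 1 := by
  intro ha
  have h1 := Subgroup.relIndex_mul_relIndex (P : Subgroup G)
    (centralizer ((P : Subgroup G) : Set G)) (normalizer ((P : Subgroup G) : Set G))
    (cycab_le_centralizer (h.hyp.1 P)) (Subgroup.centralizer_le_normalizer _)
  rw [ha, one_mul] at h1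
  have h2 := h.relIndex_modEq P
  rw [← h1] at h2
  have h3 := h.e_dvd P
  have h4 := h.e_ne_one P
  have hp2 : 2 ≤ p := hp.out.two_le
  have h5 : (centralizer ((P : Subgroup G) : Set G)).relIndex
      (normalizer ((P : Subgroup G) : Set G)) ≤ p - 1 :=
    Nat.le_of_dvd (by omega) h3
  have h6 : (centralizer ((P : Subgroup G) : Set G)).relIndex
      (normalizer ((P : Subgroup G) : Set G)) % p = 1 % p := h2
  rw [Nat.mod_eq_of_lt (by omega), Nat.mod_eq_of_lt (by omega)] at h6
  exact h4 h6

/-- a `p`-element normalizing a Sylow `p`-subgroup lies in it -/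
theorem cycab_mem_sylow_of_pow (P : Sylow p G) {x : G}
    (hx : x ∈ normalizer ((P : Subgroup G) : Set G)) {j : ℕ} (hj : x ^ p ^ j = 1) :
    x ∈ (P : Subgroup G) := by
  have hpg : IsPGroup p (zpowers x) := by
    rw [IsPGroup]
    rintro ⟨w, hw⟩
    obtain ⟨i, rfl⟩ := mem_zpowers_iff.mp hw
    refine ⟨j, ?_⟩
    apply Subtype.ext
    simp only [SubmonoidClass.mk_pow, OneMemClass.coe_one]
    rw [← zpow_natCast, ← zpow_mul, mul_comm, zpow_mul, zpow_natCast, hj, one_zpow]
  have h3 := hpg.inf_normalizer_sylow P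
  have h4 : x ∈ zpowers x ⊓ normalizer (P : Set G) := ⟨mem_zpowers x, hx⟩
  rw [h3] at h4
  exact h4.2

/-- the `p'`-part `A₀` of `C_G(P)` -/
theorem CycAbMin.exists_compl (h : CycAbMin p G) (P : Sylow p G) :
    ∃ A₀ : Subgroup G, A₀ ≤ centralizer ((P : Subgroup G) : Set G) ∧ (Nat.card A₀).Coprime p ∧
      normalizer ((P : Subgroup G) : Set G) ≤ normalizer (A₀ : Set G) ∧
      (∀ c ∈ centralizer ((P : Subgroup G) : Set G), (orderOf c).Coprime p → c ∈ A₀) ∧
      Nat.card A₀ = (P : Subgroup G).relIndex (centralizer ((P : Subgroup G) : Set G)) := by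
  have hPC : (P : Subgroup G) ≤ centralizer ((P : Subgroup G) : Set G) :=
    cycab_le_centralizer (h.hyp.1 P)
  obtain ⟨A₀, hA1, hA2, hA3, hA4, hA5⟩ := Cfsg.Agent.S0125.result P (P : Subgroup G) le_rfl
    le_normalizer (inf_eq_left.mpr hPC)
  have hcard : Nat.card (centralizer ((P : Subgroup G) : Set G)) =
      Nat.card A₀ * Nat.card (P : Subgroup G) := by
    have h1 := cycab_card_sup_mul (A := (P : Subgroup G)) (B := A₀) (hPC.trans hA3)
    rw [sup_comm, hA5, inf_comm, hA4, Subgroup.card_bot, mul_one] at h1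
    rw [h1, mul_comm]
  have hmem : ∀ c ∈ centralizer ((P : Subgroup G) : Set G), (orderOf c).Coprime p → c ∈ A₀ := by
    intro c hc hco
    haveI : (A₀.subgroupOf (centralizer ((P : Subgroup G) : Set G))).Normal :=
      (normal_subgroupOf_iff_le_normalizer hA1).mpr hA3
    obtain ⟨k, hk⟩ := IsPGroup.iff_card.mp P.isPGroup'
    have hidx : (A₀.subgroupOf (centralizer ((P : Subgroup G) : Set G))).index = p ^ k := by
      have h2 := card_inf_mul_relIndex A₀ (centralizer ((P : Subgroup G) : Set G))
      rw [inf_eq_left.mpr hA1, hcard, hk] at h2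
      have h0 : 0 < Nat.card A₀ := Nat.card_pos
      exact Nat.eq_of_mul_eq_mul_left h0 h2
    have := Helper70.mem_of_coprime_orderOf_of_index_pow _ hidx
      (⟨c, hc⟩ : centralizer ((P : Subgroup G) : Set G))
      (by rw [Subgroup.orderOf_mk]; exact hco)
    exact mem_subgroupOf.mp this
  have hconj : ∀ n ∈ normalizer ((P : Subgroup G) : Set G), ∀ a ∈ A₀, n * a * n⁻¹ ∈ A₀ := by
    intro n hn a ha
    apply hmem
    · rw [mem_centralizer_iff]
      intro y hy
      have hy' : n⁻¹ * y * n ∈ (P : Subgroup G) := by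
        have := (mem_normalizer_iff.mp (inv_mem hn) y).mp hy
        simpa using this
      have hac := hA1 ha
      rw [mem_centralizer_iff] at hac
      have h3 := hac _ hy'
      calc y * (n * a * n⁻¹) = n * ((n⁻¹ * y * n) * a) * n⁻¹ := by group
        _ = n * (a * (n⁻¹ * y * n)) * n⁻¹ := by rw [h3]
        _ = n * a * n⁻¹ * y := by group
    · rw [Helper70.orderOf_conj_eq]
      exact Nat.Coprime.coprime_dvd_left (orderOf_dvd_natCard (⟨a, ha⟩ : A₀) |> fun h => by
        rwa [Subgroup.orderOf_mk] at h) hA2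
  refine ⟨A₀, hA1, hA2, ?_, hmem, ?_⟩
  · intro n hn
    rw [mem_normalizer_iff]
    intro a
    constructor
    · exact hconj n hn a
    · intro ha
      have := hconj n⁻¹ (inv_mem hn) _ ha
      have e : n⁻¹ * (n * a * n⁻¹) * n⁻¹⁻¹ = a := by group
      rwa [e] at this
  · have h2 := card_inf_mul_relIndex (P : Subgroup G) (centralizer ((P : Subgroup G) : Set G))
    rw [inf_eq_left.mpr hPC, hcard, mul_comm] at h2
    have h0 : 0 < Nat.card (P : Subgroup G) := Nat.card_pos
    exact (Nat.eq_of_mul_eq_mul_right h0 h2).symm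

/-- `C_G(z) = N_G(P)` for `1 ≠ z ∈ A₀` -/
theorem CycAbMin.centralizer_eq (h : CycAbMin p G) (P : Sylow p G) {A₀ : Subgroup G}
    (hA1 : A₀ ≤ centralizer ((P : Subgroup G) : Set G)) (hA2 : (Nat.card A₀).Coprime p)
    (hA3 : normalizer ((P : Subgroup G) : Set G) ≤ normalizer (A₀ : Set G)) {z : G}
    (hz : z ∈ A₀) (hz1 : z ≠ 1) :
    centralizer ({z} : Set G) = normalizer ((P : Subgroup G) : Set G) := by
  have hge : normalizer ((P : Subgroup G) : Set G) ≤ centralizer ({z} : Set G) := by
    intro n hn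
    rw [mem_centralizer_iff]
    intro w hw
    rw [Set.mem_singleton_iff] at hw
    subst hw
    have hzn : zpowers n ≤ normalizer ((P : Subgroup G) : Set G) := by
      rw [zpowers_le]; exact hn
    have : Commute n w := by
      apply cycab_commute_of_parts (p := p)
      · intro x hx hxo
        exact cycab_commute_of_coprime h.hyp.2 hA2 (hA3 (hzn hx)) hxo w hz
      · intro x hx ⟨j, hj⟩
        have hxP := cycab_mem_sylow_of_pow P (hzn hx) hj
        have hzc := hA1 hz
        rw [mem_centralizer_iff] at hzc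
        exact hzc x hxP
    exact this.eq.symm
  apply le_antisymm _ hge
  apply h.maximal P _ hge
  intro htop
  apply hz1
  have hzc : z ∈ Subgroup.center G := by
    rw [mem_center_iff]
    intro g
    have hg : g ∈ centralizer ({z} : Set G) := by rw [htop]; exact mem_top g
    rw [mem_centralizer_iff] at hg
    exact (hg z rfl).symm
  rw [h.center_eq_bot, mem_bot] at hzc
  exact hzc

end Cfsg.Agent.Helper64
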