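import Mathlib
import Cfsg.Agent.Helper64.CycAb5

/-!
Cyclic Sylow `p`-subgroup and abelian `p'`-subgroups, simple minimal counterexample with
`C_G(P) = P × A₀`, `A₀ ≠ 1`: for a prime `q` dividing `|A₀|` one gets `p = 3`, `q = 2` and Sylow
`2`-subgroups of order `4`.
-/

set_option autoImplicit false

namespace Cfsg.Agent.Helper64

open Subgroup

universe u

/-- in a finite cyclic group, two nontrivial elements of square one coincide -/
theorem cycab_cyclic_sq {Γ : Type*} [Group Γ] [Finite Γ] [IsCyclic Γ] {a b : Γ}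
    (ha : a ^ 2 = 1) (hb : b ^ 2 = 1) (ha1 : a ≠ 1) (hb1 : b ≠ 1) : a = b := by
  classical
  haveI := Fintype.ofFinite Γ
  by_contra hab
  have h1 := IsCyclic.card_pow_eq_one_le (α := Γ) (n := 2) (by norm_num)
  have h2 : ({1, a, b} : Finset Γ) ⊆ Finset.univ.filter (fun x : Γ => x ^ 2 = 1) := by
    intro x hx
    simp only [Finset.mem_insert, Finset.mem_singleton] at hx
    rw [Finset.mem_filter]
    refine ⟨Finset.mem_univ _, ?_⟩
    rcases hx with rfl | rfl | rfl
    · simp
    · exact ha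
    · exact hb
  have h3 : ({1, a, b} : Finset Γ).card = 3 := by
    rw [Finset.card_insert_of_notMem, Finset.card_insert_of_notMem, Finset.card_singleton]
    · simpa using hab
    · simp only [Finset.mem_insert, Finset.mem_singleton, not_or]
      exact ⟨fun h => ha1 h.symm, fun h => hb1 h.symm⟩
  have := Finset.card_le_card h2
  omega

/-- in a finite cyclic group at most `d` elements satisfy `x ^ d = 1` -/
theorem cycab_cyclic_card_le {Γ : Type*} [Group Γ] [Finite Γ] [IsCyclic Γ] {d : ℕ} (hd : 0 < d) :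
    Nat.card {γ : Γ // γ ^ d = 1} ≤ d := by
  classical
  haveI := Fintype.ofFinite Γ
  have h1 := IsCyclic.card_pow_eq_one_le (α := Γ) (n := d) hd
  rw [Nat.card_eq_fintype_card, Fintype.card_subtype]
  exact h1

variable {G : Type u} [Group G] [Finite G] {p : ℕ} [hp : Fact p.Prime]

omit [Finite G] in
/-- if `y ∉ N` but `y ^ p ∈ N` then `y ^ i ∉ N` for `0 < i < p` -/
theorem cycab_pow_not_mem {N : Subgroup G} {y : G} (hyN : y ∉ N) (hyp : y ^ p ∈ N) (i : ℕ)
    (hi0 : 0 < i) (hip : i < p) : y ^ i ∉ N := by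
  intro hmem
  have hcop : IsCoprime (i : ℤ) (p : ℤ) :=
    Nat.isCoprime_iff_coprime.mpr
      ((Nat.Prime.coprime_iff_not_dvd hp.out).mpr (Nat.not_dvd_of_pos_of_lt hi0 hip)).symm
  obtain ⟨u, v, huv⟩ := hcop
  apply hyN
  have e : y = (y ^ i) ^ u * (y ^ p) ^ v := by
    rw [← zpow_natCast, ← zpow_natCast, ← zpow_mul, ← zpow_mul, ← zpow_add]
    have : (i : ℤ) * u + (p : ℤ) * v = 1 := by linarith
    rw [this, zpow_one]
  rw [e]
  exact N.mul_mem (N.zpow_mem hmem u) (N.zpow_mem hyp v)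

/-- a conjugate of `1 ≠ b ∈ A₀` by an element outside `N_G(P)` is not in `A₀` -/
theorem CycAbMin.conj_not_mem (h : CycAbMin p G) (P : Sylow p G) {A₀ : Subgroup G}
    (hA1 : A₀ ≤ centralizer ((P : Subgroup G) : Set G)) (hA2 : (Nat.card A₀).Coprime p)
    (hA3 : normalizer ((P : Subgroup G) : Set G) ≤ normalizer (A₀ : Set G))
    {w : G} (hw : w ∉ normalizer ((P : Subgroup G) : Set G)) {b : G} (hb : b ∈ A₀)
    (hb' : w * b * w⁻¹ ∈ A₀) : b = 1 := by
  by_contra hb1
  apply hw
  have hb'1 : w * b * w⁻¹ ≠ 1 := by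
    intro h1
    apply hb1
    have : b = w⁻¹ * (w * b * w⁻¹) * w := by group
    rw [this, h1]; group
  have hc1 := h.centralizer_eq P hA1 hA2 hA3 hb hb1
  have hc2 := h.centralizer_eq P hA1 hA2 hA3 hb' hb'1
  have hwn : w ∈ normalizer ((normalizer ((P : Subgroup G) : Set G) : Subgroup G) : Set G) := by
    rw [mem_normalizer_iff]
    intro m
    have e1 : m ∈ normalizer ((P : Subgroup G) : Set G) ↔ b * m = m * b := by
      rw [← hc1, mem_centralizer_iff]
      exact ⟨fun hm => hm b rfl, fun hm x hx => by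
        rw [Set.mem_singleton_iff] at hx; subst hx; exact hm⟩
    have e2 : w * m * w⁻¹ ∈ normalizer ((P : Subgroup G) : Set G) ↔
        (w * b * w⁻¹) * (w * m * w⁻¹) = (w * m * w⁻¹) * (w * b * w⁻¹) := by
      rw [← hc2, mem_centralizer_iff]
      exact ⟨fun hm => hm _ rfl, fun hm x hx => by
        rw [Set.mem_singleton_iff] at hx; subst hx; exact hm⟩
    rw [e1, e2]
    constructor
    · intro hm
      calc w * b * w⁻¹ * (w * m * w⁻¹) = w * (b * m) * w⁻¹ := by group
        _ = w * (m * b) * w⁻¹ := by rw [hm]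
        _ = _ := by group
    · intro hm
      calc b * m = w⁻¹ * (w * b * w⁻¹ * (w * m * w⁻¹)) * w := by group
        _ = w⁻¹ * (w * m * w⁻¹ * (w * b * w⁻¹)) * w := by rw [hm]
        _ = m * b := by group
  have hnn : normalizer ((normalizer ((P : Subgroup G) : Set G) : Subgroup G) : Set G) =
      normalizer ((P : Subgroup G) : Set G) := Sylow.normalizer_normalizer P
  rw [hnn] at hwn
  exact hwn

/-- an element of `N_G(Q) ∖ N_G(P)` of `p`-power order whose `p`-th power lies in `N_G(P)` -/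
theorem CycAbMin.exists_y (h : CycAbMin p G) (P : Sylow p G) {A₀ : Subgroup G}
    (hA1 : A₀ ≤ centralizer ((P : Subgroup G) : Set G)) (hA2 : (Nat.card A₀).Coprime p)
    (hA3 : normalizer ((P : Subgroup G) : Set G) ≤ normalizer (A₀ : Set G))
    {q : ℕ} [hq : Fact q.Prime] (hqp : q ≠ p) {z : G} (hz : z ∈ A₀) (hz1 : z ≠ 1)
    (Q : Sylow q G) (hzQ : z ∈ Q) :
    ∃ y ∈ normalizer ((Q : Subgroup G) : Set G), y ∉ normalizer ((P : Subgroup G) : Set G) ∧
      y ^ p ∈ normalizer ((P : Subgroup G) : Set G) := by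
  have hcz := h.centralizer_eq P hA1 hA2 hA3 hz hz1
  have hQc : (Nat.card (Q : Subgroup G)).Coprime p := by
    obtain ⟨k, hk⟩ := IsPGroup.iff_card.mp Q.isPGroup'
    rw [hk]
    exact Nat.Coprime.pow_left k ((Nat.coprime_primes hq.out hp.out).mpr hqp)
  haveI hQcomm : IsMulCommutative (Q : Subgroup G) := h.hyp.2 _ hQc
  have hNz : ∀ g : G, g ∈ normalizer ((P : Subgroup G) : Set G) ↔ Commute g z := by
    intro g
    rw [← hcz, mem_centralizer_iff]
    constructor
    · intro hg; exact (hg z rfl).symm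
    · intro hg w hw; rw [Set.mem_singleton_iff] at hw; subst hw; exact hg.eq.symm
  have hy0 : ∃ y₀ ∈ normalizer ((Q : Subgroup G) : Set G), ¬ Commute y₀ z := by
    by_contra hcon
    push Not at hcon
    exact hz1 (cycab_eq_one_of_central Q h.perfect hzQ hcon)
  obtain ⟨y₀, hy0N, hy0z⟩ := hy0
  have hy1 : ∃ y₁ ∈ normalizer ((Q : Subgroup G) : Set G),
      y₁ ∉ normalizer ((P : Subgroup G) : Set G) ∧ ∃ j : ℕ, y₁ ^ p ^ j = 1 := by
    by_contra hcon
    push Not at hcon
    apply hy0z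
    have hzn : zpowers y₀ ≤ normalizer ((Q : Subgroup G) : Set G) := by
      rw [zpowers_le]; exact hy0N
    apply cycab_commute_of_parts (p := p)
    · intro x hx hxo
      exact cycab_commute_of_coprime h.hyp.2 hQc (hzn hx) hxo z hzQ
    · intro x hx ⟨j, hj⟩
      by_contra hxz
      exact hcon x (hzn hx) (fun hxN => hxz ((hNz x).mp hxN)) j hj
  obtain ⟨y₁, hy1N, hy1n, j₁, hj₁⟩ := hy1
  have hex : ∃ j : ℕ, y₁ ^ p ^ j ∈ normalizer ((P : Subgroup G) : Set G) :=
    ⟨j₁, by rw [hj₁]; exact one_mem _⟩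
  classical
  have hj0spec := Nat.find_spec hex
  have hj0pos : Nat.find hex ≠ 0 := by
    intro h0
    rw [h0, pow_zero, pow_one] at hj0spec
    exact hy1n hj0spec
  refine ⟨y₁ ^ p ^ (Nat.find hex - 1), pow_mem hy1N _,
    Nat.find_min hex (Nat.sub_one_lt hj0pos), ?_⟩
  rw [← pow_mul, ← pow_succ, Nat.sub_add_cancel (Nat.pos_of_ne_zero hj0pos)]
  exact hj0spec

end Cfsg.Agent.Helper64
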