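import Mathlib
import Cfsg.Agent.Helper64.CycAb6

/-!
The counting step: `p = 3`, `q = 2`, `|Q| = 4`.
-/

set_option autoImplicit false

namespace Cfsg.Agent.Helper64

open Subgroup

universe u

variable {G : Type u} [Group G] [Finite G] {p : ℕ} [hp : Fact p.Prime]

set_option maxHeartbeats 1600000 in
theorem CycAbMin.step (h : CycAbMin p G) (P : Sylow p G) {A₀ : Subgroup G}
    (hA1 : A₀ ≤ centralizer ((P : Subgroup G) : Set G)) (hA2 : (Nat.card A₀).Coprime p)
    (hA3 : normalizer ((P : Subgroup G) : Set G) ≤ normalizer (A₀ : Set G))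
    (hA4 : ∀ c ∈ centralizer ((P : Subgroup G) : Set G), (orderOf c).Coprime p → c ∈ A₀)
    {q : ℕ} [hq : Fact q.Prime] (hqp : q ≠ p) {z : G} (hz : z ∈ A₀) (hz1 : z ≠ 1)
    (Q : Sylow q G) (hzQ : z ∈ Q) {y : G} (hyQ : y ∈ normalizer ((Q : Subgroup G) : Set G))
    (hyN : y ∉ normalizer ((P : Subgroup G) : Set G))
    (hyp : y ^ p ∈ normalizer ((P : Subgroup G) : Set G)) :
    p = 3 ∧ q = 2 ∧ Nat.card (Q : Subgroup G) = 4 := by
  classical
  have hcz := h.centralizer_eq P hA1 hA2 hA3 hz hz1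
  have hQc : (Nat.card (Q : Subgroup G)).Coprime p := by
    obtain ⟨k, hk⟩ := IsPGroup.iff_card.mp Q.isPGroup'
    rw [hk]
    exact Nat.Coprime.pow_left k ((Nat.coprime_primes hq.out hp.out).mpr hqp)
  haveI hQcomm : IsMulCommutative (Q : Subgroup G) := h.hyp.2 _ hQc
  have hQN : (Q : Subgroup G) ≤ normalizer ((P : Subgroup G) : Set G) := by
    intro b hb
    rw [← hcz, mem_centralizer_iff]
    intro w hw
    rw [Set.mem_singleton_iff] at hw
    subst hw
    exact congrArg Subtype.val (hQcomm.is_comm.comm ⟨w, hzQ⟩ ⟨b, hb⟩)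
  have hp2 : p ≠ 2 := h.p_ne_two P
  have hyi := cycab_pow_not_mem hyN hyp
  have hM6 : ∀ w : G, w ∉ normalizer ((P : Subgroup G) : Set G) → ∀ b ∈ A₀,
      w * b * w⁻¹ ∈ A₀ → b = 1 :=
    fun w hw b hb hb' => h.conj_not_mem P hA1 hA2 hA3 hw hb hb'
  haveI hPc : IsCyclic (P : Subgroup G) := h.hyp.1 P
  haveI hΓ : IsCyclic (MulAut (P : Subgroup G)) := by
    obtain ⟨k, hk⟩ := IsPGroup.iff_card.mp P.isPGroup'
    haveI : IsCyclic (ZMod (Nat.card (P : Subgroup G)))ˣ := by
      rw [hk]; exact ZMod.isCyclic_units_of_prime_pow p hp.out hp2 k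
    exact isCyclic_of_injective (IsCyclic.mulAutMulEquiv (P : Subgroup G)).toMonoidHom
      (MulEquiv.injective _)
  let θ : normalizer ((P : Subgroup G) : Set G) →* MulAut (P : Subgroup G) :=
    (P : Subgroup G).normalizerMonoidHom
  let ψ : (Q : Subgroup G) →* MulAut (P : Subgroup G) := θ.comp (Subgroup.inclusion hQN)
  let σ : normalizer ((Q : Subgroup G) : Set G) →* MulAut (Q : Subgroup G) :=
    (Q : Subgroup G).normalizerMonoidHom
  have hker : ∀ b : (Q : Subgroup G), ψ b = 1 ↔ (b : G) ∈ A₀ := by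
    intro b
    have h1 : ψ b = 1 ↔ (b : G) ∈ centralizer ((P : Subgroup G) : Set G) := by
      show θ (Subgroup.inclusion hQN b) = 1 ↔ _
      rw [← MonoidHom.mem_ker, normalizerMonoidHom_ker, mem_subgroupOf]
      rfl
    rw [h1]
    constructor
    · intro hb
      apply hA4 _ hb
      obtain ⟨n, hn⟩ := cycab_orderOf_pow Q.isPGroup' b.2
      rw [hn]
      exact Nat.Coprime.pow_left n ((Nat.coprime_primes hq.out hp.out).mpr hqp)
    · exact fun hb => hA1 hb
  let yy : ℕ → normalizer ((Q : Subgroup G) : Set G) := fun i => ⟨y ^ i, pow_mem hyQ i⟩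
  have hσ : ∀ (i : ℕ) (b : (Q : Subgroup G)),
      ((σ (yy i) b : (Q : Subgroup G)) : G) = y ^ i * (b : G) * (y ^ i)⁻¹ := fun i b => rfl
  have hD : ∀ i j : ℕ, i < j → j < p → ∀ β β' : (Q : Subgroup G), (β : G) ∈ A₀ →
      (β' : G) ∈ A₀ → σ (yy i) β = σ (yy j) β' → β' = 1 := by
    intro i j hij hjp β β' hβ hβ' heq
    have h1 := congrArg Subtype.val heq
    rw [hσ, hσ] at h1
    have h2 : y ^ (j - i) * (β' : G) * (y ^ (j - i))⁻¹ = (β : G) := by
      have e : y ^ j = y ^ i * y ^ (j - i) := by rw [← pow_add]; congr 1; omega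
      rw [e] at h1
      calc y ^ (j - i) * (β' : G) * (y ^ (j - i))⁻¹
          = (y ^ i)⁻¹ * (y ^ i * y ^ (j - i) * (β' : G) * (y ^ i * y ^ (j - i))⁻¹) * y ^ i := by
            group
        _ = (y ^ i)⁻¹ * (y ^ i * (β : G) * (y ^ i)⁻¹) * y ^ i := by rw [h1]
        _ = (β : G) := by group
    have h3 := hM6 _ (hyi (j - i) (by omega) (by omega)) _ hβ' (h2 ▸ hβ)
    exact Subtype.ext h3
  have hM6' : ∀ i : ℕ, 0 < i → i < p → ∀ b : (Q : Subgroup G), (b : G) ∈ A₀ →
      ψ (σ (yy i) b) = 1 → b = 1 := by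
    intro i hi0 hip b hb hψ
    have h1 := (hker _).mp hψ
    rw [hσ] at h1
    exact Subtype.ext (hM6 _ (hyi i hi0 hip) _ hb h1)
  have hB : ∀ b : (Q : Subgroup G), b ∈ ψ.ker ↔ (b : G) ∈ A₀ := fun b => by
    rw [MonoidHom.mem_ker]; exact hker b
  have hfinj : ∀ i : ℕ, 0 < i → i < p → ∀ b b' : ψ.ker,
      ψ (σ (yy i) b) = ψ (σ (yy i) b') → b = b' := by
    intro i hi0 hip b b' hbb
    have h1 : ψ (σ (yy i) ((b : (Q : Subgroup G)) * (b' : (Q : Subgroup G))⁻¹)) = 1 := by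
      rw [map_mul, map_mul, map_inv, map_inv, hbb, mul_inv_cancel]
    have h2 := hM6' i hi0 hip _ ((hB _).mp (ψ.ker.mul_mem b.2 (ψ.ker.inv_mem b'.2))) h1
    apply Subtype.ext
    exact mul_inv_eq_one.mp h2
  have hd0 : 0 < Nat.card ψ.ker := Nat.card_pos
  have h1lt : 1 < p := hp.out.one_lt
  have hdR : Nat.card ψ.ker ≤ Nat.card ψ.range := by
    apply Nat.card_le_card_of_injective
      (fun b : ψ.ker => (⟨ψ (σ (yy 1) b), ⟨_, rfl⟩⟩ : ψ.range))
    intro b b' hbb
    exact hfinj 1 (by norm_num) h1lt b b' (congrArg Subtype.val hbb)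
  have hRdvd : Nat.card ψ.range ∣ p - 1 := by
    have h1 : ψ.range ≤ θ.range := by
      rintro _ ⟨b, rfl⟩
      exact ⟨_, rfl⟩
    have h2 := Subgroup.card_dvd_of_le h1
    have h3 : Nat.card θ.range = (centralizer ((P : Subgroup G) : Set G)).relIndex
        (normalizer ((P : Subgroup G) : Set G)) := by
      rw [← Subgroup.index_ker, normalizerMonoidHom_ker]
      rfl
    rw [h3] at h2
    exact h2.trans (h.e_dvd P)
  have hp1 : 0 < p - 1 := by omega
  have hRle : Nat.card ψ.range ≤ p - 1 := Nat.le_of_dvd hp1 hRdvd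
  have hpd : p - 1 ≤ Nat.card ψ.ker := by
    let zQ : (Q : Subgroup G) := ⟨z, hzQ⟩
    have hzB : zQ ∈ ψ.ker := (hB zQ).mpr hz
    let τ : MulAut (P : Subgroup G) := ψ (σ (yy 1) zQ)
    have hτ1 : τ ≠ 1 := by
      intro hτ
      have := hM6' 1 (by norm_num) h1lt zQ hz hτ
      exact hz1 (congrArg Subtype.val this)
    have hpowd : ∀ (i : ℕ) (b : ψ.ker), ψ (σ (yy i) b) ^ Nat.card ψ.ker = 1 := by
      intro i b
      rw [← map_pow, ← map_pow]
      have : ((b : (Q : Subgroup G)) ^ Nat.card ψ.ker) = 1 := by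
        have := congrArg Subtype.val (pow_card_eq_one' (G := ψ.ker) (x := b))
        simpa using this
      rw [this, map_one, map_one]
    have hsurj : ∀ i : ℕ, 0 < i → i < p → ∃ b : ψ.ker, ψ (σ (yy i) b) = τ := by
      intro i hi0 hip
      let F : ψ.ker → {γ : MulAut (P : Subgroup G) // γ ^ Nat.card ψ.ker = 1} :=
        fun b => ⟨ψ (σ (yy i) b), hpowd i b⟩
      have hFinj : Function.Injective F :=
        fun b b' hbb => hfinj i hi0 hip b b' (congrArg Subtype.val hbb)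
      have hFbij := hFinj.bijective_of_nat_card_le (cycab_cyclic_card_le hd0)
      obtain ⟨b, hb⟩ := hFbij.2 ⟨τ, hpowd 1 ⟨zQ, hzB⟩⟩
      exact ⟨b, congrArg Subtype.val hb⟩
    choose! bb hbb using hsurj
    let c₁ : (Q : Subgroup G) := σ (yy 1) zQ
    have hmemker : ∀ i : ℕ, 0 < i → i < p →
        σ (yy i) (bb i) * c₁⁻¹ ∈ ψ.ker := by
      intro i hi0 hip
      rw [MonoidHom.mem_ker, map_mul, map_inv, hbb i hi0 hip]
      exact mul_inv_cancel τ
    let g : (Finset.Ioo 0 p : Finset ℕ) → ψ.ker := fun k =>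
      ⟨σ (yy k.1) (bb k.1) * c₁⁻¹,
        hmemker k.1 (Finset.mem_Ioo.mp k.2).1 (Finset.mem_Ioo.mp k.2).2⟩
    have hginj : Function.Injective g := by
      intro k k' hkk
      have h1 : σ (yy k.1) (bb k.1) = σ (yy k'.1) (bb k'.1) := by
        have := congrArg Subtype.val hkk
        exact mul_right_cancel this
      apply Subtype.ext
      by_contra hne
      rcases Nat.lt_or_gt_of_ne hne with hlt | hlt
      · have := hD k.1 k'.1 hlt (Finset.mem_Ioo.mp k'.2).2 _ _ ((hB _).mp (bb k.1).2)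
          ((hB _).mp (bb k'.1).2) h1
        apply hτ1
        rw [← hbb k'.1 (Finset.mem_Ioo.mp k'.2).1 (Finset.mem_Ioo.mp k'.2).2, this, map_one,
          map_one]
      · have := hD k'.1 k.1 hlt (Finset.mem_Ioo.mp k.2).2 _ _ ((hB _).mp (bb k'.1).2)
          ((hB _).mp (bb k.1).2) h1.symm
        apply hτ1
        rw [← hbb k.1 (Finset.mem_Ioo.mp k.2).1 (Finset.mem_Ioo.mp k.2).2, this, map_one,
          map_one]
    have := Nat.card_le_card_of_injective g hginj
    rw [Nat.card_eq_fintype_card, Fintype.card_coe, Nat.card_Ioo] at this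
    omega
  have hdeq : Nat.card ψ.ker = p - 1 := by omega
  have hReq : Nat.card ψ.range = p - 1 := by omega
  have hQcard : Nat.card (Q : Subgroup G) = (p - 1) * (p - 1) := by
    have := Subgroup.card_mul_index ψ.ker
    rw [Subgroup.index_ker, hdeq, hReq] at this
    exact this.symm
  have hpodd : 2 ∣ p - 1 := by
    rcases hp.out.eq_two_or_odd' with h2 | hodd
    · exact absurd h2 hp2
    · obtain ⟨m, hm⟩ := hodd
      exact ⟨m, by omega⟩
  have hq2 : q = 2 := by
    obtain ⟨k, hk⟩ := IsPGroup.iff_card.mp Q.isPGroup'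
    have h2 : 2 ∣ q ^ k := by
      rw [← hk, hQcard]
      exact Dvd.dvd.mul_right hpodd _
    exact ((Nat.prime_dvd_prime_iff_eq Nat.prime_two hq.out).mp
      (Nat.Prime.dvd_of_dvd_pow Nat.prime_two h2)).symm
  have hp3 : p = 3 := by
    by_contra hp3
    have h3p : 3 < p := by
      have := hp.out.two_le
      omega
    haveI : Fact (Nat.Prime 2) := ⟨Nat.prime_two⟩
    obtain ⟨t₀, ht₀⟩ := exists_prime_orderOf_dvd_card' (G := ψ.ker) 2
      (by rw [hdeq]; exact hpodd)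
    have ht₀1 : (t₀ : (Q : Subgroup G)) ≠ 1 := by
      intro h1
      have : t₀ = 1 := Subtype.ext h1
      rw [this, orderOf_one] at ht₀
      norm_num at ht₀
    have ht₀sq : (t₀ : (Q : Subgroup G)) ^ 2 = 1 := by
      have := pow_orderOf_eq_one t₀
      rw [ht₀] at this
      have := congrArg Subtype.val this
      simpa using this
    have htA : ((t₀ : (Q : Subgroup G)) : G) ∈ A₀ := (hB _).mp t₀.2
    have hγsq : ∀ i : ℕ, ψ (σ (yy i) t₀) ^ 2 = 1 := by
      intro i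
      rw [← map_pow, ← map_pow, ht₀sq, map_one, map_one]
    have hγ1 : ∀ i : ℕ, 0 < i → i < p → ψ (σ (yy i) t₀) ≠ 1 :=
      fun i hi0 hip hψ => ht₀1 (hM6' i hi0 hip _ htA hψ)
    have hγeq : ∀ i : ℕ, 0 < i → i < p → ψ (σ (yy i) t₀) = ψ (σ (yy 1) t₀) :=
      fun i hi0 hip =>
        cycab_cyclic_sq (hγsq i) (hγsq 1) (hγ1 i hi0 hip) (hγ1 1 (by norm_num) h1lt)
    have hU : ∀ b : (Q : Subgroup G), (b : G) ∈ A₀ → b ^ 2 = 1 → b ≠ 1 → b = t₀ := by
      intro b hb hb2 hb1
      have e1 : ψ (σ (yy 1) b) ^ 2 = 1 := by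
        rw [← map_pow, ← map_pow, hb2, map_one, map_one]
      have e2 : ψ (σ (yy 1) b) ≠ 1 := fun hψ => hb1 (hM6' 1 (by norm_num) h1lt _ hb hψ)
      have e3 := cycab_cyclic_sq e1 (hγsq 1) e2 (hγ1 1 (by norm_num) h1lt)
      have := hfinj 1 (by norm_num) h1lt ⟨b, (hB b).mpr hb⟩ t₀ e3
      exact congrArg Subtype.val this
    have hs : ∀ j : ℕ, 1 < j → j < p → σ (yy 1) t₀ * (σ (yy j) t₀)⁻¹ = t₀ := by
      intro j h1j hjp
      apply hU
      · rw [← hker, map_mul, map_inv, hγeq j (by omega) hjp]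
        exact mul_inv_cancel _
      · have hc : Commute (σ (yy 1) (t₀ : (Q : Subgroup G)))
            (σ (yy j) (t₀ : (Q : Subgroup G)))⁻¹ := hQcomm.is_comm.comm _ _
        have ea : σ (yy 1) (t₀ : (Q : Subgroup G)) ^ 2 = 1 := by
          rw [← map_pow, ht₀sq, map_one]
        have eb : σ (yy j) (t₀ : (Q : Subgroup G)) ^ 2 = 1 := by
          rw [← map_pow, ht₀sq, map_one]
        rw [hc.mul_pow, ea, inv_pow, eb, inv_one, mul_one]
      · intro h1
        have h2 : σ (yy 1) (t₀ : (Q : Subgroup G)) = σ (yy j) (t₀ : (Q : Subgroup G)) :=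
          mul_inv_eq_one.mp h1
        exact ht₀1 (hD 1 j h1j hjp _ _ htA htA h2)
    have h23 : σ (yy 2) (t₀ : (Q : Subgroup G)) = σ (yy 3) (t₀ : (Q : Subgroup G)) := by
      have e2 := hs 2 (by norm_num) (by omega)
      have e3 := hs 3 (by norm_num) h3p
      have := e2.trans e3.symm
      exact inv_injective (mul_left_cancel this)
    exact ht₀1 (hD 2 3 (by norm_num) h3p _ _ htA htA h23)
  refine ⟨hp3, hq2, ?_⟩
  rw [hQcard, hp3]

end Cfsg.Agent.Helper64
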