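import Mathlib
import Cfsg.Agent.Helper64.CycAb7
import Cfsg.Agent.Helper64.Friendship

/-!
Cyclic Sylow `p`-subgroup and abelian `p'`-subgroups: the final contradiction, by the friendship
theorem applied to the commuting graph of the involutions, and the dichotomy itself.
-/

set_option autoImplicit false

namespace Cfsg.Agent.Helper64

open Subgroup

universe u

section involutions

variable {G : Type*} [Group G]

theorem cycab_mem_zpowers_two {c g : G} (hc : orderOf c = 2) (hg : g ∈ zpowers c) :
    g = 1 ∨ g = c := by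
  obtain ⟨k, rfl⟩ := mem_zpowers_iff.mp hg
  have e : c ^ k = c ^ (k % 2) := by
    have := zpow_mod_orderOf c k
    rw [hc] at this
    exact this.symm
  rw [e]
  rcases Int.emod_two_eq_zero_or_one k with h | h
  · left; rw [h, zpow_zero]
  · right; rw [h, zpow_one]

theorem cycab_inv_facts {x : G} (hx : orderOf x = 2) : x ^ 2 = 1 ∧ x ≠ 1 ∧ x⁻¹ = x := by
  have h2 : x ^ 2 = 1 := by rw [← hx]; exact pow_orderOf_eq_one x
  refine ⟨h2, ?_, ?_⟩
  · rintro rfl
    rw [orderOf_one] at hx
    norm_num at hx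
  · exact inv_eq_of_mul_eq_one_left (by rw [← pow_two]; exact h2)

theorem cycab_zpowers_le_centralizer {a b : G} (h : Commute a b) :
    zpowers a ≤ centralizer (zpowers b : Set G) := by
  rw [zpowers_le, mem_centralizer_iff]
  intro g hg
  obtain ⟨k, rfl⟩ := mem_zpowers_iff.mp hg
  exact (h.symm.zpow_left k).eq

theorem cycab_mem_normalizer_zpowers {x g : G} (hx : x ^ 2 = 1) (h : x * g * x⁻¹ = g⁻¹) :
    x ∈ normalizer (zpowers g : Set G) := by
  have hxi : x⁻¹ = x := inv_eq_of_mul_eq_one_left (by rw [← pow_two]; exact hx)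
  have hfwd : ∀ w ∈ zpowers g, x * w * x⁻¹ ∈ zpowers g := by
    intro w hw
    obtain ⟨k, rfl⟩ := mem_zpowers_iff.mp hw
    rw [← conj_zpow, h]
    exact zpow_mem (inv_mem (mem_zpowers g)) k
  rw [mem_normalizer_iff]
  intro w
  refine ⟨hfwd w, fun hw => ?_⟩
  have := hfwd _ hw
  have e : x * (x * w * x⁻¹) * x⁻¹ = w := by
    rw [hxi]
    calc x * (x * w * x) * x = (x * x) * w * (x * x) := by group
      _ = w := by rw [← pow_two, hx, one_mul, mul_one]
  rwa [e] at this

theorem cycab_inf_zpowers_two {a : G} (ha : orderOf a = 2) {E : Subgroup G} (haE : a ∉ E) :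
    zpowers a ⊓ E = ⊥ := by
  rw [eq_bot_iff]
  intro g hg
  rcases cycab_mem_zpowers_two ha hg.1 with h | h
  · exact h
  · exact absurd (h ▸ hg.2) haE

/-- three pairwise commuting involutions in a group without subgroups of order `8` -/
theorem cycab_klein [Finite G] {x x' c : G} (hx : orderOf x = 2) (hx' : orderOf x' = 2)
    (hc : orderOf c = 2) (h1 : Commute x x') (h2 : Commute c x) (h3 : Commute c x')
    (hxx' : x ≠ x') (hcx : c ≠ x) (hcx' : c ≠ x') (h8 : ¬ 8 ∣ Nat.card G) : c = x * x' := by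
  obtain ⟨hx2, hx1, hxi⟩ := cycab_inv_facts hx
  obtain ⟨hx'2, hx'1, hx'i⟩ := cycab_inv_facts hx'
  obtain ⟨hc2, hc1, hci⟩ := cycab_inv_facts hc
  have hx'nx : x' ∉ zpowers x := by
    intro hmem
    rcases cycab_mem_zpowers_two hx hmem with h | h
    · exact hx'1 h
    · exact hxx' h.symm
  have hcnx : c ∉ zpowers x := by
    intro hmem
    rcases cycab_mem_zpowers_two hx hmem with h | h
    · exact hc1 h
    · exact hcx h
  have hE : Nat.card (zpowers x' ⊔ zpowers x : Subgroup G) = 4 := by
    have := cycab_card_sup_mul (A := zpowers x') (B := zpowers x)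
      ((cycab_zpowers_le_centralizer h1.symm).trans (centralizer_le_normalizer _))
    rw [cycab_inf_zpowers_two hx' hx'nx, card_bot, mul_one, Nat.card_zpowers, Nat.card_zpowers,
      hx, hx'] at this
    exact this
  have hxE : x ∈ zpowers x' ⊔ zpowers x := le_sup_right (a := zpowers x') (mem_zpowers x)
  have hx'E : x' ∈ zpowers x' ⊔ zpowers x := le_sup_left (b := zpowers x) (mem_zpowers x')
  have hcE : c ∈ zpowers x' ⊔ zpowers x := by
    by_contra hcE
    have hle : zpowers c ≤ normalizer ((zpowers x' ⊔ zpowers x : Subgroup G) : Set G) := by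
      refine le_trans ?_ (centralizer_le_normalizer _)
      rw [le_centralizer_iff]
      exact sup_le (cycab_zpowers_le_centralizer h3.symm) (cycab_zpowers_le_centralizer h2.symm)
    have := cycab_card_sup_mul hle
    rw [cycab_inf_zpowers_two hc hcE, card_bot, mul_one, Nat.card_zpowers, hc, hE] at this
    apply h8
    have h9 := Subgroup.card_subgroup_dvd_card (zpowers c ⊔ (zpowers x' ⊔ zpowers x))
    rw [this] at h9
    exact h9
  have hidx : ((zpowers x).subgroupOf (zpowers x' ⊔ zpowers x)).index = 2 := by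
    have := card_inf_mul_relIndex (zpowers x) (zpowers x' ⊔ zpowers x)
    rw [inf_eq_left.mpr le_sup_right, Nat.card_zpowers, hx, hE] at this
    show (zpowers x).relIndex (zpowers x' ⊔ zpowers x) = 2
    omega
  have hiff := Subgroup.mul_mem_iff_of_index_two hidx
    (a := (⟨x', hx'E⟩ : (zpowers x' ⊔ zpowers x : Subgroup G))) (b := ⟨c, hcE⟩)
  have hmem : x' * c ∈ zpowers x := by
    have h5 : (⟨x', hx'E⟩ : (zpowers x' ⊔ zpowers x : Subgroup G)) * ⟨c, hcE⟩ ∈
        (zpowers x).subgroupOf (zpowers x' ⊔ zpowers x) := by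
      rw [hiff]
      exact ⟨fun h => absurd (mem_subgroupOf.mp h) hx'nx,
        fun h => absurd (mem_subgroupOf.mp h) hcnx⟩
    exact mem_subgroupOf.mp h5
  rcases cycab_mem_zpowers_two hx hmem with h | h
  · exfalso
    apply hcx'
    rw [← hx'i]
    exact eq_inv_of_mul_eq_one_right h
  · have e : c = x'⁻¹ * x := by rw [← h]; group
    rw [e, hx'i]
    exact h1.symm.eq

end involutions

variable {G : Type u} [Group G] [Finite G] {p : ℕ} [hp : Fact p.Prime]

/-- the configuration left after the counting step -/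
theorem CycAbMin.config (h : CycAbMin p G) (P : Sylow p G) :
    p = 3 ∧ ¬ 8 ∣ Nat.card G ∧ ∃ z : G, orderOf z = 2 ∧
      centralizer ({z} : Set G) = normalizer ((P : Subgroup G) : Set G) ∧
      ∀ c ∈ centralizer ((P : Subgroup G) : Set G), orderOf c = 2 → c = z := by
  classical
  obtain ⟨A₀, hA1, hA2, hA3, hA4, hA5⟩ := h.exists_compl P
  have hne : Nat.card A₀ ≠ 1 := by rw [hA5]; exact h.relIndex_ne_one P
  obtain ⟨q, hqprime, hqdvd⟩ := Nat.exists_prime_and_dvd hne
  haveI hq : Fact q.Prime := ⟨hqprime⟩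
  have hqp : q ≠ p := by
    intro hqp
    rw [hqp] at hqdvd
    have := Nat.Coprime.eq_one_of_dvd hA2.symm hqdvd
    exact hp.out.one_lt.ne' this
  obtain ⟨z₀, hz₀⟩ := exists_prime_orderOf_dvd_card' (G := A₀) q hqdvd
  have hz : (z₀ : G) ∈ A₀ := z₀.2
  have hzo : orderOf (z₀ : G) = q := by rw [Subgroup.orderOf_coe]; exact hz₀
  have hz1 : (z₀ : G) ≠ 1 := by
    intro h1
    rw [h1, orderOf_one] at hzo
    exact hqprime.one_lt.ne hzo
  have hzq : IsPGroup q (zpowers (z₀ : G)) :=
    IsPGroup.of_card (n := 1) (by rw [Nat.card_zpowers, hzo, pow_one])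
  obtain ⟨Q, hQ⟩ := hzq.exists_le_sylow
  have hzQ : (z₀ : G) ∈ Q := hQ (mem_zpowers _)
  obtain ⟨y, hyQ, hyN, hyp⟩ := h.exists_y P hA1 hA2 hA3 hqp hz hz1 Q hzQ
  obtain ⟨hp3, hq2, hQ4⟩ := h.step P hA1 hA2 hA3 hA4 hqp hz hz1 Q hzQ hyQ hyN hyp
  subst hq2
  have h8 : ¬ 8 ∣ Nat.card G := by
    have h1 := Sylow.card_eq_multiplicity Q
    rw [hQ4] at h1
    have h2 : (Nat.card G).factorization 2 = 2 := by
      have : (2 : ℕ) ^ 2 = 2 ^ (Nat.card G).factorization 2 := by rw [← h1]; norm_num
      exact (Nat.pow_right_injective (le_refl 2) this).symm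
    have h3 := Nat.pow_succ_factorization_not_dvd (Nat.card_pos (α := G)).ne' Nat.prime_two
    rw [h2] at h3
    exact h3
  refine ⟨hp3, h8, (z₀ : G), hzo, h.centralizer_eq P hA1 hA2 hA3 hz hz1, ?_⟩
  intro c hc hco
  by_contra hcz
  have hcA : c ∈ A₀ := hA4 c hc (by rw [hco, hp3]; decide)
  haveI hAc : IsMulCommutative A₀ := h.hyp.2 _ hA2
  have hcomm : Commute c (z₀ : G) := congrArg Subtype.val (hAc.is_comm.comm ⟨c, hcA⟩ z₀)
  have hcnz : c ∉ zpowers (z₀ : G) := by
    intro hmem
    rcases cycab_mem_zpowers_two hzo hmem with h1 | h1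
    · rw [h1, orderOf_one] at hco
      norm_num at hco
    · exact hcz h1
  have h1 := cycab_card_sup_mul (A := zpowers c) (B := zpowers (z₀ : G))
    ((cycab_zpowers_le_centralizer hcomm).trans (centralizer_le_normalizer _))
  rw [cycab_inf_zpowers_two hco hcnz, card_bot, mul_one, Nat.card_zpowers, Nat.card_zpowers, hzo,
    hco] at h1
  have h4 : 4 ∣ Nat.card A₀ := by
    have := Subgroup.card_dvd_of_le (sup_le (zpowers_le.mpr hcA) (zpowers_le.mpr hz))
    rwa [h1] at this
  have he : (centralizer ((P : Subgroup G) : Set G)).relIndex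
      (normalizer ((P : Subgroup G) : Set G)) = 2 := by
    have h5 := h.e_dvd P
    rw [show p - 1 = 2 by omega] at h5
    rcases (Nat.dvd_prime Nat.prime_two).mp h5 with h6 | h6
    · exact absurd h6 (h.e_ne_one P)
    · exact h6
  have hC : Nat.card (centralizer ((P : Subgroup G) : Set G)) =
      Nat.card (P : Subgroup G) * Nat.card A₀ := by
    have := card_inf_mul_relIndex (P : Subgroup G) (centralizer ((P : Subgroup G) : Set G))
    rw [inf_eq_left.mpr (cycab_le_centralizer (h.hyp.1 P)), ← hA5] at this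
    exact this.symm
  have hN : Nat.card (normalizer ((P : Subgroup G) : Set G)) =
      Nat.card (P : Subgroup G) * Nat.card A₀ * 2 := by
    have := card_inf_mul_relIndex (centralizer ((P : Subgroup G) : Set G))
      (normalizer ((P : Subgroup G) : Set G))
    rw [inf_eq_left.mpr (centralizer_le_normalizer _), he, hC] at this
    exact this.symm
  apply h8
  have h9 := Subgroup.card_subgroup_dvd_card (normalizer ((P : Subgroup G) : Set G))
  rw [hN] at h9
  obtain ⟨m, hm⟩ := h4
  rw [hm] at h9
  exact Dvd.dvd.trans ⟨Nat.card (P : Subgroup G) * m, by ring⟩ h9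

/-- two non-commuting involutions have exactly one common commuting involution -/
theorem CycAbMin.common (h : CycAbMin p G) {x x' : G} (hx : orderOf x = 2)
    (hx' : orderOf x' = 2) (hnc : ¬ Commute x x') :
    ∃ z' : G, orderOf z' = 2 ∧ Commute x z' ∧ Commute x' z' ∧
      ∀ c : G, orderOf c = 2 → Commute x c → Commute x' c → c = z' := by
  classical
  obtain ⟨P₀⟩ : Nonempty (Sylow p G) := inferInstance
  obtain ⟨hp3, -, -⟩ := h.config P₀
  subst hp3
  obtain ⟨hx2, hx1, hxi⟩ := cycab_inv_facts hx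
  obtain ⟨hx'2, hx'1, hx'i⟩ := cycab_inv_facts hx'
  obtain ⟨r, hr⟩ : ∃ r, r = x * x' := ⟨_, rfl⟩
  have hxr : x * r * x⁻¹ = r⁻¹ := by
    rw [hr, mul_inv_rev, hxi, hx'i]
    calc x * (x * x') * x = (x * x) * x' * x := by group
      _ = x' * x := by rw [← pow_two, hx2, one_mul]
  have hx'r : x' * r * x'⁻¹ = r⁻¹ := by
    rw [hr, mul_inv_rev, hxi, hx'i]
    calc x' * (x * x') * x' = x' * x * (x' * x') := by group
      _ = x' * x := by rw [← pow_two, hx'2, mul_one]
  have h3r : 3 ∣ orderOf r := by
    by_contra hnd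
    have hco : (orderOf r).Coprime 3 :=
      ((Nat.Prime.coprime_iff_not_dvd Nat.prime_three).mpr hnd).symm
    have hK : (Nat.card (zpowers r)).Coprime 3 := by rw [Nat.card_zpowers]; exact hco
    have hxN : x ∈ normalizer (zpowers r : Set G) := cycab_mem_normalizer_zpowers hx2 hxr
    have hcr := cycab_commute_of_coprime h.hyp.2 hK hxN (by rw [hx]; decide) r (mem_zpowers r)
    apply hnc
    rw [hr] at hcr
    have e : x * (x * x') = x * x' * x := hcr.eq
    show x * x' = x' * x
    exact mul_left_cancel (e.trans (mul_assoc x x' x))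
  obtain ⟨m, hm⟩ := h3r
  have hm0 : m ≠ 0 := by
    rintro rfl
    rw [mul_zero] at hm
    exact (orderOf_pos r).ne' hm
  obtain ⟨v, hv⟩ : ∃ v, v = r ^ m := ⟨_, rfl⟩
  have hvo : orderOf v = 3 := by
    rw [hv, orderOf_pow_of_dvd hm0 ⟨3, by rw [hm]; ring⟩, hm]
    exact Nat.mul_div_cancel 3 (Nat.pos_of_ne_zero hm0)
  have hv1 : v ≠ 1 := by
    intro h1
    rw [h1, orderOf_one] at hvo
    norm_num at hvo
  have hxv : x * v * x⁻¹ = v⁻¹ := by rw [hv, ← conj_pow, hxr, inv_pow]
  have hx'v : x' * v * x'⁻¹ = v⁻¹ := by rw [hv, ← conj_pow, hx'r, inv_pow]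
  have hvv : v⁻¹ ≠ v := by
    intro hvv
    have h2 : v ^ 2 = 1 := by
      rw [pow_two]
      nth_rewrite 1 [← hvv]
      exact inv_mul_cancel v
    have := orderOf_dvd_of_pow_eq_one h2
    rw [hvo] at this
    norm_num at this
  have hxnv : ¬ Commute x v := by
    intro hc
    apply hvv
    rw [← hxv, hc.eq]
    group
  have hU : IsPGroup 3 (zpowers v) :=
    IsPGroup.of_card (n := 1) (by rw [Nat.card_zpowers, hvo, pow_one])
  obtain ⟨P', hP'⟩ := hU.exists_le_sylow
  have hvP' : v ∈ P' := hP' (mem_zpowers v)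
  have hxH : x ∈ normalizer (zpowers v : Set G) := cycab_mem_normalizer_zpowers hx2 hxv
  have hx'H : x' ∈ normalizer (zpowers v : Set G) := cycab_mem_normalizer_zpowers hx'2 hx'v
  have hH : normalizer (zpowers v : Set G) ≠ ⊤ := by
    intro htop
    haveI : (zpowers v).Normal := normalizer_eq_top_iff.mp htop
    have hb := h.eq_bot_of_normal_pgroup (zpowers v) hU
    have hv' : v ∈ (⊥ : Subgroup G) := hb ▸ mem_zpowers v
    exact hv1 (mem_bot.mp hv')
  have hP'H : (P' : Subgroup G) ≤ normalizer (zpowers v : Set G) := by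
    refine le_trans ?_ (centralizer_le_normalizer _)
    intro w hw
    rw [mem_centralizer_iff]
    intro g hg
    exact (h.comm P' g (hP' hg) w hw).eq
  rcases h.sub _ hH with hnpc | hnorm
  · exfalso
    have hF := hnpc.frobCond
    have hmem := hF ((zpowers v).subgroupOf (normalizer (zpowers v : Set G))) hU.comap_subtype
      ⟨x, hxH⟩
      (by
        have := Subgroup.normalizer_eq_top
          (H := (zpowers v).subgroupOf (normalizer (zpowers v : Set G)))
        rw [this]; trivial)
      (by rw [Subgroup.orderOf_mk, hx]; decide)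
    rw [mem_centralizer_iff] at hmem
    have := hmem ⟨v, le_normalizer (mem_zpowers v)⟩ (mem_subgroupOf.mpr (mem_zpowers v))
    exact hxnv (congrArg Subtype.val this).symm
  · have hn := hnorm (P'.subtype hP'H)
    rw [Sylow.coe_subtype] at hn
    have hHN : normalizer (zpowers v : Set G) ≤ normalizer ((P' : Subgroup G) : Set G) :=
      (normal_subgroupOf_iff_le_normalizer hP'H).mp hn
    obtain ⟨-, -, z', hz'o, hz'c, hz'u⟩ := h.config P'
    have hcomm : ∀ g ∈ normalizer ((P' : Subgroup G) : Set G), Commute g z' := by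
      intro g hg
      rw [← hz'c, mem_centralizer_iff] at hg
      exact (hg z' rfl).symm
    refine ⟨z', hz'o, hcomm x (hHN hxH), hcomm x' (hHN hx'H), ?_⟩
    intro c hco hcx hcx'
    have hcr : Commute c r := by rw [hr]; exact hcx.symm.mul_right hcx'.symm
    have hcv : Commute c v := by rw [hv]; exact hcr.pow_right m
    have hcN : c ∈ normalizer ((P' : Subgroup G) : Set G) := by
      apply hHN
      apply centralizer_le_normalizer
      rw [mem_centralizer_iff]
      intro g hg
      obtain ⟨k, rfl⟩ := mem_zpowers_iff.mp hg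
      exact (hcv.zpow_right k).eq.symm
    have hcent := cycab_centralize_of_fix P'.isPGroup' (h.hyp.1 P') hcN (by rw [hco]; decide)
      hvP' hv1 hcv
    apply hz'u c _ hco
    rw [mem_centralizer_iff]
    intro g hg
    exact (hcent g hg).eq.symm

/-- the commuting graph on the involutions -/
def cycabGraph (G : Type u) [Group G] : SimpleGraph {x : G // orderOf x = 2} where
  Adj a b := a ≠ b ∧ Commute (a : G) (b : G)
  symm := ⟨fun _ _ hab => ⟨hab.1.symm, hab.2.symm⟩⟩
  loopless := ⟨fun _ haa => haa.1 rfl⟩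

omit [Finite G] in
theorem cycabGraph_adj (a b : {x : G // orderOf x = 2}) :
    (cycabGraph G).Adj a b ↔ a ≠ b ∧ Commute (a : G) (b : G) := Iff.rfl

theorem CycAbMin.false (h : CycAbMin p G) : False := by
  classical
  obtain ⟨P⟩ : Nonempty (Sylow p G) := inferInstance
  obtain ⟨-, h8, z, hzo, -, -⟩ := h.config P
  letI : Fintype {x : G // orderOf x = 2} := Fintype.ofFinite _
  haveI : Nonempty {x : G // orderOf x = 2} := ⟨⟨z, hzo⟩⟩
  haveI : Fact (Nat.Prime 2) := ⟨Nat.prime_two⟩
  have hF : Friendship (cycabGraph G) := by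
    intro a b hab
    have hab' : (a : G) ≠ (b : G) := fun e => hab (Subtype.ext e)
    obtain ⟨ha2, ha1, hai⟩ := cycab_inv_facts a.2
    obtain ⟨hb2, hb1, hbi⟩ := cycab_inv_facts b.2
    rw [Fintype.card_eq_one_iff]
    by_cases hc : Commute (a : G) (b : G)
    · have hab2 : orderOf ((a : G) * (b : G)) = 2 := by
        apply orderOf_eq_prime
        · rw [hc.mul_pow, ha2, hb2, one_mul]
        · intro h1
          apply hab'
          rw [← hbi]
          exact eq_inv_of_mul_eq_one_left h1
      refine ⟨⟨⟨(a : G) * (b : G), hab2⟩, ?_⟩, ?_⟩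
      · rw [SimpleGraph.mem_commonNeighbors, cycabGraph_adj, cycabGraph_adj]
        refine ⟨⟨?_, ?_⟩, ⟨?_, ?_⟩⟩
        · intro e
          exact hb1 (left_eq_mul.mp (congrArg Subtype.val e))
        · exact (Commute.refl _).mul_right hc
        · intro e
          exact ha1 (right_eq_mul.mp (congrArg Subtype.val e))
        · exact hc.symm.mul_right (Commute.refl _)
      · rintro ⟨c, hcn⟩
        rw [SimpleGraph.mem_commonNeighbors, cycabGraph_adj, cycabGraph_adj] at hcn
        obtain ⟨⟨hac, hac'⟩, ⟨hbc, hbc'⟩⟩ := hcn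
        apply Subtype.ext
        apply Subtype.ext
        exact cycab_klein a.2 b.2 c.2 hc hac'.symm hbc'.symm hab'
          (fun e => hac (Subtype.ext e.symm)) (fun e => hbc (Subtype.ext e.symm)) h8
    · obtain ⟨z', hz'o, hz'a, hz'b, hz'u⟩ := h.common a.2 b.2 hc
      refine ⟨⟨⟨z', hz'o⟩, ?_⟩, ?_⟩
      · rw [SimpleGraph.mem_commonNeighbors, cycabGraph_adj, cycabGraph_adj]
        refine ⟨⟨?_, hz'a⟩, ⟨?_, hz'b⟩⟩
        · intro e
          apply hc
          have e' : (a : G) = z' := congrArg Subtype.val e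
          rw [e']
          exact hz'b.symm
        · intro e
          apply hc
          have e' : (b : G) = z' := congrArg Subtype.val e
          rw [e']
          exact hz'a
      · rintro ⟨c, hcn⟩
        rw [SimpleGraph.mem_commonNeighbors, cycabGraph_adj, cycabGraph_adj] at hcn
        obtain ⟨⟨hac, hac'⟩, ⟨hbc, hbc'⟩⟩ := hcn
        apply Subtype.ext
        apply Subtype.ext
        exact hz'u c c.2 hac' hbc'
  obtain ⟨x₀, hx₀⟩ := friendship_theorem hF
  obtain ⟨hx2, hx1, hxi⟩ := cycab_inv_facts x₀.2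
  have hall : ∀ w : G, orderOf w = 2 → Commute (x₀ : G) w := by
    intro w hw
    by_cases e : x₀ = ⟨w, hw⟩
    · have e' : (x₀ : G) = w := congrArg Subtype.val e
      rw [e']
    · exact ((cycabGraph_adj _ _).mp (hx₀ ⟨w, hw⟩ e)).2
  have hle : Subgroup.normalClosure ({(x₀ : G)} : Set G) ≤ centralizer ({(x₀ : G)} : Set G) := by
    apply (closure_le _).mpr
    intro g hg
    rw [Group.mem_conjugatesOfSet_iff] at hg
    obtain ⟨b, hb, hconj⟩ := hg
    rw [Set.mem_singleton_iff] at hb
    subst hb
    obtain ⟨c, rfl⟩ := isConj_iff.mp hconj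
    rw [SetLike.mem_coe, mem_centralizer_iff]
    intro w hw
    rw [Set.mem_singleton_iff] at hw
    subst hw
    exact (hall _ (by rw [Helper70.orderOf_conj_eq]; exact x₀.2)).eq
  rcases h.simple (Subgroup.normalClosure ({(x₀ : G)} : Set G)) with hbot | htop
  · apply hx1
    have hm : (x₀ : G) ∈ Subgroup.normalClosure ({(x₀ : G)} : Set G) :=
      Subgroup.subset_normalClosure (Set.mem_singleton _)
    rw [hbot] at hm
    exact mem_bot.mp hm
  · apply hx1
    have hc : (x₀ : G) ∈ Subgroup.center G := by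
      rw [mem_center_iff]
      intro g
      have hg : g ∈ centralizer ({(x₀ : G)} : Set G) := hle (htop ▸ mem_top g)
      rw [mem_centralizer_iff] at hg
      exact (hg _ rfl).symm
    rw [h.center_eq_bot] at hc
    exact mem_bot.mp hc

theorem cycab_main_aux (p : ℕ) [hp : Fact p.Prime] :
    ∀ (n : ℕ) (G : Type u) [Group G] [Finite G], Nat.card G = n → CycAbHyp p G →
      CycAbConcl p G := by
  intro n
  induction n using Nat.strong_induction_on with
  | _ n ih =>
    intro G _ _ hn hyp
    by_contra hcon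
    have hmin : CycAbMin p G := by
      refine ⟨hyp, ?_, ?_, ?_⟩
      · intro H _ _ hlt hH
        exact ih (Nat.card H) (hn ▸ hlt) H rfl hH
      · intro hnpc
        exact hcon (Or.inl hnpc)
      · intro P hP
        exact hcon (Or.inr (cycab_all_normal_of_normal P hP))
    exact hmin.false

/-- **Cyclic Sylow `p`-subgroup and abelian `p'`-subgroups**: a normal `p`-complement or a
normal Sylow `p`-subgroup. -/
theorem cycab_main {G : Type u} [Group G] [Finite G] {p : ℕ} [hp : Fact p.Prime] (P : Sylow p G)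
    (hcyc : IsCyclic P) (hab : ∀ H : Subgroup G, ¬ p ∣ Nat.card H → IsMulCommutative H) :
    Cfsg.HasNormalPComplement p G ∨ (P : Subgroup G).Normal := by
  have hyp : CycAbHyp p G := by
    refine ⟨?_, ?_⟩
    · intro P'
      obtain ⟨g, rfl⟩ := MulAction.exists_smul_eq G P P'
      exact isCyclic_of_surjective (Sylow.equivSMul P g) (MulEquiv.surjective _)
    · intro H hH
      exact hab H ((Nat.Prime.coprime_iff_not_dvd hp.out).mp hH.symm)
  rcases cycab_main_aux p _ G rfl hyp with h | h
  · exact Or.inl (Helper70.hasNormalPComplement_iff_hasNPC.mpr h)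
  · exact Or.inr (h P)

end Cfsg.Agent.Helper64
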