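import Cfsg.Agent.Helper62.P15Defs

/-!
# CALL P15 (helper62), pieces SUPN, Q0N, NG, ANY2 (pure)
-/

set_option autoImplicit false

namespace Cfsg.Agent.Helper64

open Cfsg Subgroup Cfsg.Agent.Helper62

universe u

variable {G : Type u} [Group G] [Finite G]

/-- Conjugation by an element of the normalizer, both directions. -/
theorem p15_conj_mem {X : Subgroup G} {a : G} (ha : a ∈ normalizer (X : Set G)) {x : G} :
    a * x * a⁻¹ ∈ X ↔ x ∈ X := ((mem_normalizer_iff.mp ha) x).symm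

theorem p15_conj_mem' {X : Subgroup G} {a : G} (ha : a ∈ normalizer (X : Set G)) {x : G} :
    a⁻¹ * x * a ∈ X ↔ x ∈ X := by
  have h := (mem_normalizer_iff.mp (inv_mem ha)) x
  rw [inv_inv] at h
  exact h.symm

/-- SUPN [S]. A subgroup normalizing `X` and `Y` normalizes `X ⊔ Y`. PURE. -/
theorem p15_sup_norm (A X Y : Subgroup G) (hX : A ≤ normalizer (X : Set G))
    (hY : A ≤ normalizer (Y : Set G)) : A ≤ normalizer ((X ⊔ Y : Subgroup G) : Set G) := by
  have key : ∀ a ∈ A, ∀ n ∈ X ⊔ Y, a * n * a⁻¹ ∈ X ⊔ Y := by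
    intro a ha n hn
    have hle : X ⊔ Y ≤ (X ⊔ Y).comap (MulAut.conj a).toMonoidHom := by
      apply sup_le
      · intro x hx
        rw [mem_comap]
        exact mem_sup_left ((p15_conj_mem (hX ha)).mpr hx)
      · intro x hx
        rw [mem_comap]
        exact mem_sup_right ((p15_conj_mem (hY ha)).mpr hx)
    exact hle hn
  intro a ha
  rw [mem_normalizer_iff]
  intro n
  constructor
  · exact key a ha n
  · intro h
    have h2 := key a⁻¹ (inv_mem ha) _ h
    rw [inv_inv] at h2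
    have e : a⁻¹ * (a * n * a⁻¹) * a = n := by group
    rwa [e] at h2

/-- Q0N [S]. `K` and `D₁` normalize `C_Q(D₁)`. PURE. -/
theorem p15_Q0_norm (Q D₁ K : Subgroup G) (hKQ : K ≤ normalizer (Q : Set G))
    (hKD : K ≤ normalizer (D₁ : Set G)) (hDQ : D₁ ≤ normalizer (Q : Set G)) :
    K ≤ normalizer ((Q ⊓ centralizer (D₁ : Set G) : Subgroup G) : Set G) ∧
      D₁ ≤ normalizer ((Q ⊓ centralizer (D₁ : Set G) : Subgroup G) : Set G) := by
  -- an element normalizing `Q` and `D₁` normalizes `C_Q(D₁)`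
  have key : ∀ a : G, a ∈ normalizer (Q : Set G) → a ∈ normalizer (D₁ : Set G) →
      ∀ n ∈ Q ⊓ centralizer (D₁ : Set G), a * n * a⁻¹ ∈ Q ⊓ centralizer (D₁ : Set G) := by
    intro a haQ haD n hn
    refine mem_inf.mpr ⟨(p15_conj_mem haQ).mpr (mem_inf.mp hn).1, ?_⟩
    rw [mem_centralizer_iff]
    intro d hd
    have hd' : a⁻¹ * d * a ∈ D₁ := (p15_conj_mem' haD).mpr hd
    have hc := (mem_centralizer_iff.mp (mem_inf.mp hn).2) _ hd'
    calc d * (a * n * a⁻¹) = a * ((a⁻¹ * d * a) * n) * a⁻¹ := by group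
      _ = a * (n * (a⁻¹ * d * a)) * a⁻¹ := by rw [hc]
      _ = a * n * a⁻¹ * d := by group
  have norm_of : ∀ a : G, a ∈ normalizer (Q : Set G) → a ∈ normalizer (D₁ : Set G) →
      a ∈ normalizer ((Q ⊓ centralizer (D₁ : Set G) : Subgroup G) : Set G) := by
    intro a haQ haD
    rw [mem_normalizer_iff]
    intro n
    constructor
    · exact key a haQ haD n
    · intro h
      have h2 := key a⁻¹ (inv_mem haQ) (inv_mem haD) _ h
      rw [inv_inv] at h2
      have e : a⁻¹ * (a * n * a⁻¹) * a = n := by group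
      rwa [e] at h2
  exact ⟨fun k hk => norm_of k (hKQ hk) (hKD hk),
    fun d hd => norm_of d (hDQ hd) (le_normalizer hd)⟩

/-- NG [S]. Non-generators: `H Φ(Q) = Q` forces `H = Q` (`frattini_nongenerating` in `↥Q`).
PURE. -/
theorem p15_nongen (Q H : Subgroup G) (hHQ : H ≤ Q) (hsup : H ⊔ p15Phi Q = Q) : H = Q := by
  have h1 : H.subgroupOf Q ⊔ frattini ↥Q = ⊤ := by
    rw [eq_top_iff]
    intro x _
    have hx : (x : G) ∈ H ⊔ p15Phi Q := by rw [hsup]; exact x.2
    have hle : H ⊔ p15Phi Q ≤ (H.subgroupOf Q ⊔ frattini ↥Q).map Q.subtype := by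
      rw [Subgroup.map_sup]
      apply sup_le_sup
      · rw [Subgroup.map_subgroupOf_eq_of_le hHQ]
      · exact le_refl _
    obtain ⟨y, hy, hyx⟩ := mem_map.mp (hle hx)
    have : y = x := Subtype.ext hyx
    rwa [← this]
  have h2 : H.subgroupOf Q = ⊤ := frattini_nongenerating h1
  apply le_antisymm hHQ
  intro x hx
  have h3 : (⟨x, hx⟩ : ↥Q) ∈ H.subgroupOf Q := by rw [h2]; exact mem_top _
  exact mem_subgroupOf.mp h3

end Cfsg.Agent.Helper64
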