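import Cfsg.Agent.Helper64.P15SUPN

/-!
# CALL P15 (helper62), pieces ANY2, SEC3, ZQ
-/

set_option autoImplicit false

namespace Cfsg.Agent.Helper64

open Cfsg Subgroup Cfsg.Agent.Helper62

universe u

section Sec

variable {Γ : Type u} [Group Γ] [Finite Γ]

/-- SEC3 [S-M]. Counting: a nontrivial subgroup `C` of the image of `Z ⊓ W` (`|Z| = q` prime)
has order `q`; then `Z ≤ W`, `Z ⊓ Φ = ⊥`; and `|W/Φ| = |W : Φ|`. -/
theorem p15_sec3 (Z Φ W : Subgroup Γ) [Φ.Normal] {q : ℕ} (hq : q.Prime) (hΦW : Φ ≤ W)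
    (hZ : Nat.card Z = q) (C : Subgroup (Γ ⧸ Φ)) (hC : C ≤ (Z ⊓ W).map (QuotientGroup.mk' Φ))
    (hC1 : C ≠ ⊥) :
    Nat.card C = q ∧ Z ≤ W ∧ Z ⊓ Φ = ⊥ ∧
      Nat.card ↥(W.map (QuotientGroup.mk' Φ)) = Φ.relIndex W := by
  have h1 : Nat.card C ∣ Nat.card ((Z ⊓ W).map (QuotientGroup.mk' Φ)) := card_dvd_of_le hC
  have h2 : Nat.card ((Z ⊓ W).map (QuotientGroup.mk' Φ)) ∣ Nat.card (Z ⊓ W : Subgroup Γ) :=
    card_map_dvd _ _
  have h3 : Nat.card (Z ⊓ W : Subgroup Γ) ∣ q := by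
    rw [← hZ]
    exact card_dvd_of_le inf_le_left
  have hCne : Nat.card C ≠ 1 := fun h => hC1 (card_eq_one.mp h)
  have hCq : Nat.card C = q :=
    ((Nat.dvd_prime hq).mp (h1.trans (h2.trans h3))).resolve_left hCne
  have hmq : Nat.card ((Z ⊓ W).map (QuotientGroup.mk' Φ)) = q := by
    rcases (Nat.dvd_prime hq).mp (h2.trans h3) with h | h
    · exfalso
      rw [h] at h1
      exact hCne (Nat.dvd_one.mp h1)
    · exact h
  have hzw : Nat.card (Z ⊓ W : Subgroup Γ) = q := by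
    rcases (Nat.dvd_prime hq).mp h3 with h | h
    · exfalso
      rw [h] at h2
      rw [Nat.dvd_one.mp h2] at hmq
      exact hq.one_lt.ne hmq
    · exact h
  have hZW : Z ≤ W := by
    have h4 : Z ⊓ W = Z := eq_of_le_of_card_ge inf_le_left (by rw [hzw, hZ])
    rw [← h4]
    exact inf_le_right
  refine ⟨hCq, hZW, ?_, ?_⟩
  · have h4 : Φ.relIndex (Z ⊓ W) = q := by
      rw [← hmq, ← relIndex_ker, QuotientGroup.ker_mk']
    have h5 : Nat.card (Φ.subgroupOf (Z ⊓ W)) * (Φ.subgroupOf (Z ⊓ W)).index =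
        Nat.card (Z ⊓ W : Subgroup Γ) := card_mul_index _
    have h4' : (Φ.subgroupOf (Z ⊓ W)).index = q := h4
    rw [hzw, h4'] at h5
    have h6 : Nat.card (Φ.subgroupOf (Z ⊓ W)) = 1 :=
      Nat.eq_of_mul_eq_mul_right hq.pos (by rw [h5, one_mul])
    have h7 : Φ.subgroupOf (Z ⊓ W) = ⊥ := card_eq_one.mp h6
    have h8 : Disjoint Φ (Z ⊓ W) := subgroupOf_eq_bot.mp h7
    rw [inf_eq_left.mpr hZW] at h8
    exact disjoint_iff.mp h8.symm
  · rw [← relIndex_ker, QuotientGroup.ker_mk']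

end Sec

section Amb

variable {G : Type u} [Group G] [Finite G]

variable {M L Q K Z : Subgroup G} {q : ℕ}

/-- ZQ [S-M]. `Z ≤ Q` (a subgroup of order `q` of `L` lies in the normal Sylow `q`-subgroup
`Q`), `Z` centralizes `K` (`Z = L ⊓ C(k)` for EVERY `1 ≠ k ∈ K`), and `|K|` is prime to `q`
(`q ∣ |L|`). -/
theorem p15_Z_le (h : P15 M L Q K Z q) :
    Z ≤ Q ∧ Z ≤ centralizer (K : Set G) ∧ (Nat.card K).Coprime q := by
  have hq := h.hq
  haveI := Fact.mk hq
  -- a nontrivial element of `K`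
  obtain ⟨k₀, hk₀, hk₀1⟩ : ∃ k ∈ K, k ≠ 1 := by
    by_contra hcon
    push_neg at hcon
    exact h.hK1 ((eq_bot_iff_forall K).mpr hcon)
  have hZL : Z ≤ L := by
    rw [← h.hpr k₀ hk₀ hk₀1]
    exact inf_le_left
  have hqL : q ∣ Nat.card L := by
    rw [← h.hZ]
    exact card_dvd_of_le hZL
  have hZq : IsPGroup q Z := IsPGroup.of_card (n := 1) (by rw [h.hZ, pow_one])
  have hZN : Z ≤ normalizer (Q : Set G) := hZL.trans (h.hLM.trans h.hQn)
  have hsup : IsPGroup q (Z ⊔ Q : Subgroup G) := IsPGroup.to_sup_of_normal_right' hZq h.hQq hZN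
  have hsupL : Z ⊔ Q ≤ L := sup_le hZL h.hQL
  have hrel : Q.relIndex (Z ⊔ Q) = 1 := by
    by_contra hne
    have hd1 : Q.relIndex (Z ⊔ Q) ∣ Q.relIndex L :=
      Dvd.intro _ (relIndex_mul_relIndex Q (Z ⊔ Q) L le_sup_right hsupL)
    have hd2 : Q.relIndex (Z ⊔ Q) ∣ Nat.card (Z ⊔ Q : Subgroup G) := relIndex_dvd_card Q (Z ⊔ Q)
    obtain ⟨n, hn⟩ := IsPGroup.iff_card.mp hsup
    rw [hn] at hd2
    obtain ⟨j, -, hj⟩ := (Nat.dvd_prime_pow hq).mp hd2
    have hj0 : j ≠ 0 := by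
      rintro rfl
      rw [pow_zero] at hj
      exact hne hj
    have hqd : q ∣ Q.relIndex (Z ⊔ Q) := by
      rw [hj]
      exact dvd_pow_self q hj0
    exact h.hidx (hqd.trans hd1)
  refine ⟨le_sup_left.trans (relIndex_eq_one.mp hrel), ?_, ?_⟩
  · intro z hz
    rw [mem_centralizer_iff]
    intro k hk
    by_cases hk1 : k = 1
    · rw [hk1, one_mul, mul_one]
    · have hz' : z ∈ L ⊓ centralizer ({k} : Set G) := by rw [h.hpr k hk hk1]; exact hz
      exact (mem_centralizer_iff.mp (mem_inf.mp hz').2) k (Set.mem_singleton k)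
  · exact Nat.Coprime.coprime_dvd_right hqL h.hcop

/-- ANY2 [S-M]. Transport along the conjugation of ANY. PURE. -/
theorem p15_any2 (Q D₁ D : Subgroup G) (y : G) (hy : y ∈ Q)
    (hconj : ∀ x, x ∈ D ↔ y⁻¹ * x * y ∈ D₁)
    (hQ0n : Q ≤ normalizer ((Q ⊓ centralizer (D₁ : Set G) : Subgroup G) : Set G)) :
    Q ⊓ centralizer (D : Set G) = Q ⊓ centralizer (D₁ : Set G) ∧
      (Group.IsNilpotent ↥D₁ → Group.IsNilpotent ↥D) := by
  constructor
  · ext n
    have key : n ∈ Q ⊓ centralizer (D : Set G) ↔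
        y⁻¹ * n * y ∈ Q ⊓ centralizer (D₁ : Set G) := by
      rw [mem_inf, mem_inf]
      have hQ : y⁻¹ * n * y ∈ Q ↔ n ∈ Q := by
        constructor
        · intro h1
          have h2 := Q.mul_mem (Q.mul_mem hy h1) (Q.inv_mem hy)
          have e : y * (y⁻¹ * n * y) * y⁻¹ = n := by group
          rwa [e] at h2
        · intro h1
          exact Q.mul_mem (Q.mul_mem (Q.inv_mem hy) h1) hy
      rw [hQ]
      apply and_congr_right
      intro _
      rw [mem_centralizer_iff, mem_centralizer_iff]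
      constructor
      · intro hc d hd
        have hd' : y * d * y⁻¹ ∈ D := by
          rw [hconj]
          have e : y⁻¹ * (y * d * y⁻¹) * y = d := by group
          rw [e]
          exact hd
        have h1 := hc _ hd'
        calc d * (y⁻¹ * n * y) = y⁻¹ * ((y * d * y⁻¹) * n) * y := by group
          _ = y⁻¹ * (n * (y * d * y⁻¹)) * y := by rw [h1]
          _ = y⁻¹ * n * y * d := by group
      · intro hc d hd
        have hd' : y⁻¹ * d * y ∈ D₁ := (hconj d).mp hd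
        have h1 := hc _ hd'
        calc d * n = y * ((y⁻¹ * d * y) * (y⁻¹ * n * y)) * y⁻¹ := by group
          _ = y * ((y⁻¹ * n * y) * (y⁻¹ * d * y)) * y⁻¹ := by rw [h1]
          _ = n * d := by group
    rw [key]
    exact p15_conj_mem' (hQ0n hy)
  · intro hnil
    have hD : D = D₁.map (MulAut.conj y).toMonoidHom := by
      ext x
      rw [hconj, mem_map]
      constructor
      · intro h1
        refine ⟨_, h1, ?_⟩
        show y * (y⁻¹ * x * y) * y⁻¹ = x
        group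
      · rintro ⟨d, hd, rfl⟩
        have e : y⁻¹ * ((MulAut.conj y).toMonoidHom d) * y = d := by
          show y⁻¹ * (y * d * y⁻¹) * y = d
          group
        rw [e]
        exact hd
    rw [hD]
    exact Group.nilpotent_of_mulEquiv (D₁.equivMapOfInjective _ (MulAut.conj y).injective)

end Amb

end Cfsg.Agent.Helper64
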