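-- helper64: explicit data for the normaliser of a Sylow 3-subgroup of SU_3(5): the 27 elements
-- om^k * hd^i * hs^j (index 9k + 3i + j), their multiplication table, their action on the 36
-- points of D25M, and for every non-central element A an element K of 3^(1+2):Q_8 with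
-- K * A = hd * K.  Machine generated; all facts are checked by the kernel via `decide`.
import Cfsg.Agent.Helper64.SU3Data25M

set_option autoImplicit false
set_option maxRecDepth 100000
set_option maxHeartbeats 4000000
open Matrix

namespace Cfsg.Agent.Helper64.SU3.D25E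

open Cfsg.Agent.Helper64.SU3

def P27 : List (Matrix (Fin 3) (Fin 3) K25) := [!![⟨1, 0⟩, ⟨0, 0⟩, ⟨0, 0⟩; ⟨0, 0⟩, ⟨1, 0⟩, ⟨0, 0⟩; ⟨0, 0⟩, ⟨0, 0⟩, ⟨1, 0⟩],
  !![⟨0, 0⟩, ⟨0, 0⟩, ⟨1, 0⟩; ⟨1, 0⟩, ⟨0, 0⟩, ⟨0, 0⟩; ⟨0, 0⟩, ⟨1, 0⟩, ⟨0, 0⟩],
  !![⟨0, 0⟩, ⟨1, 0⟩, ⟨0, 0⟩; ⟨0, 0⟩, ⟨0, 0⟩, ⟨1, 0⟩; ⟨1, 0⟩, ⟨0, 0⟩, ⟨0, 0⟩],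
  !![⟨1, 0⟩, ⟨0, 0⟩, ⟨0, 0⟩; ⟨0, 0⟩, ⟨0, 1⟩, ⟨0, 0⟩; ⟨0, 0⟩, ⟨0, 0⟩, ⟨4, 4⟩],
  !![⟨0, 0⟩, ⟨0, 0⟩, ⟨1, 0⟩; ⟨0, 1⟩, ⟨0, 0⟩, ⟨0, 0⟩; ⟨0, 0⟩, ⟨4, 4⟩, ⟨0, 0⟩],
  !![⟨0, 0⟩, ⟨1, 0⟩, ⟨0, 0⟩; ⟨0, 0⟩, ⟨0, 0⟩, ⟨0, 1⟩; ⟨4, 4⟩, ⟨0, 0⟩, ⟨0, 0⟩],
  !![⟨1, 0⟩, ⟨0, 0⟩, ⟨0, 0⟩; ⟨0, 0⟩, ⟨4, 4⟩, ⟨0, 0⟩; ⟨0, 0⟩, ⟨0, 0⟩, ⟨0, 1⟩],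
  !![⟨0, 0⟩, ⟨0, 0⟩, ⟨1, 0⟩; ⟨4, 4⟩, ⟨0, 0⟩, ⟨0, 0⟩; ⟨0, 0⟩, ⟨0, 1⟩, ⟨0, 0⟩],
  !![⟨0, 0⟩, ⟨1, 0⟩, ⟨0, 0⟩; ⟨0, 0⟩, ⟨0, 0⟩, ⟨4, 4⟩; ⟨0, 1⟩, ⟨0, 0⟩, ⟨0, 0⟩],
  !![⟨0, 1⟩, ⟨0, 0⟩, ⟨0, 0⟩; ⟨0, 0⟩, ⟨0, 1⟩, ⟨0, 0⟩; ⟨0, 0⟩, ⟨0, 0⟩, ⟨0, 1⟩],
  !![⟨0, 0⟩, ⟨0, 0⟩, ⟨0, 1⟩; ⟨0, 1⟩, ⟨0, 0⟩, ⟨0, 0⟩; ⟨0, 0⟩, ⟨0, 1⟩, ⟨0, 0⟩],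
  !![⟨0, 0⟩, ⟨0, 1⟩, ⟨0, 0⟩; ⟨0, 0⟩, ⟨0, 0⟩, ⟨0, 1⟩; ⟨0, 1⟩, ⟨0, 0⟩, ⟨0, 0⟩],
  !![⟨0, 1⟩, ⟨0, 0⟩, ⟨0, 0⟩; ⟨0, 0⟩, ⟨4, 4⟩, ⟨0, 0⟩; ⟨0, 0⟩, ⟨0, 0⟩, ⟨1, 0⟩],
  !![⟨0, 0⟩, ⟨0, 0⟩, ⟨0, 1⟩; ⟨4, 4⟩, ⟨0, 0⟩, ⟨0, 0⟩; ⟨0, 0⟩, ⟨1, 0⟩, ⟨0, 0⟩],
  !![⟨0, 0⟩, ⟨0, 1⟩, ⟨0, 0⟩; ⟨0, 0⟩, ⟨0, 0⟩, ⟨4, 4⟩; ⟨1, 0⟩, ⟨0, 0⟩, ⟨0, 0⟩],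
  !![⟨0, 1⟩, ⟨0, 0⟩, ⟨0, 0⟩; ⟨0, 0⟩, ⟨1, 0⟩, ⟨0, 0⟩; ⟨0, 0⟩, ⟨0, 0⟩, ⟨4, 4⟩],
  !![⟨0, 0⟩, ⟨0, 0⟩, ⟨0, 1⟩; ⟨1, 0⟩, ⟨0, 0⟩, ⟨0, 0⟩; ⟨0, 0⟩, ⟨4, 4⟩, ⟨0, 0⟩],
  !![⟨0, 0⟩, ⟨0, 1⟩, ⟨0, 0⟩; ⟨0, 0⟩, ⟨0, 0⟩, ⟨1, 0⟩; ⟨4, 4⟩, ⟨0, 0⟩, ⟨0, 0⟩],
  !![⟨4, 4⟩, ⟨0, 0⟩, ⟨0, 0⟩; ⟨0, 0⟩, ⟨4, 4⟩, ⟨0, 0⟩; ⟨0, 0⟩, ⟨0, 0⟩, ⟨4, 4⟩],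
  !![⟨0, 0⟩, ⟨0, 0⟩, ⟨4, 4⟩; ⟨4, 4⟩, ⟨0, 0⟩, ⟨0, 0⟩; ⟨0, 0⟩, ⟨4, 4⟩, ⟨0, 0⟩],
  !![⟨0, 0⟩, ⟨4, 4⟩, ⟨0, 0⟩; ⟨0, 0⟩, ⟨0, 0⟩, ⟨4, 4⟩; ⟨4, 4⟩, ⟨0, 0⟩, ⟨0, 0⟩],
  !![⟨4, 4⟩, ⟨0, 0⟩, ⟨0, 0⟩; ⟨0, 0⟩, ⟨1, 0⟩, ⟨0, 0⟩; ⟨0, 0⟩, ⟨0, 0⟩, ⟨0, 1⟩],
  !![⟨0, 0⟩, ⟨0, 0⟩, ⟨4, 4⟩; ⟨1, 0⟩, ⟨0, 0⟩, ⟨0, 0⟩; ⟨0, 0⟩, ⟨0, 1⟩, ⟨0, 0⟩],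
  !![⟨0, 0⟩, ⟨4, 4⟩, ⟨0, 0⟩; ⟨0, 0⟩, ⟨0, 0⟩, ⟨1, 0⟩; ⟨0, 1⟩, ⟨0, 0⟩, ⟨0, 0⟩],
  !![⟨4, 4⟩, ⟨0, 0⟩, ⟨0, 0⟩; ⟨0, 0⟩, ⟨0, 1⟩, ⟨0, 0⟩; ⟨0, 0⟩, ⟨0, 0⟩, ⟨1, 0⟩],
  !![⟨0, 0⟩, ⟨0, 0⟩, ⟨4, 4⟩; ⟨0, 1⟩, ⟨0, 0⟩, ⟨0, 0⟩; ⟨0, 0⟩, ⟨1, 0⟩, ⟨0, 0⟩],
  !![⟨0, 0⟩, ⟨4, 4⟩, ⟨0, 0⟩; ⟨0, 0⟩, ⟨0, 0⟩, ⟨0, 1⟩; ⟨1, 0⟩, ⟨0, 0⟩, ⟨0, 0⟩]]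
def P27i : List (Matrix (Fin 3) (Fin 3) K25) := [!![⟨1, 0⟩, ⟨0, 0⟩, ⟨0, 0⟩; ⟨0, 0⟩, ⟨1, 0⟩, ⟨0, 0⟩; ⟨0, 0⟩, ⟨0, 0⟩, ⟨1, 0⟩],
  !![⟨0, 0⟩, ⟨1, 0⟩, ⟨0, 0⟩; ⟨0, 0⟩, ⟨0, 0⟩, ⟨1, 0⟩; ⟨1, 0⟩, ⟨0, 0⟩, ⟨0, 0⟩],
  !![⟨0, 0⟩, ⟨0, 0⟩, ⟨1, 0⟩; ⟨1, 0⟩, ⟨0, 0⟩, ⟨0, 0⟩; ⟨0, 0⟩, ⟨1, 0⟩, ⟨0, 0⟩],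
  !![⟨1, 0⟩, ⟨0, 0⟩, ⟨0, 0⟩; ⟨0, 0⟩, ⟨4, 4⟩, ⟨0, 0⟩; ⟨0, 0⟩, ⟨0, 0⟩, ⟨0, 1⟩],
  !![⟨0, 0⟩, ⟨4, 4⟩, ⟨0, 0⟩; ⟨0, 0⟩, ⟨0, 0⟩, ⟨0, 1⟩; ⟨1, 0⟩, ⟨0, 0⟩, ⟨0, 0⟩],
  !![⟨0, 0⟩, ⟨0, 0⟩, ⟨0, 1⟩; ⟨1, 0⟩, ⟨0, 0⟩, ⟨0, 0⟩; ⟨0, 0⟩, ⟨4, 4⟩, ⟨0, 0⟩],
  !![⟨1, 0⟩, ⟨0, 0⟩, ⟨0, 0⟩; ⟨0, 0⟩, ⟨0, 1⟩, ⟨0, 0⟩; ⟨0, 0⟩, ⟨0, 0⟩, ⟨4, 4⟩],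
  !![⟨0, 0⟩, ⟨0, 1⟩, ⟨0, 0⟩; ⟨0, 0⟩, ⟨0, 0⟩, ⟨4, 4⟩; ⟨1, 0⟩, ⟨0, 0⟩, ⟨0, 0⟩],
  !![⟨0, 0⟩, ⟨0, 0⟩, ⟨4, 4⟩; ⟨1, 0⟩, ⟨0, 0⟩, ⟨0, 0⟩; ⟨0, 0⟩, ⟨0, 1⟩, ⟨0, 0⟩],
  !![⟨4, 4⟩, ⟨0, 0⟩, ⟨0, 0⟩; ⟨0, 0⟩, ⟨4, 4⟩, ⟨0, 0⟩; ⟨0, 0⟩, ⟨0, 0⟩, ⟨4, 4⟩],
  !![⟨0, 0⟩, ⟨4, 4⟩, ⟨0, 0⟩; ⟨0, 0⟩, ⟨0, 0⟩, ⟨4, 4⟩; ⟨4, 4⟩, ⟨0, 0⟩, ⟨0, 0⟩],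
  !![⟨0, 0⟩, ⟨0, 0⟩, ⟨4, 4⟩; ⟨4, 4⟩, ⟨0, 0⟩, ⟨0, 0⟩; ⟨0, 0⟩, ⟨4, 4⟩, ⟨0, 0⟩],
  !![⟨4, 4⟩, ⟨0, 0⟩, ⟨0, 0⟩; ⟨0, 0⟩, ⟨0, 1⟩, ⟨0, 0⟩; ⟨0, 0⟩, ⟨0, 0⟩, ⟨1, 0⟩],
  !![⟨0, 0⟩, ⟨0, 1⟩, ⟨0, 0⟩; ⟨0, 0⟩, ⟨0, 0⟩, ⟨1, 0⟩; ⟨4, 4⟩, ⟨0, 0⟩, ⟨0, 0⟩],
  !![⟨0, 0⟩, ⟨0, 0⟩, ⟨1, 0⟩; ⟨4, 4⟩, ⟨0, 0⟩, ⟨0, 0⟩; ⟨0, 0⟩, ⟨0, 1⟩, ⟨0, 0⟩],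
  !![⟨4, 4⟩, ⟨0, 0⟩, ⟨0, 0⟩; ⟨0, 0⟩, ⟨1, 0⟩, ⟨0, 0⟩; ⟨0, 0⟩, ⟨0, 0⟩, ⟨0, 1⟩],
  !![⟨0, 0⟩, ⟨1, 0⟩, ⟨0, 0⟩; ⟨0, 0⟩, ⟨0, 0⟩, ⟨0, 1⟩; ⟨4, 4⟩, ⟨0, 0⟩, ⟨0, 0⟩],
  !![⟨0, 0⟩, ⟨0, 0⟩, ⟨0, 1⟩; ⟨4, 4⟩, ⟨0, 0⟩, ⟨0, 0⟩; ⟨0, 0⟩, ⟨1, 0⟩, ⟨0, 0⟩],
  !![⟨0, 1⟩, ⟨0, 0⟩, ⟨0, 0⟩; ⟨0, 0⟩, ⟨0, 1⟩, ⟨0, 0⟩; ⟨0, 0⟩, ⟨0, 0⟩, ⟨0, 1⟩],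
  !![⟨0, 0⟩, ⟨0, 1⟩, ⟨0, 0⟩; ⟨0, 0⟩, ⟨0, 0⟩, ⟨0, 1⟩; ⟨0, 1⟩, ⟨0, 0⟩, ⟨0, 0⟩],
  !![⟨0, 0⟩, ⟨0, 0⟩, ⟨0, 1⟩; ⟨0, 1⟩, ⟨0, 0⟩, ⟨0, 0⟩; ⟨0, 0⟩, ⟨0, 1⟩, ⟨0, 0⟩],
  !![⟨0, 1⟩, ⟨0, 0⟩, ⟨0, 0⟩; ⟨0, 0⟩, ⟨1, 0⟩, ⟨0, 0⟩; ⟨0, 0⟩, ⟨0, 0⟩, ⟨4, 4⟩],
  !![⟨0, 0⟩, ⟨1, 0⟩, ⟨0, 0⟩; ⟨0, 0⟩, ⟨0, 0⟩, ⟨4, 4⟩; ⟨0, 1⟩, ⟨0, 0⟩, ⟨0, 0⟩],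
  !![⟨0, 0⟩, ⟨0, 0⟩, ⟨4, 4⟩; ⟨0, 1⟩, ⟨0, 0⟩, ⟨0, 0⟩; ⟨0, 0⟩, ⟨1, 0⟩, ⟨0, 0⟩],
  !![⟨0, 1⟩, ⟨0, 0⟩, ⟨0, 0⟩; ⟨0, 0⟩, ⟨4, 4⟩, ⟨0, 0⟩; ⟨0, 0⟩, ⟨0, 0⟩, ⟨1, 0⟩],
  !![⟨0, 0⟩, ⟨4, 4⟩, ⟨0, 0⟩; ⟨0, 0⟩, ⟨0, 0⟩, ⟨1, 0⟩; ⟨0, 1⟩, ⟨0, 0⟩, ⟨0, 0⟩],
  !![⟨0, 0⟩, ⟨0, 0⟩, ⟨1, 0⟩; ⟨0, 1⟩, ⟨0, 0⟩, ⟨0, 0⟩; ⟨0, 0⟩, ⟨4, 4⟩, ⟨0, 0⟩]]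
def pe (n : ℕ) : Matrix (Fin 3) (Fin 3) K25 := P27.getD n 0
def pei (n : ℕ) : Matrix (Fin 3) (Fin 3) K25 := P27i.getD n 0
def mulL : List (List ℕ) := [[0, 1, 2, 3, 4, 5, 6, 7, 8, 9, 10, 11, 12, 13, 14, 15, 16, 17, 18, 19, 20, 21, 22, 23, 24, 25, 26], [1, 2, 0, 22, 23, 21, 16, 17, 15, 10, 11, 9, 4, 5, 3, 25, 26, 24, 19, 20, 18, 13, 14, 12, 7, 8, 6], [2, 0, 1, 14, 12, 13, 26, 24, 25, 11, 9, 10, 23, 21, 22, 8, 6, 7, 20, 18, 19, 5, 3, 4, 17, 15, 16], [3, 4, 5, 6, 7, 8, 0, 1, 2, 12, 13, 14, 15, 16, 17, 9, 10,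 11, 21, 22, 23, 24, 25, 26, 18, 19, 20], [4, 5, 3, 25, 26, 24, 10, 11, 9, 13, 14, 12, 7, 8, 6, 19, 20, 18, 22, 23, 21, 16, 17, 15, 1, 2, 0], [5, 3, 4, 17, 15, 16, 20, 18, 19, 14, 12, 13, 26, 24, 25, 2, 0, 1, 23, 21, 22, 8, 6, 7, 11, 9, 10], [6, 7, 8, 0, 1, 2, 3, 4, 5, 15, 16, 17, 9, 10, 11, 12, 13, 14, 24, 25, 26, 18, 19, 20, 21, 22, 23], [7, 8, 6, 19, 20, 18, 13, 14, 12, 16, 17, 15, 1, 2, 0, 22, 23, 21, 25, 26, 24, 10, 11, 9, 4, 5, 3], [8, 6, 7, 11, 9, 10, 23, 21, 22, 17, 15, 16, 20, 18, 19, 5, 3, 4, 26,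 24, 25, 2, 0, 1, 14, 12, 13], [9, 10, 11, 12, 13, 14, 15, 16, 17, 18, 19, 20, 21, 22, 23, 24, 25, 26, 0, 1, 2, 3, 4, 5, 6, 7, 8], [10, 11, 9, 4, 5, 3, 25, 26, 24, 19, 20, 18, 13, 14, 12, 7, 8, 6, 1, 2, 0, 22, 23, 21, 16, 17, 15], [11, 9, 10, 23, 21, 22, 8, 6, 7, 20, 18, 19, 5, 3, 4, 17, 15, 16, 2, 0, 1, 14, 12, 13, 26, 24, 25], [12, 13, 14, 15, 16, 17, 9, 10, 11, 21, 22, 23, 24, 25, 26, 18, 19, 20, 3, 4, 5, 6, 7, 8, 0, 1, 2], [13, 14, 12, 7, 8, 6, 19, 20, 18, 22, 23, 21, 16, 17, 15, 1, 2, 0, 4, 5, 3, 25,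 26, 24, 10, 11, 9], [14, 12, 13, 26, 24, 25, 2, 0, 1, 23, 21, 22, 8, 6, 7, 11, 9, 10, 5, 3, 4, 17, 15, 16, 20, 18, 19], [15, 16, 17, 9, 10, 11, 12, 13, 14, 24, 25, 26, 18, 19, 20, 21, 22, 23, 6, 7, 8, 0, 1, 2, 3, 4, 5], [16, 17, 15, 1, 2, 0, 22, 23, 21, 25, 26, 24, 10, 11, 9, 4, 5, 3, 7, 8, 6, 19, 20, 18, 13, 14, 12], [17, 15, 16, 20, 18, 19, 5, 3, 4, 26, 24, 25, 2, 0, 1, 14, 12, 13, 8, 6, 7, 11, 9, 10, 23, 21, 22], [18, 19, 20, 21, 22, 23, 24, 25, 26, 0, 1, 2, 3, 4, 5, 6, 7, 8, 9, 10, 11, 12, 13, 14, 15,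 16, 17], [19, 20, 18, 13, 14, 12, 7, 8, 6, 1, 2, 0, 22, 23, 21, 16, 17, 15, 10, 11, 9, 4, 5, 3, 25, 26, 24], [20, 18, 19, 5, 3, 4, 17, 15, 16, 2, 0, 1, 14, 12, 13, 26, 24, 25, 11, 9, 10, 23, 21, 22, 8, 6, 7], [21, 22, 23, 24, 25, 26, 18, 19, 20, 3, 4, 5, 6, 7, 8, 0, 1, 2, 12, 13, 14, 15, 16, 17, 9, 10, 11], [22, 23, 21, 16, 17, 15, 1, 2, 0, 4, 5, 3, 25, 26, 24, 10, 11, 9, 13, 14, 12, 7, 8, 6, 19, 20, 18], [23, 21, 22, 8, 6, 7, 11, 9, 10, 5, 3, 4, 17, 15, 16, 20, 18, 19, 14, 12, 13, 26, 24, 25, 2, 0, 1], [24,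 25, 26, 18, 19, 20, 21, 22, 23, 6, 7, 8, 0, 1, 2, 3, 4, 5, 15, 16, 17, 9, 10, 11, 12, 13, 14], [25, 26, 24, 10, 11, 9, 4, 5, 3, 7, 8, 6, 19, 20, 18, 13, 14, 12, 16, 17, 15, 1, 2, 0, 22, 23, 21], [26, 24, 25, 2, 0, 1, 14, 12, 13, 8, 6, 7, 11, 9, 10, 23, 21, 22, 17, 15, 16, 20, 18, 19, 5, 3, 4]]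
def mulT (a b : ℕ) : ℕ := (mulL.getD a []).getD b 0
def invL : List ℕ := [0, 2, 1, 6, 26, 16, 3, 14, 22, 18, 20, 19, 24, 17, 7, 21, 5, 13, 9, 11, 10, 15, 8, 25, 12, 23, 4]
theorem pe_inv : ∀ n < 27, pei n * pe n = 1 := by decide +kernel
theorem pe_unitary : ∀ n < 27, (pe n).transpose * (pe n).map (fun x => x ^ 5) = 1 := by decide +kernel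
theorem pe_det : ∀ n < 27, (pe n).det = 1 := by decide +kernel
theorem pe_pow : ∀ n < 27, pe n ^ 3 = 1 := by decide +kernel
theorem pe_mul : ∀ a < 27, ∀ b < 27, mulT a b < 27 ∧ pe a * pe b = pe (mulT a b) := by decide +kernel
theorem pe_invIdx : ∀ a < 27, invL.getD a 0 < 27 ∧ pei a = pe (invL.getD a 0) := by decide +kernel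
theorem pe_inj : ∀ a < 27, ∀ b < 27, pe a = pe b → a = b := by decide +kernel
theorem pe_zero : pe 0 = 1 := by decide +kernel
theorem pe_hd : pe 3 = D25M.hd := by decide +kernel
theorem pe_hs : pe 1 = D25M.hs := by decide +kernel
theorem pe_central : ∀ n < 27, n % 9 = 0 → pe n = (pe n 0 0) • (1 : Matrix (Fin 3) (Fin 3) K25) := by decide +kernel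
def peP : List (List ℕ) := [[0, 1, 2, 3, 4, 5, 6, 7, 8, 9, 10, 11, 12, 13, 14, 15, 16, 17, 18, 19, 20, 21, 22, 23, 24, 25, 26, 27, 28, 29, 30, 31, 32, 33, 34, 35],
  [22, 20, 10, 16, 23, 11, 28, 19, 0, 33, 14, 27, 1, 6, 2, 34, 30, 26, 15, 31, 12, 24, 8, 25, 32, 4, 35, 5, 13, 9, 3, 7, 21, 29, 18, 17],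
  [8, 12, 14, 30, 25, 27, 13, 31, 22, 29, 2, 5, 20, 28, 10, 18, 3, 35, 34, 7, 1, 32, 0, 4, 21, 23, 17, 11, 6, 33, 16, 19, 24, 9, 15, 26],
  [6, 4, 7, 5, 33, 34, 32, 35, 13, 12, 19, 18, 25, 24, 31, 30, 11, 10, 16, 17, 23, 22, 28, 29, 8, 9, 14, 15, 21, 20, 27, 26, 0, 1, 3, 2],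
  [28, 23, 19, 11, 29, 18, 21, 17, 6, 1, 31, 15, 4, 32, 7, 3, 27, 14, 30, 26, 25, 8, 13, 9, 0, 33, 2, 34, 24, 12, 5, 35, 22, 20, 16, 10],
  [13, 25, 31, 27, 9, 15, 24, 26, 28, 20, 7, 34, 23, 21, 19, 16, 5, 2, 3, 35, 4, 0, 6, 33, 22, 29, 10, 18, 32, 1, 11, 17, 8, 12, 30, 14],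
  [32, 33, 35, 34, 1, 3, 0, 2, 24, 25, 17, 16, 9, 8, 26, 27, 18, 19, 11, 10, 29, 28, 21, 20, 13, 12, 31, 30, 22, 23, 15, 14, 6, 4, 5, 7],
  [21, 29, 17, 18, 20, 16, 22, 10, 32, 4, 26, 30, 33, 0, 35, 5, 15, 31, 27, 14, 9, 13, 24, 12, 6, 1, 7, 3, 8, 25, 34, 2, 28, 23, 11, 19],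
  [24, 9, 26, 15, 12, 30, 8, 14, 21, 23, 35, 3, 29, 22, 17, 11, 34, 7, 5, 2, 33, 6, 32, 1, 28, 20, 19, 16, 0, 4, 18, 10, 13, 25, 27, 31],
  [0, 1, 2, 3, 4, 5, 6, 7, 8, 9, 10, 11, 12, 13, 14, 15, 16, 17, 18, 19, 20, 21, 22, 23, 24, 25, 26, 27, 28, 29, 30, 31, 32, 33, 34, 35],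
  [22, 20, 10, 16, 23, 11, 28, 19, 0, 33, 14, 27, 1, 6, 2, 34, 30, 26, 15, 31, 12, 24, 8, 25, 32, 4, 35, 5, 13, 9, 3, 7, 21, 29, 18, 17],
  [8, 12, 14, 30, 25, 27, 13, 31, 22, 29, 2, 5, 20, 28, 10, 18, 3, 35, 34, 7, 1, 32, 0, 4, 21, 23, 17, 11, 6, 33, 16, 19, 24, 9, 15, 26],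
  [6, 4, 7, 5, 33, 34, 32, 35, 13, 12, 19, 18, 25, 24, 31, 30, 11, 10, 16, 17, 23, 22, 28, 29, 8, 9, 14, 15, 21, 20, 27, 26, 0, 1, 3, 2],
  [28, 23, 19, 11, 29, 18, 21, 17, 6, 1, 31, 15, 4, 32, 7, 3, 27, 14, 30, 26, 25, 8, 13, 9, 0, 33, 2, 34, 24, 12, 5, 35, 22, 20, 16, 10],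
  [13, 25, 31, 27, 9, 15, 24, 26, 28, 20, 7, 34, 23, 21, 19, 16, 5, 2, 3, 35, 4, 0, 6, 33, 22, 29, 10, 18, 32, 1, 11, 17, 8, 12, 30, 14],
  [32, 33, 35, 34, 1, 3, 0, 2, 24, 25, 17, 16, 9, 8, 26, 27, 18, 19, 11, 10, 29, 28, 21, 20, 13, 12, 31, 30, 22, 23, 15, 14, 6, 4, 5, 7],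
  [21, 29, 17, 18, 20, 16, 22, 10, 32, 4, 26, 30, 33, 0, 35, 5, 15, 31, 27, 14, 9, 13, 24, 12, 6, 1, 7, 3, 8, 25, 34, 2, 28, 23, 11, 19],
  [24, 9, 26, 15, 12, 30, 8, 14, 21, 23, 35, 3, 29, 22, 17, 11, 34, 7, 5, 2, 33, 6, 32, 1, 28, 20, 19, 16, 0, 4, 18, 10, 13, 25, 27, 31],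
  [0, 1, 2, 3, 4, 5, 6, 7, 8, 9, 10, 11, 12, 13, 14, 15, 16, 17, 18, 19, 20, 21, 22, 23, 24, 25, 26, 27, 28, 29, 30, 31, 32, 33, 34, 35],
  [22, 20, 10, 16, 23, 11, 28, 19, 0, 33, 14, 27, 1, 6, 2, 34, 30, 26, 15, 31, 12, 24, 8, 25, 32, 4, 35, 5, 13, 9, 3, 7, 21, 29, 18, 17],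
  [8, 12, 14, 30, 25, 27, 13, 31, 22, 29, 2, 5, 20, 28, 10, 18, 3, 35, 34, 7, 1, 32, 0, 4, 21, 23, 17, 11, 6, 33, 16, 19, 24, 9, 15, 26],
  [6, 4, 7, 5, 33, 34, 32, 35, 13, 12, 19, 18, 25, 24, 31, 30, 11, 10, 16, 17, 23, 22, 28, 29, 8, 9, 14, 15, 21, 20, 27, 26, 0, 1, 3, 2],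
  [28, 23, 19, 11, 29, 18, 21, 17, 6, 1, 31, 15, 4, 32, 7, 3, 27, 14, 30, 26, 25, 8, 13, 9, 0, 33, 2, 34, 24, 12, 5, 35, 22, 20, 16, 10],
  [13, 25, 31, 27, 9, 15, 24, 26, 28, 20, 7, 34, 23, 21, 19, 16, 5, 2, 3, 35, 4, 0, 6, 33, 22, 29, 10, 18, 32, 1, 11, 17, 8, 12, 30, 14],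
  [32, 33, 35, 34, 1, 3, 0, 2, 24, 25, 17, 16, 9, 8, 26, 27, 18, 19, 11, 10, 29, 28, 21, 20, 13, 12, 31, 30, 22, 23, 15, 14, 6, 4, 5, 7],
  [21, 29, 17, 18, 20, 16, 22, 10, 32, 4, 26, 30, 33, 0, 35, 5, 15, 31, 27, 14, 9, 13, 24, 12, 6, 1, 7, 3, 8, 25, 34, 2, 28, 23, 11, 19],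
  [24, 9, 26, 15, 12, 30, 8, 14, 21, 23, 35, 3, 29, 22, 17, 11, 34, 7, 5, 2, 33, 6, 32, 1, 28, 20, 19, 16, 0, 4, 18, 10, 13, 25, 27, 31]]
def peC : List (List K25) := [[⟨1, 0⟩, ⟨1, 0⟩, ⟨1, 0⟩, ⟨1, 0⟩, ⟨1, 0⟩, ⟨1, 0⟩, ⟨1, 0⟩, ⟨1, 0⟩, ⟨1, 0⟩, ⟨1, 0⟩, ⟨1, 0⟩, ⟨1, 0⟩, ⟨1, 0⟩, ⟨1, 0⟩, ⟨1, 0⟩, ⟨1, 0⟩, ⟨1, 0⟩, ⟨1, 0⟩, ⟨1, 0⟩, ⟨1, 0⟩, ⟨1, 0⟩, ⟨1, 0⟩, ⟨1, 0⟩, ⟨1, 0⟩, ⟨1, 0⟩, ⟨1, 0⟩, ⟨1, 0⟩, ⟨1, 0⟩, ⟨1, 0⟩, ⟨1, 0⟩, ⟨1, 0⟩, ⟨1, 0⟩, ⟨1, 0⟩, ⟨1, 0⟩, ⟨1, 0⟩, ⟨1, 0⟩],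
  [⟨2, 1⟩, ⟨4, 1⟩, ⟨1, 2⟩, ⟨3, 4⟩, ⟨2, 1⟩, ⟨1, 2⟩, ⟨4, 3⟩, ⟨1, 4⟩, ⟨1, 0⟩, ⟨0, 1⟩, ⟨3, 1⟩, ⟨4, 2⟩, ⟨1, 0⟩, ⟨4, 4⟩, ⟨1, 0⟩, ⟨0, 1⟩, ⟨3, 2⟩, ⟨4, 2⟩, ⟨3, 1⟩, ⟨3, 2⟩, ⟨1, 3⟩, ⟨2, 4⟩, ⟨2, 3⟩, ⟨2, 4⟩, ⟨0, 1⟩, ⟨4, 4⟩, ⟨0, 1⟩, ⟨4, 4⟩, ⟨1, 3⟩, ⟨2, 3⟩, ⟨1, 0⟩, ⟨4, 4⟩, ⟨4, 1⟩, ⟨4, 3⟩, ⟨1, 4⟩, ⟨3, 4⟩],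
  [⟨1, 0⟩, ⟨1, 0⟩, ⟨1, 0⟩, ⟨1, 0⟩, ⟨0, 1⟩, ⟨0, 1⟩, ⟨0, 1⟩, ⟨0, 1⟩, ⟨2, 1⟩, ⟨2, 1⟩, ⟨3, 1⟩, ⟨3, 1⟩, ⟨4, 1⟩, ⟨4, 1⟩, ⟨1, 2⟩, ⟨1, 2⟩, ⟨3, 2⟩, ⟨3, 2⟩, ⟨4, 2⟩, ⟨4, 2⟩, ⟨1, 3⟩, ⟨1, 3⟩, ⟨2, 3⟩, ⟨2, 3⟩, ⟨4, 3⟩, ⟨4, 3⟩, ⟨1, 4⟩, ⟨1, 4⟩, ⟨2, 4⟩, ⟨2, 4⟩, ⟨3, 4⟩, ⟨3, 4⟩, ⟨4, 4⟩, ⟨4, 4⟩, ⟨4, 4⟩, ⟨4, 4⟩],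
  [⟨1, 0⟩, ⟨1, 0⟩, ⟨1, 0⟩, ⟨1, 0⟩, ⟨1, 0⟩, ⟨1, 0⟩, ⟨1, 0⟩, ⟨1, 0⟩, ⟨1, 0⟩, ⟨1, 0⟩, ⟨1, 0⟩, ⟨1, 0⟩, ⟨1, 0⟩, ⟨1, 0⟩, ⟨1, 0⟩, ⟨1, 0⟩, ⟨1, 0⟩, ⟨1, 0⟩, ⟨1, 0⟩, ⟨1, 0⟩, ⟨1, 0⟩, ⟨1, 0⟩, ⟨1, 0⟩, ⟨1, 0⟩, ⟨1, 0⟩, ⟨1, 0⟩, ⟨1, 0⟩, ⟨1, 0⟩, ⟨1, 0⟩, ⟨1, 0⟩, ⟨1, 0⟩, ⟨1, 0⟩, ⟨1, 0⟩, ⟨1, 0⟩, ⟨1, 0⟩, ⟨1, 0⟩],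
  [⟨2, 1⟩, ⟨4, 1⟩, ⟨1, 2⟩, ⟨3, 4⟩, ⟨2, 1⟩, ⟨1, 2⟩, ⟨4, 3⟩, ⟨1, 4⟩, ⟨1, 0⟩, ⟨0, 1⟩, ⟨3, 1⟩, ⟨4, 2⟩, ⟨1, 0⟩, ⟨4, 4⟩, ⟨1, 0⟩, ⟨0, 1⟩, ⟨3, 2⟩, ⟨4, 2⟩, ⟨3, 1⟩, ⟨3, 2⟩, ⟨1, 3⟩, ⟨2, 4⟩, ⟨2, 3⟩, ⟨2, 4⟩, ⟨0, 1⟩, ⟨4, 4⟩, ⟨0, 1⟩, ⟨4, 4⟩, ⟨1, 3⟩, ⟨2, 3⟩, ⟨1, 0⟩, ⟨4, 4⟩, ⟨4, 1⟩, ⟨4, 3⟩, ⟨1, 4⟩, ⟨3, 4⟩],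
  [⟨1, 0⟩, ⟨1, 0⟩, ⟨1, 0⟩, ⟨1, 0⟩, ⟨0, 1⟩, ⟨0, 1⟩, ⟨0, 1⟩, ⟨0, 1⟩, ⟨2, 1⟩, ⟨2, 1⟩, ⟨3, 1⟩, ⟨3, 1⟩, ⟨4, 1⟩, ⟨4, 1⟩, ⟨1, 2⟩, ⟨1, 2⟩, ⟨3, 2⟩, ⟨3, 2⟩, ⟨4, 2⟩, ⟨4, 2⟩, ⟨1, 3⟩, ⟨1, 3⟩, ⟨2, 3⟩, ⟨2, 3⟩, ⟨4, 3⟩, ⟨4, 3⟩, ⟨1, 4⟩, ⟨1, 4⟩, ⟨2, 4⟩, ⟨2, 4⟩, ⟨3, 4⟩, ⟨3, 4⟩, ⟨4, 4⟩, ⟨4, 4⟩, ⟨4, 4⟩, ⟨4, 4⟩],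
  [⟨1, 0⟩, ⟨1, 0⟩, ⟨1, 0⟩, ⟨1, 0⟩, ⟨1, 0⟩, ⟨1, 0⟩, ⟨1, 0⟩, ⟨1, 0⟩, ⟨1, 0⟩, ⟨1, 0⟩, ⟨1, 0⟩, ⟨1, 0⟩, ⟨1, 0⟩, ⟨1, 0⟩, ⟨1, 0⟩, ⟨1, 0⟩, ⟨1, 0⟩, ⟨1, 0⟩, ⟨1, 0⟩, ⟨1, 0⟩, ⟨1, 0⟩, ⟨1, 0⟩, ⟨1, 0⟩, ⟨1, 0⟩, ⟨1, 0⟩, ⟨1, 0⟩, ⟨1, 0⟩, ⟨1, 0⟩, ⟨1, 0⟩, ⟨1, 0⟩, ⟨1, 0⟩, ⟨1, 0⟩, ⟨1, 0⟩, ⟨1, 0⟩, ⟨1, 0⟩, ⟨1, 0⟩],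
  [⟨2, 1⟩, ⟨4, 1⟩, ⟨1, 2⟩, ⟨3, 4⟩, ⟨2, 1⟩, ⟨1, 2⟩, ⟨4, 3⟩, ⟨1, 4⟩, ⟨1, 0⟩, ⟨0, 1⟩, ⟨3, 1⟩, ⟨4, 2⟩, ⟨1, 0⟩, ⟨4, 4⟩, ⟨1, 0⟩, ⟨0, 1⟩, ⟨3, 2⟩, ⟨4, 2⟩, ⟨3, 1⟩, ⟨3, 2⟩, ⟨1, 3⟩, ⟨2, 4⟩, ⟨2, 3⟩, ⟨2, 4⟩, ⟨0, 1⟩, ⟨4, 4⟩, ⟨0, 1⟩, ⟨4, 4⟩, ⟨1, 3⟩, ⟨2, 3⟩, ⟨1, 0⟩, ⟨4, 4⟩, ⟨4, 1⟩, ⟨4, 3⟩, ⟨1, 4⟩, ⟨3, 4⟩],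
  [⟨1, 0⟩, ⟨1, 0⟩, ⟨1, 0⟩, ⟨1, 0⟩, ⟨0, 1⟩, ⟨0, 1⟩, ⟨0, 1⟩, ⟨0, 1⟩, ⟨2, 1⟩, ⟨2, 1⟩, ⟨3, 1⟩, ⟨3, 1⟩, ⟨4, 1⟩, ⟨4, 1⟩, ⟨1, 2⟩, ⟨1, 2⟩, ⟨3, 2⟩, ⟨3, 2⟩, ⟨4, 2⟩, ⟨4, 2⟩, ⟨1, 3⟩, ⟨1, 3⟩, ⟨2, 3⟩, ⟨2, 3⟩, ⟨4, 3⟩, ⟨4, 3⟩, ⟨1, 4⟩, ⟨1, 4⟩, ⟨2, 4⟩, ⟨2, 4⟩, ⟨3, 4⟩, ⟨3, 4⟩, ⟨4, 4⟩, ⟨4, 4⟩, ⟨4, 4⟩, ⟨4, 4⟩],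
  [⟨0, 1⟩, ⟨0, 1⟩, ⟨0, 1⟩, ⟨0, 1⟩, ⟨0, 1⟩, ⟨0, 1⟩, ⟨0, 1⟩, ⟨0, 1⟩, ⟨0, 1⟩, ⟨0, 1⟩, ⟨0, 1⟩, ⟨0, 1⟩, ⟨0, 1⟩, ⟨0, 1⟩, ⟨0, 1⟩, ⟨0, 1⟩, ⟨0, 1⟩, ⟨0, 1⟩, ⟨0, 1⟩, ⟨0, 1⟩, ⟨0, 1⟩, ⟨0, 1⟩, ⟨0, 1⟩, ⟨0, 1⟩, ⟨0, 1⟩, ⟨0, 1⟩, ⟨0, 1⟩, ⟨0, 1⟩, ⟨0, 1⟩, ⟨0, 1⟩, ⟨0, 1⟩, ⟨0, 1⟩, ⟨0, 1⟩, ⟨0, 1⟩, ⟨0, 1⟩, ⟨0, 1⟩],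
  [⟨4, 1⟩, ⟨4, 3⟩, ⟨3, 4⟩, ⟨1, 4⟩, ⟨4, 1⟩, ⟨3, 4⟩, ⟨2, 1⟩, ⟨1, 2⟩, ⟨0, 1⟩, ⟨4, 4⟩, ⟨4, 2⟩, ⟨3, 2⟩, ⟨0, 1⟩, ⟨1, 0⟩, ⟨0, 1⟩, ⟨4, 4⟩, ⟨3, 1⟩, ⟨3, 2⟩, ⟨4, 2⟩, ⟨3, 1⟩, ⟨2, 3⟩, ⟨1, 3⟩, ⟨2, 4⟩, ⟨1, 3⟩, ⟨4, 4⟩, ⟨1, 0⟩, ⟨4, 4⟩, ⟨1, 0⟩, ⟨2, 3⟩, ⟨2, 4⟩, ⟨0, 1⟩, ⟨1, 0⟩, ⟨4, 3⟩, ⟨2, 1⟩, ⟨1, 2⟩, ⟨1, 4⟩],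
  [⟨0, 1⟩, ⟨0, 1⟩, ⟨0, 1⟩, ⟨0, 1⟩, ⟨4, 4⟩, ⟨4, 4⟩, ⟨4, 4⟩, ⟨4, 4⟩, ⟨4, 1⟩, ⟨4, 1⟩, ⟨4, 2⟩, ⟨4, 2⟩, ⟨4, 3⟩, ⟨4, 3⟩, ⟨3, 4⟩, ⟨3, 4⟩, ⟨3, 1⟩, ⟨3, 1⟩, ⟨3, 2⟩, ⟨3, 2⟩, ⟨2, 3⟩, ⟨2, 3⟩, ⟨2, 4⟩, ⟨2, 4⟩, ⟨2, 1⟩, ⟨2, 1⟩, ⟨1, 2⟩, ⟨1, 2⟩, ⟨1, 3⟩, ⟨1, 3⟩, ⟨1, 4⟩, ⟨1, 4⟩, ⟨1, 0⟩, ⟨1, 0⟩, ⟨1, 0⟩, ⟨1, 0⟩],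
  [⟨0, 1⟩, ⟨0, 1⟩, ⟨0, 1⟩, ⟨0, 1⟩, ⟨0, 1⟩, ⟨0, 1⟩, ⟨0, 1⟩, ⟨0, 1⟩, ⟨0, 1⟩, ⟨0, 1⟩, ⟨0, 1⟩, ⟨0, 1⟩, ⟨0, 1⟩, ⟨0, 1⟩, ⟨0, 1⟩, ⟨0, 1⟩, ⟨0, 1⟩, ⟨0, 1⟩, ⟨0, 1⟩, ⟨0, 1⟩, ⟨0, 1⟩, ⟨0, 1⟩, ⟨0, 1⟩, ⟨0, 1⟩, ⟨0, 1⟩, ⟨0, 1⟩, ⟨0, 1⟩, ⟨0, 1⟩, ⟨0, 1⟩, ⟨0, 1⟩, ⟨0, 1⟩, ⟨0, 1⟩, ⟨0, 1⟩, ⟨0, 1⟩, ⟨0, 1⟩, ⟨0, 1⟩],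
  [⟨4, 1⟩, ⟨4, 3⟩, ⟨3, 4⟩, ⟨1, 4⟩, ⟨4, 1⟩, ⟨3, 4⟩, ⟨2, 1⟩, ⟨1, 2⟩, ⟨0, 1⟩, ⟨4, 4⟩, ⟨4, 2⟩, ⟨3, 2⟩, ⟨0, 1⟩, ⟨1, 0⟩, ⟨0, 1⟩, ⟨4, 4⟩, ⟨3, 1⟩, ⟨3, 2⟩, ⟨4, 2⟩, ⟨3, 1⟩, ⟨2, 3⟩, ⟨1, 3⟩, ⟨2, 4⟩, ⟨1, 3⟩, ⟨4, 4⟩, ⟨1, 0⟩, ⟨4, 4⟩, ⟨1, 0⟩, ⟨2, 3⟩, ⟨2, 4⟩, ⟨0, 1⟩, ⟨1, 0⟩, ⟨4, 3⟩, ⟨2, 1⟩, ⟨1, 2⟩, ⟨1, 4⟩],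
  [⟨0, 1⟩, ⟨0, 1⟩, ⟨0, 1⟩, ⟨0, 1⟩, ⟨4, 4⟩, ⟨4, 4⟩, ⟨4, 4⟩, ⟨4, 4⟩, ⟨4, 1⟩, ⟨4, 1⟩, ⟨4, 2⟩, ⟨4, 2⟩, ⟨4, 3⟩, ⟨4, 3⟩, ⟨3, 4⟩, ⟨3, 4⟩, ⟨3, 1⟩, ⟨3, 1⟩, ⟨3, 2⟩, ⟨3, 2⟩, ⟨2, 3⟩, ⟨2, 3⟩, ⟨2, 4⟩, ⟨2, 4⟩, ⟨2, 1⟩, ⟨2, 1⟩, ⟨1, 2⟩, ⟨1, 2⟩, ⟨1, 3⟩, ⟨1, 3⟩, ⟨1, 4⟩, ⟨1, 4⟩, ⟨1, 0⟩, ⟨1, 0⟩, ⟨1, 0⟩, ⟨1, 0⟩],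
  [⟨0, 1⟩, ⟨0, 1⟩, ⟨0, 1⟩, ⟨0, 1⟩, ⟨0, 1⟩, ⟨0, 1⟩, ⟨0, 1⟩, ⟨0, 1⟩, ⟨0, 1⟩, ⟨0, 1⟩, ⟨0, 1⟩, ⟨0, 1⟩, ⟨0, 1⟩, ⟨0, 1⟩, ⟨0, 1⟩, ⟨0, 1⟩, ⟨0, 1⟩, ⟨0, 1⟩, ⟨0, 1⟩, ⟨0, 1⟩, ⟨0, 1⟩, ⟨0, 1⟩, ⟨0, 1⟩, ⟨0, 1⟩, ⟨0, 1⟩, ⟨0, 1⟩, ⟨0, 1⟩, ⟨0, 1⟩, ⟨0, 1⟩, ⟨0, 1⟩, ⟨0, 1⟩, ⟨0, 1⟩, ⟨0, 1⟩, ⟨0, 1⟩, ⟨0, 1⟩, ⟨0, 1⟩],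
  [⟨4, 1⟩, ⟨4, 3⟩, ⟨3, 4⟩, ⟨1, 4⟩, ⟨4, 1⟩, ⟨3, 4⟩, ⟨2, 1⟩, ⟨1, 2⟩, ⟨0, 1⟩, ⟨4, 4⟩, ⟨4, 2⟩, ⟨3, 2⟩, ⟨0, 1⟩, ⟨1, 0⟩, ⟨0, 1⟩, ⟨4, 4⟩, ⟨3, 1⟩, ⟨3, 2⟩, ⟨4, 2⟩, ⟨3, 1⟩, ⟨2, 3⟩, ⟨1, 3⟩, ⟨2, 4⟩, ⟨1, 3⟩, ⟨4, 4⟩, ⟨1, 0⟩, ⟨4, 4⟩, ⟨1, 0⟩, ⟨2, 3⟩, ⟨2, 4⟩, ⟨0, 1⟩, ⟨1, 0⟩, ⟨4, 3⟩, ⟨2, 1⟩, ⟨1, 2⟩, ⟨1, 4⟩],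
  [⟨0, 1⟩, ⟨0, 1⟩, ⟨0, 1⟩, ⟨0, 1⟩, ⟨4, 4⟩, ⟨4, 4⟩, ⟨4, 4⟩, ⟨4, 4⟩, ⟨4, 1⟩, ⟨4, 1⟩, ⟨4, 2⟩, ⟨4, 2⟩, ⟨4, 3⟩, ⟨4, 3⟩, ⟨3, 4⟩, ⟨3, 4⟩, ⟨3, 1⟩, ⟨3, 1⟩, ⟨3, 2⟩, ⟨3, 2⟩, ⟨2, 3⟩, ⟨2, 3⟩, ⟨2, 4⟩, ⟨2, 4⟩, ⟨2, 1⟩, ⟨2, 1⟩, ⟨1, 2⟩, ⟨1, 2⟩, ⟨1, 3⟩, ⟨1, 3⟩, ⟨1, 4⟩, ⟨1, 4⟩, ⟨1, 0⟩, ⟨1, 0⟩, ⟨1, 0⟩, ⟨1, 0⟩],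
  [⟨4, 4⟩, ⟨4, 4⟩, ⟨4, 4⟩, ⟨4, 4⟩, ⟨4, 4⟩, ⟨4, 4⟩, ⟨4, 4⟩, ⟨4, 4⟩, ⟨4, 4⟩, ⟨4, 4⟩, ⟨4, 4⟩, ⟨4, 4⟩, ⟨4, 4⟩, ⟨4, 4⟩, ⟨4, 4⟩, ⟨4, 4⟩, ⟨4, 4⟩, ⟨4, 4⟩, ⟨4, 4⟩, ⟨4, 4⟩, ⟨4, 4⟩, ⟨4, 4⟩, ⟨4, 4⟩, ⟨4, 4⟩, ⟨4, 4⟩, ⟨4, 4⟩, ⟨4, 4⟩, ⟨4, 4⟩, ⟨4, 4⟩, ⟨4, 4⟩, ⟨4, 4⟩, ⟨4, 4⟩, ⟨4, 4⟩, ⟨4, 4⟩, ⟨4, 4⟩, ⟨4, 4⟩],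
  [⟨4, 3⟩, ⟨2, 1⟩, ⟨1, 4⟩, ⟨1, 2⟩, ⟨4, 3⟩, ⟨1, 4⟩, ⟨4, 1⟩, ⟨3, 4⟩, ⟨4, 4⟩, ⟨1, 0⟩, ⟨3, 2⟩, ⟨3, 1⟩, ⟨4, 4⟩, ⟨0, 1⟩, ⟨4, 4⟩, ⟨1, 0⟩, ⟨4, 2⟩, ⟨3, 1⟩, ⟨3, 2⟩, ⟨4, 2⟩, ⟨2, 4⟩, ⟨2, 3⟩, ⟨1, 3⟩, ⟨2, 3⟩, ⟨1, 0⟩, ⟨0, 1⟩, ⟨1, 0⟩, ⟨0, 1⟩, ⟨2, 4⟩, ⟨1, 3⟩, ⟨4, 4⟩, ⟨0, 1⟩, ⟨2, 1⟩, ⟨4, 1⟩, ⟨3, 4⟩, ⟨1, 2⟩],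
  [⟨4, 4⟩, ⟨4, 4⟩, ⟨4, 4⟩, ⟨4, 4⟩, ⟨1, 0⟩, ⟨1, 0⟩, ⟨1, 0⟩, ⟨1, 0⟩, ⟨4, 3⟩, ⟨4, 3⟩, ⟨3, 2⟩, ⟨3, 2⟩, ⟨2, 1⟩, ⟨2, 1⟩, ⟨1, 4⟩, ⟨1, 4⟩, ⟨4, 2⟩, ⟨4, 2⟩, ⟨3, 1⟩, ⟨3, 1⟩, ⟨2, 4⟩, ⟨2, 4⟩, ⟨1, 3⟩, ⟨1, 3⟩, ⟨4, 1⟩, ⟨4, 1⟩, ⟨3, 4⟩, ⟨3, 4⟩, ⟨2, 3⟩, ⟨2, 3⟩, ⟨1, 2⟩, ⟨1, 2⟩, ⟨0, 1⟩, ⟨0, 1⟩, ⟨0, 1⟩, ⟨0, 1⟩],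
  [⟨4, 4⟩, ⟨4, 4⟩, ⟨4, 4⟩, ⟨4, 4⟩, ⟨4, 4⟩, ⟨4, 4⟩, ⟨4, 4⟩, ⟨4, 4⟩, ⟨4, 4⟩, ⟨4, 4⟩, ⟨4, 4⟩, ⟨4, 4⟩, ⟨4, 4⟩, ⟨4, 4⟩, ⟨4, 4⟩, ⟨4, 4⟩, ⟨4, 4⟩, ⟨4, 4⟩, ⟨4, 4⟩, ⟨4, 4⟩, ⟨4, 4⟩, ⟨4, 4⟩, ⟨4, 4⟩, ⟨4, 4⟩, ⟨4, 4⟩, ⟨4, 4⟩, ⟨4, 4⟩, ⟨4, 4⟩, ⟨4, 4⟩, ⟨4, 4⟩, ⟨4, 4⟩, ⟨4, 4⟩, ⟨4, 4⟩, ⟨4, 4⟩, ⟨4, 4⟩, ⟨4, 4⟩],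
  [⟨4, 3⟩, ⟨2, 1⟩, ⟨1, 4⟩, ⟨1, 2⟩, ⟨4, 3⟩, ⟨1, 4⟩, ⟨4, 1⟩, ⟨3, 4⟩, ⟨4, 4⟩, ⟨1, 0⟩, ⟨3, 2⟩, ⟨3, 1⟩, ⟨4, 4⟩, ⟨0, 1⟩, ⟨4, 4⟩, ⟨1, 0⟩, ⟨4, 2⟩, ⟨3, 1⟩, ⟨3, 2⟩, ⟨4, 2⟩, ⟨2, 4⟩, ⟨2, 3⟩, ⟨1, 3⟩, ⟨2, 3⟩, ⟨1, 0⟩, ⟨0, 1⟩, ⟨1, 0⟩, ⟨0, 1⟩, ⟨2, 4⟩, ⟨1, 3⟩, ⟨4, 4⟩, ⟨0, 1⟩, ⟨2, 1⟩, ⟨4, 1⟩, ⟨3, 4⟩, ⟨1, 2⟩],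
  [⟨4, 4⟩, ⟨4, 4⟩, ⟨4, 4⟩, ⟨4, 4⟩, ⟨1, 0⟩, ⟨1, 0⟩, ⟨1, 0⟩, ⟨1, 0⟩, ⟨4, 3⟩, ⟨4, 3⟩, ⟨3, 2⟩, ⟨3, 2⟩, ⟨2, 1⟩, ⟨2, 1⟩, ⟨1, 4⟩, ⟨1, 4⟩, ⟨4, 2⟩, ⟨4, 2⟩, ⟨3, 1⟩, ⟨3, 1⟩, ⟨2, 4⟩, ⟨2, 4⟩, ⟨1, 3⟩, ⟨1, 3⟩, ⟨4, 1⟩, ⟨4, 1⟩, ⟨3, 4⟩, ⟨3, 4⟩, ⟨2, 3⟩, ⟨2, 3⟩, ⟨1, 2⟩, ⟨1, 2⟩, ⟨0, 1⟩, ⟨0, 1⟩, ⟨0, 1⟩, ⟨0, 1⟩],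
  [⟨4, 4⟩, ⟨4, 4⟩, ⟨4, 4⟩, ⟨4, 4⟩, ⟨4, 4⟩, ⟨4, 4⟩, ⟨4, 4⟩, ⟨4, 4⟩, ⟨4, 4⟩, ⟨4, 4⟩, ⟨4, 4⟩, ⟨4, 4⟩, ⟨4, 4⟩, ⟨4, 4⟩, ⟨4, 4⟩, ⟨4, 4⟩, ⟨4, 4⟩, ⟨4, 4⟩, ⟨4, 4⟩, ⟨4, 4⟩, ⟨4, 4⟩, ⟨4, 4⟩, ⟨4, 4⟩, ⟨4, 4⟩, ⟨4, 4⟩, ⟨4, 4⟩, ⟨4, 4⟩, ⟨4, 4⟩, ⟨4, 4⟩, ⟨4, 4⟩, ⟨4, 4⟩, ⟨4, 4⟩, ⟨4, 4⟩, ⟨4, 4⟩, ⟨4, 4⟩, ⟨4, 4⟩],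
  [⟨4, 3⟩, ⟨2, 1⟩, ⟨1, 4⟩, ⟨1, 2⟩, ⟨4, 3⟩, ⟨1, 4⟩, ⟨4, 1⟩, ⟨3, 4⟩, ⟨4, 4⟩, ⟨1, 0⟩, ⟨3, 2⟩, ⟨3, 1⟩, ⟨4, 4⟩, ⟨0, 1⟩, ⟨4, 4⟩, ⟨1, 0⟩, ⟨4, 2⟩, ⟨3, 1⟩, ⟨3, 2⟩, ⟨4, 2⟩, ⟨2, 4⟩, ⟨2, 3⟩, ⟨1, 3⟩, ⟨2, 3⟩, ⟨1, 0⟩, ⟨0, 1⟩, ⟨1, 0⟩, ⟨0, 1⟩, ⟨2, 4⟩, ⟨1, 3⟩, ⟨4, 4⟩, ⟨0, 1⟩, ⟨2, 1⟩, ⟨4, 1⟩, ⟨3, 4⟩, ⟨1, 2⟩],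
  [⟨4, 4⟩, ⟨4, 4⟩, ⟨4, 4⟩, ⟨4, 4⟩, ⟨1, 0⟩, ⟨1, 0⟩, ⟨1, 0⟩, ⟨1, 0⟩, ⟨4, 3⟩, ⟨4, 3⟩, ⟨3, 2⟩, ⟨3, 2⟩, ⟨2, 1⟩, ⟨2, 1⟩, ⟨1, 4⟩, ⟨1, 4⟩, ⟨4, 2⟩, ⟨4, 2⟩, ⟨3, 1⟩, ⟨3, 1⟩, ⟨2, 4⟩, ⟨2, 4⟩, ⟨1, 3⟩, ⟨1, 3⟩, ⟨4, 1⟩, ⟨4, 1⟩, ⟨3, 4⟩, ⟨3, 4⟩, ⟨2, 3⟩, ⟨2, 3⟩, ⟨1, 2⟩, ⟨1, 2⟩, ⟨0, 1⟩, ⟨0, 1⟩, ⟨0, 1⟩, ⟨0, 1⟩]]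
theorem pe_sig : ∀ n < 27, ∀ i < 36, (peP.getD n []).getD i 0 < 36 ∧ (peC.getD n []).getD i 0 ≠ 0 ∧ Matrix.mulVec (pe n) (D25M.sig i) = (peC.getD n []).getD i 0 • D25M.sig ((peP.getD n []).getD i 0) := by decide +kernel
def KL : List (Matrix (Fin 3) (Fin 3) K25) := [!![⟨1, 0⟩, ⟨0, 0⟩, ⟨0, 0⟩; ⟨0, 0⟩, ⟨1, 0⟩, ⟨0, 0⟩; ⟨0, 0⟩, ⟨0, 0⟩, ⟨1, 0⟩],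
  !![⟨3, 1⟩, ⟨3, 1⟩, ⟨3, 1⟩; ⟨3, 1⟩, ⟨4, 2⟩, ⟨3, 2⟩; ⟨3, 1⟩, ⟨3, 2⟩, ⟨4, 2⟩],
  !![⟨2, 3⟩, ⟨2, 3⟩, ⟨2, 3⟩; ⟨1, 3⟩, ⟨2, 4⟩, ⟨2, 3⟩; ⟨2, 4⟩, ⟨1, 3⟩, ⟨2, 3⟩],
  !![⟨1, 0⟩, ⟨0, 0⟩, ⟨0, 0⟩; ⟨0, 0⟩, ⟨1, 0⟩, ⟨0, 0⟩; ⟨0, 0⟩, ⟨0, 0⟩, ⟨1, 0⟩],
  !![⟨3, 1⟩, ⟨3, 2⟩, ⟨3, 1⟩; ⟨4, 2⟩, ⟨4, 2⟩, ⟨3, 1⟩; ⟨3, 1⟩, ⟨4, 2⟩, ⟨4, 2⟩],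
  !![⟨2, 3⟩, ⟨2, 3⟩, ⟨2, 4⟩; ⟨1, 3⟩, ⟨2, 4⟩, ⟨2, 4⟩; ⟨2, 3⟩, ⟨2, 4⟩, ⟨2, 3⟩],
  !![⟨4, 0⟩, ⟨0, 0⟩, ⟨0, 0⟩; ⟨0, 0⟩, ⟨0, 0⟩, ⟨4, 0⟩; ⟨0, 0⟩, ⟨4, 0⟩, ⟨0, 0⟩],
  !![⟨3, 1⟩, ⟨4, 2⟩, ⟨3, 1⟩; ⟨3, 2⟩, ⟨4, 2⟩, ⟨4, 2⟩; ⟨3, 1⟩, ⟨3, 1⟩, ⟨4, 2⟩],
  !![⟨2, 3⟩, ⟨2, 3⟩, ⟨1, 3⟩; ⟨1, 3⟩, ⟨2, 4⟩, ⟨1, 3⟩; ⟨1, 3⟩, ⟨2, 3⟩, ⟨2, 3⟩],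
  !![⟨1, 0⟩, ⟨0, 0⟩, ⟨0, 0⟩; ⟨0, 0⟩, ⟨1, 0⟩, ⟨0, 0⟩; ⟨0, 0⟩, ⟨0, 0⟩, ⟨1, 0⟩],
  !![⟨3, 1⟩, ⟨3, 2⟩, ⟨4, 2⟩; ⟨4, 2⟩, ⟨4, 2⟩, ⟨4, 2⟩; ⟨3, 2⟩, ⟨3, 1⟩, ⟨4, 2⟩],
  !![⟨2, 3⟩, ⟨2, 4⟩, ⟨1, 3⟩; ⟨2, 3⟩, ⟨2, 3⟩, ⟨2, 3⟩; ⟨2, 3⟩, ⟨1, 3⟩, ⟨2, 4⟩],
  !![⟨0, 0⟩, ⟨0, 0⟩, ⟨1, 0⟩; ⟨1, 0⟩, ⟨0, 0⟩, ⟨0, 0⟩; ⟨0, 0⟩, ⟨1, 0⟩, ⟨0, 0⟩],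
  !![⟨3, 1⟩, ⟨4, 2⟩, ⟨4, 2⟩; ⟨3, 2⟩, ⟨4, 2⟩, ⟨3, 2⟩; ⟨3, 2⟩, ⟨3, 2⟩, ⟨4, 2⟩],
  !![⟨2, 3⟩, ⟨2, 4⟩, ⟨2, 3⟩; ⟨2, 3⟩, ⟨2, 3⟩, ⟨2, 4⟩; ⟨1, 3⟩, ⟨2, 4⟩, ⟨2, 4⟩],
  !![⟨0, 0⟩, ⟨4, 0⟩, ⟨0, 0⟩; ⟨4, 0⟩, ⟨0, 0⟩, ⟨0, 0⟩; ⟨0, 0⟩, ⟨0, 0⟩, ⟨4, 0⟩],
  !![⟨3, 1⟩, ⟨3, 1⟩, ⟨4, 2⟩; ⟨3, 1⟩, ⟨4, 2⟩, ⟨3, 1⟩; ⟨3, 2⟩, ⟨4, 2⟩, ⟨4, 2⟩],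
  !![⟨2, 3⟩, ⟨2, 4⟩, ⟨2, 4⟩; ⟨2, 3⟩, ⟨2, 3⟩, ⟨1, 3⟩; ⟨2, 4⟩, ⟨2, 3⟩, ⟨2, 4⟩],
  !![⟨1, 0⟩, ⟨0, 0⟩, ⟨0, 0⟩; ⟨0, 0⟩, ⟨1, 0⟩, ⟨0, 0⟩; ⟨0, 0⟩, ⟨0, 0⟩, ⟨1, 0⟩],
  !![⟨3, 1⟩, ⟨4, 2⟩, ⟨3, 2⟩; ⟨3, 2⟩, ⟨4, 2⟩, ⟨3, 1⟩; ⟨4, 2⟩, ⟨4, 2⟩, ⟨4, 2⟩],
  !![⟨2, 3⟩, ⟨1, 3⟩, ⟨2, 4⟩; ⟨1, 3⟩, ⟨2, 3⟩, ⟨2, 4⟩; ⟨2, 4⟩, ⟨2, 4⟩, ⟨2, 4⟩],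
  !![⟨0, 0⟩, ⟨1, 0⟩, ⟨0, 0⟩; ⟨0, 0⟩, ⟨0, 0⟩, ⟨1, 0⟩; ⟨1, 0⟩, ⟨0, 0⟩, ⟨0, 0⟩],
  !![⟨3, 1⟩, ⟨3, 1⟩, ⟨3, 2⟩; ⟨3, 1⟩, ⟨4, 2⟩, ⟨4, 2⟩; ⟨4, 2⟩, ⟨3, 1⟩, ⟨4, 2⟩],
  !![⟨2, 3⟩, ⟨1, 3⟩, ⟨1, 3⟩; ⟨1, 3⟩, ⟨2, 3⟩, ⟨1, 3⟩; ⟨2, 3⟩, ⟨2, 3⟩, ⟨2, 4⟩],
  !![⟨0, 0⟩, ⟨0, 0⟩, ⟨4, 0⟩; ⟨0, 0⟩, ⟨4, 0⟩, ⟨0, 0⟩; ⟨4, 0⟩, ⟨0, 0⟩, ⟨0, 0⟩],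
  !![⟨3, 1⟩, ⟨3, 2⟩, ⟨3, 2⟩; ⟨4, 2⟩, ⟨4, 2⟩, ⟨3, 2⟩; ⟨4, 2⟩, ⟨3, 2⟩, ⟨4, 2⟩],
  !![⟨2, 3⟩, ⟨1, 3⟩, ⟨2, 3⟩; ⟨1, 3⟩, ⟨2, 3⟩, ⟨2, 3⟩; ⟨1, 3⟩, ⟨1, 3⟩, ⟨2, 4⟩]]
def KLi : List (Matrix (Fin 3) (Fin 3) K25) := [!![⟨1, 0⟩, ⟨0, 0⟩, ⟨0, 0⟩; ⟨0, 0⟩, ⟨1, 0⟩, ⟨0, 0⟩; ⟨0, 0⟩, ⟨0, 0⟩, ⟨1, 0⟩],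
  !![⟨2, 4⟩, ⟨2, 4⟩, ⟨2, 4⟩; ⟨2, 4⟩, ⟨2, 3⟩, ⟨1, 3⟩; ⟨2, 4⟩, ⟨1, 3⟩, ⟨2, 3⟩],
  !![⟨4, 2⟩, ⟨3, 2⟩, ⟨3, 1⟩; ⟨4, 2⟩, ⟨3, 1⟩, ⟨3, 2⟩; ⟨4, 2⟩, ⟨4, 2⟩, ⟨4, 2⟩],
  !![⟨1, 0⟩, ⟨0, 0⟩, ⟨0, 0⟩; ⟨0, 0⟩, ⟨1, 0⟩, ⟨0, 0⟩; ⟨0, 0⟩, ⟨0, 0⟩, ⟨1, 0⟩],
  !![⟨2, 4⟩, ⟨2, 3⟩, ⟨2, 4⟩; ⟨1, 3⟩, ⟨2, 3⟩, ⟨2, 3⟩; ⟨2, 4⟩, ⟨2, 4⟩, ⟨2, 3⟩],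
  !![⟨4, 2⟩, ⟨3, 2⟩, ⟨4, 2⟩; ⟨4, 2⟩, ⟨3, 1⟩, ⟨3, 1⟩; ⟨3, 1⟩, ⟨3, 1⟩, ⟨4, 2⟩],
  !![⟨4, 0⟩, ⟨0, 0⟩, ⟨0, 0⟩; ⟨0, 0⟩, ⟨0, 0⟩, ⟨4, 0⟩; ⟨0, 0⟩, ⟨4, 0⟩, ⟨0, 0⟩],
  !![⟨2, 4⟩, ⟨1, 3⟩, ⟨2, 4⟩; ⟨2, 3⟩, ⟨2, 3⟩, ⟨2, 4⟩; ⟨2, 4⟩, ⟨2, 3⟩, ⟨2, 3⟩],
  !![⟨4, 2⟩, ⟨3, 2⟩, ⟨3, 2⟩; ⟨4, 2⟩, ⟨3, 1⟩, ⟨4, 2⟩; ⟨3, 2⟩, ⟨3, 2⟩, ⟨4, 2⟩],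
  !![⟨1, 0⟩, ⟨0, 0⟩, ⟨0, 0⟩; ⟨0, 0⟩, ⟨1, 0⟩, ⟨0, 0⟩; ⟨0, 0⟩, ⟨0, 0⟩, ⟨1, 0⟩],
  !![⟨2, 4⟩, ⟨2, 3⟩, ⟨1, 3⟩; ⟨1, 3⟩, ⟨2, 3⟩, ⟨2, 4⟩; ⟨2, 3⟩, ⟨2, 3⟩, ⟨2, 3⟩],
  !![⟨4, 2⟩, ⟨4, 2⟩, ⟨4, 2⟩; ⟨3, 1⟩, ⟨4, 2⟩, ⟨3, 2⟩; ⟨3, 2⟩, ⟨4, 2⟩, ⟨3, 1⟩],
  !![⟨0, 0⟩, ⟨1, 0⟩, ⟨0, 0⟩; ⟨0, 0⟩, ⟨0, 0⟩, ⟨1, 0⟩; ⟨1, 0⟩, ⟨0, 0⟩, ⟨0, 0⟩],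
  !![⟨2, 4⟩, ⟨1, 3⟩, ⟨1, 3⟩; ⟨2, 3⟩, ⟨2, 3⟩, ⟨1, 3⟩; ⟨2, 3⟩, ⟨1, 3⟩, ⟨2, 3⟩],
  !![⟨4, 2⟩, ⟨4, 2⟩, ⟨3, 2⟩; ⟨3, 1⟩, ⟨4, 2⟩, ⟨3, 1⟩; ⟨4, 2⟩, ⟨3, 1⟩, ⟨3, 1⟩],
  !![⟨0, 0⟩, ⟨4, 0⟩, ⟨0, 0⟩; ⟨4, 0⟩, ⟨0, 0⟩, ⟨0, 0⟩; ⟨0, 0⟩, ⟨0, 0⟩, ⟨4, 0⟩],
  !![⟨2, 4⟩, ⟨2, 4⟩, ⟨1, 3⟩; ⟨2, 4⟩, ⟨2, 3⟩, ⟨2, 3⟩; ⟨2, 3⟩, ⟨2, 4⟩, ⟨2, 3⟩],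
  !![⟨4, 2⟩, ⟨4, 2⟩, ⟨3, 1⟩; ⟨3, 1⟩, ⟨4, 2⟩, ⟨4, 2⟩; ⟨3, 1⟩, ⟨3, 2⟩, ⟨3, 1⟩],
  !![⟨1, 0⟩, ⟨0, 0⟩, ⟨0, 0⟩; ⟨0, 0⟩, ⟨1, 0⟩, ⟨0, 0⟩; ⟨0, 0⟩, ⟨0, 0⟩, ⟨1, 0⟩],
  !![⟨2, 4⟩, ⟨1, 3⟩, ⟨2, 3⟩; ⟨2, 3⟩, ⟨2, 3⟩, ⟨2, 3⟩; ⟨1, 3⟩, ⟨2, 4⟩, ⟨2, 3⟩],
  !![⟨4, 2⟩, ⟨3, 2⟩, ⟨3, 1⟩; ⟨3, 2⟩, ⟨4, 2⟩, ⟨3, 1⟩; ⟨3, 1⟩, ⟨3, 1⟩, ⟨3, 1⟩],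
  !![⟨0, 0⟩, ⟨0, 0⟩, ⟨1, 0⟩; ⟨1, 0⟩, ⟨0, 0⟩, ⟨0, 0⟩; ⟨0, 0⟩, ⟨1, 0⟩, ⟨0, 0⟩],
  !![⟨2, 4⟩, ⟨2, 4⟩, ⟨2, 3⟩; ⟨2, 4⟩, ⟨2, 3⟩, ⟨2, 4⟩; ⟨1, 3⟩, ⟨2, 3⟩, ⟨2, 3⟩],
  !![⟨4, 2⟩, ⟨3, 2⟩, ⟨4, 2⟩; ⟨3, 2⟩, ⟨4, 2⟩, ⟨4, 2⟩; ⟨3, 2⟩, ⟨3, 2⟩, ⟨3, 1⟩],
  !![⟨0, 0⟩, ⟨0, 0⟩, ⟨4, 0⟩; ⟨0, 0⟩, ⟨4, 0⟩, ⟨0, 0⟩; ⟨4, 0⟩, ⟨0, 0⟩, ⟨0, 0⟩],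
  !![⟨2, 4⟩, ⟨2, 3⟩, ⟨2, 3⟩; ⟨1, 3⟩, ⟨2, 3⟩, ⟨1, 3⟩; ⟨1, 3⟩, ⟨1, 3⟩, ⟨2, 3⟩],
  !![⟨4, 2⟩, ⟨3, 2⟩, ⟨3, 2⟩; ⟨3, 2⟩, ⟨4, 2⟩, ⟨3, 2⟩; ⟨4, 2⟩, ⟨4, 2⟩, ⟨3, 1⟩]]
def ke (n : ℕ) : Matrix (Fin 3) (Fin 3) K25 := KL.getD n 0
def kei (n : ℕ) : Matrix (Fin 3) (Fin 3) K25 := KLi.getD n 0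
theorem ke_inv : ∀ n < 27, kei n * ke n = 1 := by decide +kernel
theorem ke_unitary : ∀ n < 27, (ke n).transpose * (ke n).map (fun x => x ^ 5) = 1 := by decide +kernel
theorem ke_det : ∀ n < 27, (ke n).det = 1 := by decide +kernel
theorem ke_pow : ∀ n < 27, ke n ^ 12 = 1 := by decide +kernel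
theorem ke_conj : ∀ n < 27, n % 9 ≠ 0 → ke n * pe n = D25M.hd * ke n := by decide +kernel
def normL : List (List ℕ) := [[0, 1, 2, 3, 4, 5, 6, 7, 8, 9, 10, 11, 12, 13, 14, 15, 16, 17, 18, 19, 20, 21, 22, 23, 24, 25, 26], [0, 3, 6, 2, 14, 26, 1, 22, 16, 9, 12, 15, 11, 23, 8, 10, 4, 25, 18, 21, 24, 20, 5, 17, 19, 13, 7], [0, 6, 3, 19, 7, 13, 11, 8, 23, 9, 15, 12, 1, 16, 22, 20, 17, 5, 18, 24, 21, 10, 25, 4, 2, 26, 14], [0, 1, 2, 3, 4, 5, 6, 7, 8, 9, 10, 11, 12, 13, 14, 15, 16, 17, 18, 19, 20, 21, 22, 23, 24,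 25, 26], [0, 25, 23, 26, 3, 19, 4, 2, 15, 9, 7, 5, 8, 12, 1, 13, 11, 24, 18, 16, 14, 17, 21, 10, 22, 20, 6], [0, 4, 26, 7, 20, 3, 14, 24, 19, 9, 13, 8, 16, 2, 12, 23, 6, 1, 18, 22, 17, 25, 11, 21, 5, 15, 10], [0, 2, 1, 6, 8, 7, 3, 5, 4, 9, 11, 10, 15, 17, 16, 12, 14, 13, 18, 20, 19, 24, 26, 25, 21, 23, 22], [0, 26, 4, 14, 19, 24, 7, 3, 20, 9, 8, 13, 23, 1, 6, 16, 12, 2, 18, 17, 22, 5, 10, 15, 25, 21, 11], [0, 14, 7, 13, 15, 20, 17, 1, 3, 9, 23, 16, 22, 24, 2, 26, 10, 12, 18, 5, 25, 4, 6, 11, 8, 19, 21], [0,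 1, 2, 3, 4, 5, 6, 7, 8, 9, 10, 11, 12, 13, 14, 15, 16, 17, 18, 19, 20, 21, 22, 23, 24, 25, 26], [0, 21, 15, 20, 23, 26, 10, 22, 7, 9, 3, 24, 2, 5, 8, 19, 4, 16, 18, 12, 6, 11, 14, 17, 1, 13, 25], [0, 15, 21, 1, 25, 13, 2, 8, 5, 9, 24, 3, 10, 7, 22, 11, 17, 14, 18, 6, 12, 19, 16, 4, 20, 26, 23], [0, 1, 2, 21, 22, 23, 15, 16, 17, 9, 10, 11, 3, 4, 5, 24, 25, 26, 18, 19, 20, 12, 13, 14, 6, 7, 8], [0, 25, 23, 17, 21, 10, 13, 11, 24, 9, 7, 5, 26, 3, 19, 22, 20, 6, 18, 16, 14, 8, 12, 1, 4, 2, 15], [0, 22, 8, 16,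 20, 21, 5, 6, 19, 9, 4, 17, 25, 2, 3, 14, 15, 1, 18, 13, 26, 7, 11, 12, 23, 24, 10], [0, 2, 1, 15, 17, 16, 21, 23, 22, 9, 11, 10, 24, 26, 25, 3, 5, 4, 18, 20, 19, 6, 8, 7, 12, 14, 13], [0, 8, 22, 5, 19, 6, 16, 21, 20, 9, 17, 4, 14, 1, 15, 25, 3, 2, 18, 26, 13, 23, 10, 24, 7, 12, 11], [0, 14, 7, 22, 24, 2, 8, 19, 21, 9, 23, 16, 4, 6, 11, 17, 1, 3, 18, 5, 25, 13, 15, 20, 26, 10, 12], [0, 1, 2, 3, 4, 5, 6, 7, 8, 9, 10, 11, 12, 13, 14, 15, 16, 17, 18, 19, 20, 21, 22, 23, 24, 25, 26], [0, 12, 24, 11, 5, 26, 19,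 22, 25, 9, 21, 6, 20, 14, 8, 1, 4, 7, 18, 3, 15, 2, 23, 17, 10, 13, 16], [0, 24, 12, 19, 25, 22, 11, 26, 5, 9, 6, 21, 1, 7, 4, 20, 8, 14, 18, 15, 3, 10, 16, 13, 2, 17, 23], [0, 1, 2, 12, 13, 14, 24, 25, 26, 9, 10, 11, 21, 22, 23, 6, 7, 8, 18, 19, 20, 3, 4, 5, 15, 16, 17], [0, 25, 23, 8, 12, 1, 22, 20, 6, 9, 7, 5, 17, 21, 10, 4, 2, 15, 18, 16, 14, 26, 3, 19, 13, 11, 24], [0, 22, 8, 7, 11, 12, 14, 15, 1, 9, 4, 17, 16, 20, 21, 23, 24, 10, 18, 13, 26, 25, 2, 3, 5, 6, 19], [0, 2, 1, 24, 26, 25, 12, 14, 13, 9,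 11, 10, 6, 8, 7, 21, 23, 22, 18, 20, 19, 15, 17, 16, 3, 5, 4], [0, 17, 13, 23, 19, 15, 25, 12, 20, 9, 26, 22, 5, 1, 24, 7, 21, 2, 18, 8, 4, 14, 10, 6, 16, 3, 11], [0, 5, 16, 13, 6, 2, 17, 19, 12, 9, 14, 25, 22, 15, 11, 26, 1, 21, 18, 23, 7, 4, 24, 20, 8, 10, 3]]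
def normT (a b : ℕ) : ℕ := (normL.getD a []).getD b 0
theorem ke_norm : ∀ n < 27, ∀ m < 27, normT n m < 27 ∧ ke n * pe m = pe (normT n m) * ke n := by decide +kernel
def keP : List (List ℕ) := [[0, 1, 2, 3, 4, 5, 6, 7, 8, 9, 10, 11, 12, 13, 14, 15, 16, 17, 18, 19, 20, 21, 22, 23, 24, 25, 26, 27, 28, 29, 30, 31, 32, 33, 34, 35],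
  [17, 29, 21, 18, 33, 34, 35, 32, 19, 25, 22, 3, 23, 7, 28, 27, 16, 8, 30, 0, 20, 14, 10, 1, 31, 4, 13, 5, 2, 12, 11, 6, 26, 9, 15, 24],
  [10, 20, 22, 16, 12, 30, 14, 8, 19, 4, 21, 15, 23, 31, 28, 5, 18, 32, 34, 24, 29, 35, 17, 9, 7, 25, 6, 27, 26, 33, 11, 13, 2, 1, 3, 0],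
  [0, 1, 2, 3, 4, 5, 6, 7, 8, 9, 10, 11, 12, 13, 14, 15, 16, 17, 18, 19, 20, 21, 22, 23, 24, 25, 26, 27, 28, 29, 30, 31, 32, 33, 34, 35],
  [26, 15, 24, 9, 11, 23, 19, 28, 10, 27, 6, 12, 16, 35, 22, 25, 4, 21, 29, 8, 5, 17, 7, 30, 31, 34, 13, 33, 14, 18, 20, 32, 2, 3, 1, 0],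
  [21, 18, 17, 29, 27, 25, 13, 31, 6, 15, 14, 33, 5, 22, 7, 9, 12, 19, 23, 35, 30, 28, 8, 34, 24, 16, 26, 20, 32, 11, 4, 10, 0, 3, 1, 2],
  [8, 12, 14, 30, 9, 15, 24, 26, 0, 4, 10, 18, 1, 32, 2, 5, 16, 19, 11, 17, 20, 28, 22, 29, 6, 33, 7, 34, 21, 23, 3, 35, 13, 25, 27, 31],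
  [6, 5, 7, 4, 15, 9, 24, 26, 21, 27, 14, 23, 18, 0, 17, 25, 12, 35, 33, 19, 30, 32, 8, 11, 13, 3, 31, 1, 28, 34, 29, 2, 22, 16, 20, 10],
  [19, 11, 28, 23, 15, 9, 26, 24, 14, 18, 32, 20, 30, 7, 8, 29, 33, 13, 25, 22, 34, 31, 35, 16, 17, 5, 21, 4, 10, 27, 12, 6, 2, 3, 1, 0],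
  [0, 1, 2, 3, 4, 5, 6, 7, 8, 9, 10, 11, 12, 13, 14, 15, 16, 17, 18, 19, 20, 21, 22, 23, 24, 25, 26, 27, 28, 29, 30, 31, 32, 33, 34, 35],
  [14, 12, 8, 30, 20, 16, 10, 22, 26, 33, 13, 11, 9, 17, 24, 34, 27, 6, 5, 28, 25, 7, 31, 23, 35, 29, 32, 18, 19, 4, 15, 21, 2, 1, 3, 0],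
  [31, 25, 13, 27, 4, 5, 7, 6, 26, 29, 8, 3, 9, 35, 24, 18, 30, 22, 16, 0, 12, 10, 14, 1, 17, 33, 21, 34, 2, 20, 15, 32, 19, 23, 11, 28],
  [22, 20, 10, 16, 23, 11, 28, 19, 0, 33, 14, 27, 1, 6, 2, 34, 30, 26, 15, 31, 12, 24, 8, 25, 32, 4, 35, 5, 13, 9, 3, 7, 21, 29, 18, 17],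
  [7, 5, 6, 4, 30, 12, 14, 8, 26, 3, 22, 33, 15, 19, 24, 1, 20, 13, 25, 32, 16, 31, 10, 34, 2, 11, 0, 23, 35, 27, 9, 28, 17, 18, 29, 21],
  [24, 15, 26, 9, 5, 4, 6, 7, 28, 34, 2, 29, 11, 8, 19, 33, 1, 31, 25, 17, 3, 13, 0, 18, 32, 30, 35, 12, 21, 27, 23, 14, 22, 16, 20, 10],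
  [0, 1, 2, 3, 33, 34, 32, 35, 22, 23, 14, 15, 20, 21, 10, 11, 30, 31, 27, 26, 12, 13, 8, 9, 28, 29, 19, 18, 24, 25, 16, 17, 6, 4, 5, 7],
  [28, 11, 19, 23, 34, 33, 32, 35, 24, 5, 2, 25, 15, 22, 26, 4, 1, 17, 29, 31, 3, 21, 0, 27, 6, 16, 7, 20, 13, 18, 9, 10, 8, 30, 12, 14],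
  [14, 30, 8, 12, 5, 4, 7, 6, 35, 27, 28, 9, 34, 10, 32, 25, 23, 0, 1, 24, 11, 2, 19, 15, 31, 16, 13, 20, 26, 3, 33, 22, 17, 18, 29, 21],
  [0, 1, 2, 3, 4, 5, 6, 7, 8, 9, 10, 11, 12, 13, 14, 15, 16, 17, 18, 19, 20, 21, 22, 23, 24, 25, 26, 27, 28, 29, 30, 31, 32, 33, 34, 35],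
  [7, 4, 6, 5, 25, 27, 31, 13, 2, 20, 32, 15, 1, 14, 0, 16, 34, 21, 18, 24, 33, 17, 35, 9, 10, 12, 22, 30, 26, 29, 3, 8, 19, 23, 11, 28],
  [2, 1, 0, 3, 20, 16, 10, 22, 7, 25, 32, 18, 4, 19, 6, 27, 34, 24, 15, 21, 33, 26, 35, 29, 31, 23, 13, 11, 17, 9, 5, 28, 14, 12, 30, 8],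
  [8, 12, 14, 30, 25, 27, 13, 31, 22, 29, 2, 5, 20, 28, 10, 18, 3, 35, 34, 7, 1, 32, 0, 4, 21, 23, 17, 11, 6, 33, 16, 19, 24, 9, 15, 26],
  [10, 16, 22, 20, 34, 33, 35, 32, 7, 18, 24, 23, 5, 14, 6, 29, 9, 0, 1, 28, 15, 2, 26, 11, 17, 30, 21, 12, 19, 3, 4, 8, 31, 27, 25, 13],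
  [0, 3, 2, 1, 18, 29, 21, 17, 24, 16, 19, 12, 15, 6, 26, 20, 23, 35, 33, 14, 11, 32, 28, 30, 22, 5, 10, 4, 8, 34, 9, 7, 13, 27, 25, 31],
  [22, 20, 10, 16, 29, 18, 21, 17, 8, 25, 2, 34, 12, 24, 14, 27, 3, 7, 5, 35, 1, 6, 0, 33, 13, 9, 31, 15, 32, 4, 30, 26, 28, 23, 11, 19],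
  [13, 27, 31, 25, 18, 29, 21, 17, 32, 11, 10, 4, 34, 8, 35, 23, 20, 26, 9, 7, 16, 24, 22, 5, 28, 30, 19, 12, 6, 15, 33, 14, 0, 3, 1, 2],
  [2, 3, 0, 1, 11, 23, 19, 28, 17, 5, 13, 33, 18, 14, 21, 4, 25, 22, 20, 32, 27, 10, 31, 34, 7, 30, 6, 12, 35, 16, 29, 8, 26, 15, 9, 24]]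
def keC : List (List K25) := [[⟨1, 0⟩, ⟨1, 0⟩, ⟨1, 0⟩, ⟨1, 0⟩, ⟨1, 0⟩, ⟨1, 0⟩, ⟨1, 0⟩, ⟨1, 0⟩, ⟨1, 0⟩, ⟨1, 0⟩, ⟨1, 0⟩, ⟨1, 0⟩, ⟨1, 0⟩, ⟨1, 0⟩, ⟨1, 0⟩, ⟨1, 0⟩, ⟨1, 0⟩, ⟨1, 0⟩, ⟨1, 0⟩, ⟨1, 0⟩, ⟨1, 0⟩, ⟨1, 0⟩, ⟨1, 0⟩, ⟨1, 0⟩, ⟨1, 0⟩, ⟨1, 0⟩, ⟨1, 0⟩, ⟨1, 0⟩, ⟨1, 0⟩, ⟨1, 0⟩, ⟨1, 0⟩, ⟨1, 0⟩, ⟨1, 0⟩, ⟨1, 0⟩, ⟨1, 0⟩, ⟨1, 0⟩],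
  [⟨1, 1⟩, ⟨2, 3⟩, ⟨2, 2⟩, ⟨1, 3⟩, ⟨2, 2⟩, ⟨3, 3⟩, ⟨1, 3⟩, ⟨1, 2⟩, ⟨1, 1⟩, ⟨2, 2⟩, ⟨4, 1⟩, ⟨1, 4⟩, ⟨2, 3⟩, ⟨2, 4⟩, ⟨2, 2⟩, ⟨3, 3⟩, ⟨2, 0⟩, ⟨0, 1⟩, ⟨1, 4⟩, ⟨0, 1⟩, ⟨3, 0⟩, ⟨0, 3⟩, ⟨4, 2⟩, ⟨3, 4⟩, ⟨1, 3⟩, ⟨0, 3⟩, ⟨1, 2⟩, ⟨0, 2⟩, ⟨0, 3⟩, ⟨3, 4⟩, ⟨1, 3⟩, ⟨1, 4⟩, ⟨2, 4⟩, ⟨0, 3⟩, ⟨0, 2⟩, ⟨1, 4⟩],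
  [⟨0, 1⟩, ⟨4, 2⟩, ⟨0, 2⟩, ⟨3, 1⟩, ⟨0, 2⟩, ⟨0, 3⟩, ⟨3, 1⟩, ⟨4, 1⟩, ⟨0, 1⟩, ⟨0, 2⟩, ⟨3, 4⟩, ⟨2, 1⟩, ⟨4, 2⟩, ⟨3, 2⟩, ⟨0, 2⟩, ⟨0, 3⟩, ⟨2, 2⟩, ⟨4, 0⟩, ⟨2, 1⟩, ⟨4, 0⟩, ⟨3, 3⟩, ⟨2, 0⟩, ⟨2, 4⟩, ⟨4, 3⟩, ⟨3, 1⟩, ⟨2, 0⟩, ⟨4, 1⟩, ⟨3, 0⟩, ⟨2, 0⟩, ⟨4, 3⟩, ⟨3, 1⟩, ⟨2, 1⟩, ⟨3, 2⟩, ⟨2, 0⟩, ⟨3, 0⟩, ⟨2, 1⟩],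
  [⟨1, 0⟩, ⟨1, 0⟩, ⟨1, 0⟩, ⟨1, 0⟩, ⟨1, 0⟩, ⟨1, 0⟩, ⟨1, 0⟩, ⟨1, 0⟩, ⟨1, 0⟩, ⟨1, 0⟩, ⟨1, 0⟩, ⟨1, 0⟩, ⟨1, 0⟩, ⟨1, 0⟩, ⟨1, 0⟩, ⟨1, 0⟩, ⟨1, 0⟩, ⟨1, 0⟩, ⟨1, 0⟩, ⟨1, 0⟩, ⟨1, 0⟩, ⟨1, 0⟩, ⟨1, 0⟩, ⟨1, 0⟩, ⟨1, 0⟩, ⟨1, 0⟩, ⟨1, 0⟩, ⟨1, 0⟩, ⟨1, 0⟩, ⟨1, 0⟩, ⟨1, 0⟩, ⟨1, 0⟩, ⟨1, 0⟩, ⟨1, 0⟩, ⟨1, 0⟩, ⟨1, 0⟩],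
  [⟨1, 2⟩, ⟨2, 4⟩, ⟨2, 3⟩, ⟨1, 4⟩, ⟨1, 1⟩, ⟨2, 2⟩, ⟨0, 2⟩, ⟨0, 1⟩, ⟨0, 2⟩, ⟨1, 3⟩, ⟨3, 3⟩, ⟨0, 1⟩, ⟨1, 1⟩, ⟨1, 2⟩, ⟨0, 1⟩, ⟨1, 2⟩, ⟨0, 1⟩, ⟨3, 2⟩, ⟨4, 1⟩, ⟨3, 3⟩, ⟨0, 3⟩, ⟨2, 1⟩, ⟨1, 1⟩, ⟨0, 3⟩, ⟨3, 4⟩, ⟨2, 4⟩, ⟨2, 4⟩, ⟨1, 4⟩, ⟨1, 1⟩, ⟨4, 2⟩, ⟨2, 2⟩, ⟨2, 3⟩, ⟨3, 4⟩, ⟨1, 3⟩, ⟨1, 2⟩, ⟨2, 4⟩],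
  [⟨4, 2⟩, ⟨3, 0⟩, ⟨3, 1⟩, ⟨4, 0⟩, ⟨4, 3⟩, ⟨3, 2⟩, ⟨0, 2⟩, ⟨0, 3⟩, ⟨0, 2⟩, ⟨4, 1⟩, ⟨2, 1⟩, ⟨0, 3⟩, ⟨4, 3⟩, ⟨4, 2⟩, ⟨0, 3⟩, ⟨4, 2⟩, ⟨0, 3⟩, ⟨2, 2⟩, ⟨1, 3⟩, ⟨2, 1⟩, ⟨0, 1⟩, ⟨3, 3⟩, ⟨4, 3⟩, ⟨0, 1⟩, ⟨2, 0⟩, ⟨3, 0⟩, ⟨3, 0⟩, ⟨4, 0⟩, ⟨4, 3⟩, ⟨1, 2⟩, ⟨3, 2⟩, ⟨3, 1⟩, ⟨2, 0⟩, ⟨4, 1⟩, ⟨4, 2⟩, ⟨3, 0⟩],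
  [⟨4, 0⟩, ⟨4, 0⟩, ⟨4, 0⟩, ⟨4, 0⟩, ⟨4, 0⟩, ⟨4, 0⟩, ⟨4, 0⟩, ⟨4, 0⟩, ⟨4, 0⟩, ⟨4, 0⟩, ⟨4, 0⟩, ⟨4, 0⟩, ⟨4, 0⟩, ⟨4, 0⟩, ⟨4, 0⟩, ⟨4, 0⟩, ⟨4, 0⟩, ⟨4, 0⟩, ⟨4, 0⟩, ⟨4, 0⟩, ⟨4, 0⟩, ⟨4, 0⟩, ⟨4, 0⟩, ⟨4, 0⟩, ⟨4, 0⟩, ⟨4, 0⟩, ⟨4, 0⟩, ⟨4, 0⟩, ⟨4, 0⟩, ⟨4, 0⟩, ⟨4, 0⟩, ⟨4, 0⟩, ⟨4, 0⟩, ⟨4, 0⟩, ⟨4, 0⟩, ⟨4, 0⟩],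
  [⟨2, 2⟩, ⟨3, 4⟩, ⟨3, 3⟩, ⟨2, 4⟩, ⟨1, 2⟩, ⟨2, 3⟩, ⟨0, 3⟩, ⟨0, 2⟩, ⟨2, 3⟩, ⟨3, 4⟩, ⟨1, 4⟩, ⟨3, 2⟩, ⟨0, 2⟩, ⟨0, 3⟩, ⟨1, 3⟩, ⟨2, 4⟩, ⟨3, 3⟩, ⟨1, 4⟩, ⟨3, 3⟩, ⟨2, 0⟩, ⟨1, 1⟩, ⟨3, 4⟩, ⟨3, 4⟩, ⟨2, 1⟩, ⟨2, 2⟩, ⟨1, 2⟩, ⟨3, 3⟩, ⟨2, 3⟩, ⟨3, 0⟩, ⟨1, 1⟩, ⟨0, 1⟩, ⟨0, 2⟩, ⟨2, 3⟩, ⟨0, 2⟩, ⟨0, 1⟩, ⟨1, 3⟩],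
  [⟨3, 0⟩, ⟨0, 1⟩, ⟨4, 0⟩, ⟨0, 2⟩, ⟨3, 1⟩, ⟨4, 1⟩, ⟨4, 3⟩, ⟨3, 2⟩, ⟨4, 1⟩, ⟨0, 1⟩, ⟨0, 3⟩, ⟨3, 4⟩, ⟨3, 2⟩, ⟨4, 3⟩, ⟨4, 2⟩, ⟨0, 2⟩, ⟨4, 0⟩, ⟨0, 3⟩, ⟨4, 0⟩, ⟨1, 3⟩, ⟨2, 0⟩, ⟨0, 1⟩, ⟨0, 1⟩, ⟨2, 4⟩, ⟨3, 0⟩, ⟨3, 1⟩, ⟨4, 0⟩, ⟨4, 1⟩, ⟨1, 2⟩, ⟨2, 0⟩, ⟨2, 1⟩, ⟨3, 2⟩, ⟨4, 1⟩, ⟨3, 2⟩, ⟨2, 1⟩, ⟨4, 2⟩],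
  [⟨1, 0⟩, ⟨1, 0⟩, ⟨1, 0⟩, ⟨1, 0⟩, ⟨1, 0⟩, ⟨1, 0⟩, ⟨1, 0⟩, ⟨1, 0⟩, ⟨1, 0⟩, ⟨1, 0⟩, ⟨1, 0⟩, ⟨1, 0⟩, ⟨1, 0⟩, ⟨1, 0⟩, ⟨1, 0⟩, ⟨1, 0⟩, ⟨1, 0⟩, ⟨1, 0⟩, ⟨1, 0⟩, ⟨1, 0⟩, ⟨1, 0⟩, ⟨1, 0⟩, ⟨1, 0⟩, ⟨1, 0⟩, ⟨1, 0⟩, ⟨1, 0⟩, ⟨1, 0⟩, ⟨1, 0⟩, ⟨1, 0⟩, ⟨1, 0⟩, ⟨1, 0⟩, ⟨1, 0⟩, ⟨1, 0⟩, ⟨1, 0⟩, ⟨1, 0⟩, ⟨1, 0⟩],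
  [⟨2, 4⟩, ⟨0, 3⟩, ⟨1, 4⟩, ⟨0, 2⟩, ⟨2, 3⟩, ⟨1, 3⟩, ⟨1, 1⟩, ⟨2, 2⟩, ⟨1, 3⟩, ⟨0, 3⟩, ⟨0, 1⟩, ⟨2, 0⟩, ⟨2, 2⟩, ⟨1, 1⟩, ⟨1, 2⟩, ⟨0, 2⟩, ⟨1, 4⟩, ⟨0, 1⟩, ⟨1, 4⟩, ⟨4, 1⟩, ⟨3, 4⟩, ⟨0, 3⟩, ⟨0, 3⟩, ⟨3, 0⟩, ⟨2, 4⟩, ⟨2, 3⟩, ⟨1, 4⟩, ⟨1, 3⟩, ⟨4, 2⟩, ⟨3, 4⟩, ⟨3, 3⟩, ⟨2, 2⟩, ⟨1, 3⟩, ⟨2, 2⟩, ⟨3, 3⟩, ⟨1, 2⟩],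
  [⟨3, 1⟩, ⟨0, 2⟩, ⟨4, 1⟩, ⟨0, 3⟩, ⟨2, 0⟩, ⟨3, 0⟩, ⟨3, 2⟩, ⟨2, 1⟩, ⟨3, 2⟩, ⟨4, 2⟩, ⟨4, 0⟩, ⟨2, 1⟩, ⟨2, 0⟩, ⟨3, 1⟩, ⟨2, 1⟩, ⟨3, 1⟩, ⟨2, 1⟩, ⟨3, 4⟩, ⟨2, 2⟩, ⟨4, 0⟩, ⟨4, 3⟩, ⟨2, 4⟩, ⟨2, 0⟩, ⟨4, 3⟩, ⟨0, 1⟩, ⟨0, 2⟩, ⟨0, 2⟩, ⟨0, 3⟩, ⟨2, 0⟩, ⟨3, 3⟩, ⟨3, 0⟩, ⟨4, 1⟩, ⟨0, 1⟩, ⟨4, 2⟩, ⟨3, 1⟩, ⟨0, 2⟩],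
  [⟨2, 1⟩, ⟨4, 1⟩, ⟨1, 2⟩, ⟨3, 4⟩, ⟨2, 1⟩, ⟨1, 2⟩, ⟨4, 3⟩, ⟨1, 4⟩, ⟨1, 0⟩, ⟨0, 1⟩, ⟨3, 1⟩, ⟨4, 2⟩, ⟨1, 0⟩, ⟨4, 4⟩, ⟨1, 0⟩, ⟨0, 1⟩, ⟨3, 2⟩, ⟨4, 2⟩, ⟨3, 1⟩, ⟨3, 2⟩, ⟨1, 3⟩, ⟨2, 4⟩, ⟨2, 3⟩, ⟨2, 4⟩, ⟨0, 1⟩, ⟨4, 4⟩, ⟨0, 1⟩, ⟨4, 4⟩, ⟨1, 3⟩, ⟨2, 3⟩, ⟨1, 0⟩, ⟨4, 4⟩, ⟨4, 1⟩, ⟨4, 3⟩, ⟨1, 4⟩, ⟨3, 4⟩],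
  [⟨3, 4⟩, ⟨1, 3⟩, ⟨2, 4⟩, ⟨1, 2⟩, ⟨2, 4⟩, ⟨1, 4⟩, ⟨1, 2⟩, ⟨2, 3⟩, ⟨3, 4⟩, ⟨2, 4⟩, ⟨3, 2⟩, ⟨0, 1⟩, ⟨1, 3⟩, ⟨0, 2⟩, ⟨2, 4⟩, ⟨1, 4⟩, ⟨4, 1⟩, ⟨3, 3⟩, ⟨0, 1⟩, ⟨3, 3⟩, ⟨4, 2⟩, ⟨1, 1⟩, ⟨2, 1⟩, ⟨0, 3⟩, ⟨1, 2⟩, ⟨1, 1⟩, ⟨2, 3⟩, ⟨2, 2⟩, ⟨1, 1⟩, ⟨0, 3⟩, ⟨1, 2⟩, ⟨0, 1⟩, ⟨0, 2⟩, ⟨1, 1⟩, ⟨2, 2⟩, ⟨0, 1⟩],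
  [⟨0, 2⟩, ⟨4, 3⟩, ⟨0, 3⟩, ⟨3, 2⟩, ⟨4, 1⟩, ⟨4, 2⟩, ⟨2, 0⟩, ⟨3, 0⟩, ⟨4, 2⟩, ⟨4, 3⟩, ⟨2, 1⟩, ⟨1, 3⟩, ⟨3, 0⟩, ⟨2, 0⟩, ⟨3, 1⟩, ⟨3, 2⟩, ⟨0, 3⟩, ⟨2, 1⟩, ⟨0, 3⟩, ⟨2, 2⟩, ⟨0, 1⟩, ⟨4, 3⟩, ⟨4, 3⟩, ⟨1, 2⟩, ⟨0, 2⟩, ⟨4, 1⟩, ⟨0, 3⟩, ⟨4, 2⟩, ⟨3, 3⟩, ⟨0, 1⟩, ⟨4, 0⟩, ⟨3, 0⟩, ⟨4, 2⟩, ⟨3, 0⟩, ⟨4, 0⟩, ⟨3, 1⟩],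
  [⟨4, 0⟩, ⟨4, 0⟩, ⟨4, 0⟩, ⟨4, 0⟩, ⟨0, 4⟩, ⟨0, 4⟩, ⟨0, 4⟩, ⟨0, 4⟩, ⟨3, 4⟩, ⟨3, 4⟩, ⟨2, 4⟩, ⟨2, 4⟩, ⟨1, 4⟩, ⟨1, 4⟩, ⟨4, 3⟩, ⟨4, 3⟩, ⟨2, 3⟩, ⟨2, 3⟩, ⟨1, 3⟩, ⟨1, 3⟩, ⟨4, 2⟩, ⟨4, 2⟩, ⟨3, 2⟩, ⟨3, 2⟩, ⟨1, 2⟩, ⟨1, 2⟩, ⟨4, 1⟩, ⟨4, 1⟩, ⟨3, 1⟩, ⟨3, 1⟩, ⟨2, 1⟩, ⟨2, 1⟩, ⟨1, 1⟩, ⟨1, 1⟩, ⟨1, 1⟩, ⟨1, 1⟩],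
  [⟨2, 3⟩, ⟨0, 2⟩, ⟨1, 3⟩, ⟨0, 1⟩, ⟨3, 4⟩, ⟨2, 4⟩, ⟨2, 2⟩, ⟨3, 3⟩, ⟨2, 2⟩, ⟨1, 2⟩, ⟨1, 4⟩, ⟨3, 3⟩, ⟨3, 4⟩, ⟨2, 3⟩, ⟨3, 3⟩, ⟨2, 3⟩, ⟨3, 3⟩, ⟨2, 0⟩, ⟨3, 2⟩, ⟨1, 4⟩, ⟨1, 1⟩, ⟨3, 0⟩, ⟨3, 4⟩, ⟨1, 1⟩, ⟨0, 3⟩, ⟨0, 2⟩, ⟨0, 2⟩, ⟨0, 1⟩, ⟨3, 4⟩, ⟨2, 1⟩, ⟨2, 4⟩, ⟨1, 3⟩, ⟨0, 3⟩, ⟨1, 2⟩, ⟨2, 3⟩, ⟨0, 2⟩],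
  [⟨4, 3⟩, ⟨3, 1⟩, ⟨3, 2⟩, ⟨4, 1⟩, ⟨3, 2⟩, ⟨2, 1⟩, ⟨4, 1⟩, ⟨4, 2⟩, ⟨4, 3⟩, ⟨3, 2⟩, ⟨1, 3⟩, ⟨4, 0⟩, ⟨3, 1⟩, ⟨3, 0⟩, ⟨3, 2⟩, ⟨2, 1⟩, ⟨3, 4⟩, ⟨0, 3⟩, ⟨4, 0⟩, ⟨0, 3⟩, ⟨2, 4⟩, ⟨0, 1⟩, ⟨1, 2⟩, ⟨2, 0⟩, ⟨4, 1⟩, ⟨0, 1⟩, ⟨4, 2⟩, ⟨0, 2⟩, ⟨0, 1⟩, ⟨2, 0⟩, ⟨4, 1⟩, ⟨4, 0⟩, ⟨3, 0⟩, ⟨0, 1⟩, ⟨0, 2⟩, ⟨4, 0⟩],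
  [⟨1, 0⟩, ⟨1, 0⟩, ⟨1, 0⟩, ⟨1, 0⟩, ⟨1, 0⟩, ⟨1, 0⟩, ⟨1, 0⟩, ⟨1, 0⟩, ⟨1, 0⟩, ⟨1, 0⟩, ⟨1, 0⟩, ⟨1, 0⟩, ⟨1, 0⟩, ⟨1, 0⟩, ⟨1, 0⟩, ⟨1, 0⟩, ⟨1, 0⟩, ⟨1, 0⟩, ⟨1, 0⟩, ⟨1, 0⟩, ⟨1, 0⟩, ⟨1, 0⟩, ⟨1, 0⟩, ⟨1, 0⟩, ⟨1, 0⟩, ⟨1, 0⟩, ⟨1, 0⟩, ⟨1, 0⟩, ⟨1, 0⟩, ⟨1, 0⟩, ⟨1, 0⟩, ⟨1, 0⟩, ⟨1, 0⟩, ⟨1, 0⟩, ⟨1, 0⟩, ⟨1, 0⟩],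
  [⟨1, 3⟩, ⟨2, 2⟩, ⟨1, 2⟩, ⟨3, 3⟩, ⟨0, 3⟩, ⟨0, 2⟩, ⟨2, 4⟩, ⟨1, 4⟩, ⟨2, 4⟩, ⟨2, 3⟩, ⟨0, 1⟩, ⟨1, 4⟩, ⟨0, 3⟩, ⟨1, 3⟩, ⟨1, 4⟩, ⟨1, 3⟩, ⟨1, 4⟩, ⟨4, 1⟩, ⟨2, 0⟩, ⟨0, 1⟩, ⟨3, 4⟩, ⟨4, 2⟩, ⟨0, 3⟩, ⟨3, 4⟩, ⟨1, 1⟩, ⟨2, 2⟩, ⟨2, 2⟩, ⟨3, 3⟩, ⟨0, 3⟩, ⟨3, 0⟩, ⟨0, 2⟩, ⟨1, 2⟩, ⟨1, 1⟩, ⟨2, 3⟩, ⟨1, 3⟩, ⟨2, 2⟩],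
  [⟨3, 2⟩, ⟨2, 0⟩, ⟨2, 1⟩, ⟨3, 0⟩, ⟨4, 2⟩, ⟨3, 1⟩, ⟨0, 1⟩, ⟨0, 2⟩, ⟨3, 1⟩, ⟨2, 0⟩, ⟨4, 0⟩, ⟨2, 2⟩, ⟨0, 2⟩, ⟨0, 1⟩, ⟨4, 1⟩, ⟨3, 0⟩, ⟨2, 1⟩, ⟨4, 0⟩, ⟨2, 1⟩, ⟨3, 4⟩, ⟨4, 3⟩, ⟨2, 0⟩, ⟨2, 0⟩, ⟨3, 3⟩, ⟨3, 2⟩, ⟨4, 2⟩, ⟨2, 1⟩, ⟨3, 1⟩, ⟨2, 4⟩, ⟨4, 3⟩, ⟨0, 3⟩, ⟨0, 2⟩, ⟨3, 1⟩, ⟨0, 2⟩, ⟨0, 3⟩, ⟨4, 1⟩],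
  [⟨1, 0⟩, ⟨1, 0⟩, ⟨1, 0⟩, ⟨1, 0⟩, ⟨0, 1⟩, ⟨0, 1⟩, ⟨0, 1⟩, ⟨0, 1⟩, ⟨2, 1⟩, ⟨2, 1⟩, ⟨3, 1⟩, ⟨3, 1⟩, ⟨4, 1⟩, ⟨4, 1⟩, ⟨1, 2⟩, ⟨1, 2⟩, ⟨3, 2⟩, ⟨3, 2⟩, ⟨4, 2⟩, ⟨4, 2⟩, ⟨1, 3⟩, ⟨1, 3⟩, ⟨2, 3⟩, ⟨2, 3⟩, ⟨4, 3⟩, ⟨4, 3⟩, ⟨1, 4⟩, ⟨1, 4⟩, ⟨2, 4⟩, ⟨2, 4⟩, ⟨3, 4⟩, ⟨3, 4⟩, ⟨4, 4⟩, ⟨4, 4⟩, ⟨4, 4⟩, ⟨4, 4⟩],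
  [⟨0, 2⟩, ⟨1, 1⟩, ⟨0, 1⟩, ⟨2, 2⟩, ⟨1, 3⟩, ⟨1, 2⟩, ⟨3, 4⟩, ⟨2, 4⟩, ⟨1, 2⟩, ⟨1, 1⟩, ⟨3, 3⟩, ⟨4, 1⟩, ⟨2, 4⟩, ⟨3, 4⟩, ⟨2, 3⟩, ⟨2, 2⟩, ⟨0, 1⟩, ⟨3, 3⟩, ⟨0, 1⟩, ⟨3, 2⟩, ⟨0, 3⟩, ⟨1, 1⟩, ⟨1, 1⟩, ⟨4, 2⟩, ⟨0, 2⟩, ⟨1, 3⟩, ⟨0, 1⟩, ⟨1, 2⟩, ⟨2, 1⟩, ⟨0, 3⟩, ⟨1, 4⟩, ⟨2, 4⟩, ⟨1, 2⟩, ⟨2, 4⟩, ⟨1, 4⟩, ⟨2, 3⟩],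
  [⟨2, 0⟩, ⟨4, 1⟩, ⟨3, 0⟩, ⟨4, 2⟩, ⟨3, 0⟩, ⟨4, 0⟩, ⟨4, 2⟩, ⟨3, 1⟩, ⟨2, 0⟩, ⟨3, 0⟩, ⟨2, 2⟩, ⟨0, 3⟩, ⟨4, 1⟩, ⟨0, 2⟩, ⟨3, 0⟩, ⟨4, 0⟩, ⟨1, 3⟩, ⟨2, 1⟩, ⟨0, 3⟩, ⟨2, 1⟩, ⟨1, 2⟩, ⟨4, 3⟩, ⟨3, 3⟩, ⟨0, 1⟩, ⟨4, 2⟩, ⟨4, 3⟩, ⟨3, 1⟩, ⟨3, 2⟩, ⟨4, 3⟩, ⟨0, 1⟩, ⟨4, 2⟩, ⟨0, 3⟩, ⟨0, 2⟩, ⟨4, 3⟩, ⟨3, 2⟩, ⟨0, 3⟩],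
  [⟨3, 4⟩, ⟨1, 4⟩, ⟨4, 3⟩, ⟨2, 1⟩, ⟨3, 4⟩, ⟨4, 3⟩, ⟨1, 2⟩, ⟨4, 1⟩, ⟨4, 0⟩, ⟨0, 4⟩, ⟨2, 4⟩, ⟨1, 3⟩, ⟨4, 0⟩, ⟨1, 1⟩, ⟨4, 0⟩, ⟨0, 4⟩, ⟨2, 3⟩, ⟨1, 3⟩, ⟨2, 4⟩, ⟨2, 3⟩, ⟨4, 2⟩, ⟨3, 1⟩, ⟨3, 2⟩, ⟨3, 1⟩, ⟨0, 4⟩, ⟨1, 1⟩, ⟨0, 4⟩, ⟨1, 1⟩, ⟨4, 2⟩, ⟨3, 2⟩, ⟨4, 0⟩, ⟨1, 1⟩, ⟨1, 4⟩, ⟨1, 2⟩, ⟨4, 1⟩, ⟨2, 1⟩],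
  [⟨0, 3⟩, ⟨1, 2⟩, ⟨0, 2⟩, ⟨2, 3⟩, ⟨0, 2⟩, ⟨0, 1⟩, ⟨2, 3⟩, ⟨1, 3⟩, ⟨0, 3⟩, ⟨0, 2⟩, ⟨2, 0⟩, ⟨3, 3⟩, ⟨1, 2⟩, ⟨2, 2⟩, ⟨0, 2⟩, ⟨0, 1⟩, ⟨3, 2⟩, ⟨1, 4⟩, ⟨3, 3⟩, ⟨1, 4⟩, ⟨2, 1⟩, ⟨3, 4⟩, ⟨3, 0⟩, ⟨1, 1⟩, ⟨2, 3⟩, ⟨3, 4⟩, ⟨1, 3⟩, ⟨2, 4⟩, ⟨3, 4⟩, ⟨1, 1⟩, ⟨2, 3⟩, ⟨3, 3⟩, ⟨2, 2⟩, ⟨3, 4⟩, ⟨2, 4⟩, ⟨3, 3⟩],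
  [⟨4, 1⟩, ⟨3, 2⟩, ⟨4, 2⟩, ⟨2, 1⟩, ⟨0, 1⟩, ⟨0, 2⟩, ⟨3, 0⟩, ⟨4, 0⟩, ⟨3, 0⟩, ⟨3, 1⟩, ⟨0, 3⟩, ⟨4, 0⟩, ⟨0, 1⟩, ⟨4, 1⟩, ⟨4, 0⟩, ⟨4, 1⟩, ⟨4, 0⟩, ⟨1, 3⟩, ⟨3, 4⟩, ⟨0, 3⟩, ⟨2, 0⟩, ⟨1, 2⟩, ⟨0, 1⟩, ⟨2, 0⟩, ⟨4, 3⟩, ⟨3, 2⟩, ⟨3, 2⟩, ⟨2, 1⟩, ⟨0, 1⟩, ⟨2, 4⟩, ⟨0, 2⟩, ⟨4, 2⟩, ⟨4, 3⟩, ⟨3, 1⟩, ⟨4, 1⟩, ⟨3, 2⟩]]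
theorem ke_sig : ∀ n < 27, ∀ i < 36, (keP.getD n []).getD i 0 < 36 ∧ (keC.getD n []).getD i 0 ≠ 0 ∧ Matrix.mulVec (ke n) (D25M.sig i) = (keC.getD n []).getD i 0 • D25M.sig ((keP.getD n []).getD i 0) := by decide +kernel
def mu6 : List K25 := [⟨1, 0⟩, ⟨4, 0⟩, ⟨0, 1⟩, ⟨1, 1⟩, ⟨0, 4⟩, ⟨4, 4⟩]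
theorem mu6_mem : ∀ c : K25, c * c ^ 5 = 1 → c ∈ mu6 := by decide +kernel
theorem diag_case : ∀ c0 ∈ mu6, ∀ c1 ∈ mu6, ∀ c2 ∈ mu6, c0 * c1 * c2 = 1 → ∀ m < 27, (Matrix.diagonal ![c0, c1, c2] : Matrix (Fin 3) (Fin 3) K25) * D25M.hs = pe m * Matrix.diagonal ![c0, c1, c2] → ∃ n < 27, (Matrix.diagonal ![c0, c1, c2] : Matrix (Fin 3) (Fin 3) K25) = pe n := by decide +kernel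
theorem hd_diag : D25M.hd = Matrix.diagonal ![⟨1, 0⟩, ⟨0, 1⟩, ⟨4, 4⟩] := by decide +kernel
theorem hd_diag_ne : (⟨1, 0⟩ : K25) ≠ ⟨0, 1⟩ ∧ (⟨1, 0⟩ : K25) ≠ ⟨4, 4⟩ ∧ (⟨0, 1⟩ : K25) ≠ ⟨4, 4⟩ := by decide +kernel
theorem z_not : ∀ n < 27, D25M.z * D25M.hd ≠ pe n * D25M.z := by decide +kernel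

end Cfsg.Agent.Helper64.SU3.D25E
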