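-- helper64: explicit data in SU_3(3): the 21 points of an orbit of L_2(7), elements x (order 7),
-- y (order 3, normalising <x>), t (an involution of L_2(7) not normalising <x>), w (not in L_2(7)).
-- Machine generated; all facts are checked by the kernel via `decide`.
import Cfsg.Agent.Helper64.SU3Base

set_option autoImplicit false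
set_option maxRecDepth 100000
open Matrix

namespace Cfsg.Agent.Helper64.SU3.D9

open Cfsg.Agent.Helper64.SU3

def sigL : List (Fin 3 → K9) := [![⟨0, 0⟩, ⟨1, 0⟩, ⟨1, 0⟩],
  ![⟨1, 0⟩, ⟨0, 0⟩, ⟨0, 2⟩],
  ![⟨1, 0⟩, ⟨1, 0⟩, ⟨2, 1⟩],
  ![⟨1, 0⟩, ⟨2, 0⟩, ⟨1, 1⟩],
  ![⟨1, 0⟩, ⟨0, 1⟩, ⟨0, 0⟩],
  ![⟨1, 0⟩, ⟨1, 1⟩, ⟨0, 1⟩],
  ![⟨1, 0⟩, ⟨1, 1⟩, ⟨1, 2⟩],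
  ![⟨1, 0⟩, ⟨1, 1⟩, ⟨2, 2⟩],
  ![⟨1, 0⟩, ⟨2, 1⟩, ⟨0, 1⟩],
  ![⟨1, 0⟩, ⟨2, 1⟩, ⟨1, 2⟩],
  ![⟨1, 0⟩, ⟨2, 1⟩, ⟨2, 2⟩],
  ![⟨1, 0⟩, ⟨0, 2⟩, ⟨1, 1⟩],
  ![⟨1, 0⟩, ⟨0, 2⟩, ⟨2, 1⟩],
  ![⟨1, 0⟩, ⟨0, 2⟩, ⟨1, 2⟩],
  ![⟨1, 0⟩, ⟨0, 2⟩, ⟨2, 2⟩],
  ![⟨1, 0⟩, ⟨1, 2⟩, ⟨2, 0⟩],
  ![⟨1, 0⟩, ⟨1, 2⟩, ⟨0, 1⟩],
  ![⟨1, 0⟩, ⟨1, 2⟩, ⟨2, 1⟩],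
  ![⟨1, 0⟩, ⟨2, 2⟩, ⟨1, 0⟩],
  ![⟨1, 0⟩, ⟨2, 2⟩, ⟨0, 1⟩],
  ![⟨1, 0⟩, ⟨2, 2⟩, ⟨1, 1⟩]]
def sig (i : ℕ) : Fin 3 → K9 := sigL.getD i 0
def x9 : Matrix (Fin 3) (Fin 3) K9 := !![⟨0, 0⟩, ⟨0, 0⟩, ⟨1, 0⟩; ⟨1, 1⟩, ⟨1, 1⟩, ⟨0, 0⟩; ⟨2, 1⟩, ⟨1, 2⟩, ⟨0, 0⟩]
def x9_i : Matrix (Fin 3) (Fin 3) K9 := !![⟨0, 0⟩, ⟨1, 2⟩, ⟨2, 2⟩; ⟨0, 0⟩, ⟨1, 2⟩, ⟨1, 1⟩; ⟨1, 0⟩, ⟨0, 0⟩, ⟨0, 0⟩]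
theorem x9_inv : x9_i * x9 = 1 := by decide
theorem x9_unitary : x9.transpose * x9.map (fun x => x ^ 3) = 1 := by decide
theorem x9_det : x9.det = 1 := by decide
theorem x9_pow : x9 ^ 7 = 1 := by decide
theorem x9_ne : x9 ≠ 1 := by decide
def x9_p : List ℕ := [6, 10, 4, 1, 0, 13, 19, 15, 5, 3, 12, 17, 20, 7, 9, 11, 2, 8, 16, 18, 14]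
def x9_c : List K9 := [⟨1, 0⟩, ⟨0, 2⟩, ⟨2, 1⟩, ⟨1, 1⟩, ⟨0, 2⟩, ⟨0, 1⟩, ⟨1, 2⟩, ⟨2, 2⟩, ⟨0, 1⟩, ⟨1, 2⟩, ⟨2, 2⟩, ⟨1, 1⟩, ⟨2, 1⟩, ⟨1, 2⟩, ⟨2, 2⟩, ⟨2, 0⟩, ⟨0, 1⟩, ⟨2, 1⟩, ⟨1, 0⟩, ⟨0, 1⟩, ⟨1, 1⟩]
theorem x9_sig : ∀ i < 21, x9_p.getD i 0 < 21 ∧ x9_c.getD i 0 ≠ 0 ∧ Matrix.mulVec x9 (sig i) = x9_c.getD i 0 • sig (x9_p.getD i 0) := by decide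
def y9 : Matrix (Fin 3) (Fin 3) K9 := !![⟨2, 0⟩, ⟨0, 1⟩, ⟨2, 1⟩; ⟨1, 1⟩, ⟨2, 1⟩, ⟨0, 0⟩; ⟨0, 1⟩, ⟨1, 0⟩, ⟨2, 2⟩]
def y9_i : Matrix (Fin 3) (Fin 3) K9 := !![⟨2, 0⟩, ⟨1, 2⟩, ⟨0, 2⟩; ⟨0, 2⟩, ⟨2, 2⟩, ⟨1, 0⟩; ⟨2, 2⟩, ⟨0, 0⟩, ⟨2, 1⟩]
theorem y9_inv : y9_i * y9 = 1 := by decide
theorem y9_unitary : y9.transpose * y9.map (fun x => x ^ 3) = 1 := by decide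
theorem y9_det : y9.det = 1 := by decide
theorem y9_pow : y9 ^ 3 = 1 := by decide
theorem y9_ne : y9 ≠ 1 := by decide
def y9_p : List ℕ := [14, 17, 20, 13, 1, 0, 10, 6, 18, 11, 7, 19, 8, 16, 5, 2, 3, 4, 12, 9, 15]
def y9_c : List K9 := [⟨2, 2⟩, ⟨0, 1⟩, ⟨2, 2⟩, ⟨0, 2⟩, ⟨1, 0⟩, ⟨2, 1⟩, ⟨1, 0⟩, ⟨0, 1⟩, ⟨0, 1⟩, ⟨1, 1⟩, ⟨0, 2⟩, ⟨1, 0⟩, ⟨0, 1⟩, ⟨0, 2⟩, ⟨2, 0⟩, ⟨1, 0⟩, ⟨2, 0⟩, ⟨0, 2⟩, ⟨2, 0⟩, ⟨2, 1⟩, ⟨1, 2⟩]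
theorem y9_sig : ∀ i < 21, y9_p.getD i 0 < 21 ∧ y9_c.getD i 0 ≠ 0 ∧ Matrix.mulVec y9 (sig i) = y9_c.getD i 0 • sig (y9_p.getD i 0) := by decide
def t9 : Matrix (Fin 3) (Fin 3) K9 := !![⟨0, 0⟩, ⟨0, 0⟩, ⟨0, 1⟩; ⟨0, 0⟩, ⟨2, 0⟩, ⟨0, 0⟩; ⟨0, 2⟩, ⟨0, 0⟩, ⟨0, 0⟩]
def t9_i : Matrix (Fin 3) (Fin 3) K9 := !![⟨0, 0⟩, ⟨0, 0⟩, ⟨0, 1⟩; ⟨0, 0⟩, ⟨2, 0⟩, ⟨0, 0⟩; ⟨0, 2⟩, ⟨0, 0⟩, ⟨0, 0⟩]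
theorem t9_inv : t9_i * t9 = 1 := by decide
theorem t9_unitary : t9.transpose * t9.map (fun x => x ^ 3) = 1 := by decide
theorem t9_det : t9.det = 1 := by decide
theorem t9_pow : t9 ^ 2 = 1 := by decide
def t9_p : List ℕ := [4, 1, 10, 6, 0, 5, 3, 12, 8, 11, 2, 9, 7, 20, 17, 18, 16, 14, 15, 19, 13]
def t9_c : List K9 := [⟨0, 1⟩, ⟨1, 0⟩, ⟨2, 2⟩, ⟨2, 1⟩, ⟨0, 2⟩, ⟨2, 0⟩, ⟨1, 1⟩, ⟨1, 2⟩, ⟨2, 0⟩, ⟨1, 1⟩, ⟨1, 2⟩, ⟨2, 1⟩, ⟨2, 2⟩, ⟨1, 1⟩, ⟨1, 2⟩, ⟨0, 2⟩, ⟨2, 0⟩, ⟨2, 2⟩, ⟨0, 1⟩, ⟨2, 0⟩, ⟨2, 1⟩]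
theorem t9_sig : ∀ i < 21, t9_p.getD i 0 < 21 ∧ t9_c.getD i 0 ≠ 0 ∧ Matrix.mulVec t9 (sig i) = t9_c.getD i 0 • sig (t9_p.getD i 0) := by decide
def w9 : Matrix (Fin 3) (Fin 3) K9 := !![⟨0, 0⟩, ⟨0, 0⟩, ⟨1, 0⟩; ⟨0, 0⟩, ⟨2, 0⟩, ⟨0, 0⟩; ⟨1, 0⟩, ⟨0, 0⟩, ⟨0, 0⟩]
def w9_i : Matrix (Fin 3) (Fin 3) K9 := !![⟨0, 0⟩, ⟨0, 0⟩, ⟨1, 0⟩; ⟨0, 0⟩, ⟨2, 0⟩, ⟨0, 0⟩; ⟨1, 0⟩, ⟨0, 0⟩, ⟨0, 0⟩]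
theorem w9_inv : w9_i * w9 = 1 := by decide
theorem w9_unitary : w9.transpose * w9.map (fun x => x ^ 3) = 1 := by decide
theorem w9_det : w9.det = 1 := by decide
theorem w9_pow : w9 ^ 2 = 1 := by decide
theorem yx9 : y9 * x9 = x9 ^ 4 * y9 := by decide
theorem yx9_ne : y9 * x9 ≠ x9 * y9 := by decide
theorem tx9 : ∀ k < 7, t9 * x9 ≠ x9 ^ k * t9 := by decide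
theorem w9_not : ∀ j < 21, ∀ c : K9, Matrix.mulVec w9 (sig 0) ≠ c • sig j := by decide

end Cfsg.Agent.Helper64.SU3.D9
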