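-- helper64: a maximal subgroup of SU_3(3) resp. SU_3(5) cannot be the normaliser of a cyclic
-- subgroup of order 7 of order at most 21 resp. 63 (it lies in L_2(7) resp. 3.A_7).
import Cfsg.Agent.Helper64.SU3Sylow
import Cfsg.Agent.Helper64.SU3Data9
import Cfsg.Agent.Helper64.SU3Data25

set_option autoImplicit false
set_option maxRecDepth 100000
open Cfsg Cfsg.Geo Matrix

namespace Cfsg.Agent.Helper64.SU3

open Cfsg.Agent.Helper97

variable {F : Type*} [Field F] {K : Type*} [Field K]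

section conj

variable (ψ : K →+* F)

theorem su3GL_inv_val (A B : Matrix (Fin 3) (Fin 3) K) (h : B * A = 1) :
    (((su3GL ψ A B h)⁻¹ : GL (Fin 3) F) : Matrix (Fin 3) (Fin 3) F) = B.map ψ := rfl

theorem su3GL_conj (A B X Y : Matrix (Fin 3) (Fin 3) K) (hA : B * A = 1) (hX : Y * X = 1) (k : ℕ)
    (h : A * X = X ^ k * A) :
    su3GL ψ A B hA * su3GL ψ X Y hX * (su3GL ψ A B hA)⁻¹ = su3GL ψ X Y hX ^ k := by
  rw [mul_inv_eq_iff_eq_mul]
  apply Units.ext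
  rw [Units.val_mul, Units.val_mul, Units.val_pow_eq_pow_val, su3GL_val, su3GL_val,
    ← su3_map_pow, ← su3_map_mul, ← su3_map_mul, h]

theorem su3GL_conj_inv (A B X Y : Matrix (Fin 3) (Fin 3) K) (hA : B * A = 1) (hX : Y * X = 1)
    (k : ℕ) (h : B * X = X ^ k * B) :
    (su3GL ψ A B hA)⁻¹ * su3GL ψ X Y hX * su3GL ψ A B hA = su3GL ψ X Y hX ^ k := by
  have h1 : (su3GL ψ A B hA)⁻¹ * su3GL ψ X Y hX = su3GL ψ X Y hX ^ k * (su3GL ψ A B hA)⁻¹ := by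
    apply Units.ext
    rw [Units.val_mul, Units.val_mul, Units.val_pow_eq_pow_val, su3GL_inv_val, su3GL_val,
      ← su3_map_pow, ← su3_map_mul, ← su3_map_mul, h]
  rw [h1, inv_mul_cancel_right]

theorem su3GL_not_conj (A B X Y : Matrix (Fin 3) (Fin 3) K) (hA : B * A = 1) (hX : Y * X = 1)
    (n : ℕ) (hn : 0 < n) (hXn : X ^ n = 1) (h : ∀ k < n, A * X ≠ X ^ k * A) :
    su3GL ψ A B hA * su3GL ψ X Y hX * (su3GL ψ A B hA)⁻¹ ∉ Subgroup.zpowers (su3GL ψ X Y hX) := by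
  intro hmem
  have hfin : IsOfFinOrder (su3GL ψ X Y hX) :=
    isOfFinOrder_iff_pow_eq_one.mpr ⟨n, hn, su3GL_pow ψ X Y hX n hXn⟩
  rw [← hfin.mem_powers_iff_mem_zpowers] at hmem
  obtain ⟨j, hj⟩ := hmem
  change su3GL ψ X Y hX ^ j = _ at hj
  have hj' : su3GL ψ X Y hX ^ (j % n) = su3GL ψ A B hA * su3GL ψ X Y hX * (su3GL ψ A B hA)⁻¹ := by
    rw [← hj]
    conv_rhs => rw [← Nat.mod_add_div j n]
    rw [pow_add, pow_mul, su3GL_pow ψ X Y hX n hXn, one_pow, mul_one]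
  rw [eq_mul_inv_iff_mul_eq] at hj'
  apply h (j % n) (Nat.mod_lt _ hn)
  apply su3_map_inj ψ
  have h2 := congrArg Units.val hj'
  rw [Units.val_mul, Units.val_mul, Units.val_pow_eq_pow_val, su3GL_val, su3GL_val] at h2
  rw [su3_map_mul, su3_map_mul, su3_map_pow]
  exact h2.symm

theorem su3GL_ne_comm (A B X Y : Matrix (Fin 3) (Fin 3) K) (hA : B * A = 1) (hX : Y * X = 1)
    (h : A * X ≠ X * A) :
    su3GL ψ A B hA * su3GL ψ X Y hX ≠ su3GL ψ X Y hX * su3GL ψ A B hA := by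
  intro hc
  apply h
  apply su3_map_inj ψ
  have h2 := congrArg Units.val hc
  rw [Units.val_mul, Units.val_mul, su3GL_val, su3GL_val] at h2
  rw [su3_map_mul, su3_map_mul]
  exact h2

end conj

/-! ### `q = 3` -/

theorem yx9_i : D9.y9_i * D9.x9 = D9.x9 ^ 2 * D9.y9_i := by decide

/-- In `SU_3(3)` a maximal subgroup cannot normalise a subgroup of order 7 and have order at most
21. -/
theorem su3_three_sylow_false [Fintype F] (hF : Fintype.card F = 3 ^ 2)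
    (H : Subgroup (GL (Fin 3) F))
    (hH : IsMaximalIn (GU 3 F 3 ⊓ specialLinear (Fin 3) F) H)
    (x : GL (Fin 3) F) (hxH : x ∈ H) (hox : orderOf x = 7)
    (hnorm : ∀ g ∈ H, g * x * g⁻¹ ∈ Subgroup.zpowers x) (hcard : Nat.card H ≤ 21) : False := by
  classical
  obtain ⟨σ, hσ⟩ := exists_sigma hF
  have hc : Fintype.card K9 = Fintype.card F := by rw [hF]; exact su3_card_K9
  let ψe : K9 ≃+* F := FiniteField.ringEquivOfCardEq hc
  let ψ : K9 →+* F := ψe.toRingHom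
  have hψ : Function.Surjective ψ := ψe.surjective
  set x0 := su3GL ψ D9.x9 D9.x9_i D9.x9_inv with hx0
  set y0 := su3GL ψ D9.y9 D9.y9_i D9.y9_inv with hy0
  set t0 := su3GL ψ D9.t9 D9.t9_i D9.t9_inv with ht0
  set w := su3GL ψ D9.w9 D9.w9_i D9.w9_inv with hw
  have hx7 : x0 ^ 7 = 1 := su3GL_pow ψ _ _ _ 7 D9.x9_pow
  haveI : Fact (Nat.Prime 7) := ⟨by norm_num⟩
  have hox0 : orderOf x0 = 7 := orderOf_eq_prime hx7 (su3GL_ne_one ψ _ _ _ D9.x9_ne)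
  have hL : ∀ (A B : Matrix (Fin 3) (Fin 3) K9) (h : B * A = 1), True := fun _ _ _ => trivial
  refine su3_sylow_contra (GU 3 F 3 ⊓ specialLinear (Fin 3) F) H (su3Stab (su3Pts ψ D9.sig 21))
    x x0 y0 t0 1 21 7 hH.1 hH.2 hxH hox hnorm hcard (su3_h49_three hF)
    ⟨su3GL_mem_GU ψ hσ _ _ _ D9.x9_unitary, su3GL_mem_SL ψ _ _ _ D9.x9_det⟩
    ⟨su3GL_mem_GU ψ hσ _ _ _ D9.y9_unitary, su3GL_mem_SL ψ _ _ _ D9.y9_det⟩
    ⟨su3GL_mem_GU ψ hσ _ _ _ D9.t9_unitary, su3GL_mem_SL ψ _ _ _ D9.t9_det⟩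
    (Subgroup.one_mem _) hox0 ?_ ?_ ?_ (fun g => by rw [one_mul, mul_one]) ?_ (by norm_num) ?_
    (su3GL_mem_stab ψ _ _ _ D9.sig 21 D9.x9_p D9.x9_c D9.x9_sig 7 (by norm_num) D9.x9_pow)
    (su3GL_mem_stab ψ _ _ _ D9.sig 21 D9.y9_p D9.y9_c D9.y9_sig 3 (by norm_num) D9.y9_pow)
    (su3GL_mem_stab ψ _ _ _ D9.sig 21 D9.t9_p D9.t9_c D9.t9_sig 2 (by norm_num) D9.t9_pow)
    (Subgroup.one_mem _) ?_
  · rw [su3GL_conj ψ _ _ _ _ D9.y9_inv D9.x9_inv 4 D9.yx9]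
    exact Subgroup.pow_mem _ (Subgroup.mem_zpowers _) 4
  · rw [su3GL_conj_inv ψ _ _ _ _ D9.y9_inv D9.x9_inv 2 yx9_i]
    exact Subgroup.pow_mem _ (Subgroup.mem_zpowers _) 2
  · exact su3GL_ne_comm ψ _ _ _ _ D9.y9_inv D9.x9_inv D9.yx9_ne
  · rw [mul_one]
    exact hox0
  · exact su3GL_not_conj ψ _ _ _ _ D9.t9_inv D9.x9_inv 7 (by norm_num) D9.x9_pow D9.tx9
  · intro hle
    exact su3GL_not_mem_stab ψ hψ _ _ D9.w9_inv D9.sig 21 0 (by norm_num) D9.w9_not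
      (hle ⟨su3GL_mem_GU ψ hσ _ _ _ D9.w9_unitary, su3GL_mem_SL ψ _ _ _ D9.w9_det⟩)

/-! ### `q = 5` -/

theorem om_scalar : D25.om = (⟨0, 1⟩ : K25) • (1 : Matrix (Fin 3) (Fin 3) K25) := by decide

theorem om_ne_zero : (⟨0, 1⟩ : K25) ≠ 0 := by decide

/-- In `SU_3(5)` a maximal subgroup cannot normalise a subgroup of order 7 and have order at most
63. -/
theorem su3_five_sylow_false [Fintype F] (hF : Fintype.card F = 5 ^ 2)
    (H : Subgroup (GL (Fin 3) F))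
    (hH : IsMaximalIn (GU 3 F 5 ⊓ specialLinear (Fin 3) F) H)
    (x : GL (Fin 3) F) (hxH : x ∈ H) (hox : orderOf x = 7)
    (hnorm : ∀ g ∈ H, g * x * g⁻¹ ∈ Subgroup.zpowers x) (hcard : Nat.card H ≤ 63) : False := by
  classical
  obtain ⟨σ, hσ⟩ := exists_sigma hF
  have hc : Fintype.card K25 = Fintype.card F := by rw [hF]; exact su3_card_K25
  let ψe : K25 ≃+* F := FiniteField.ringEquivOfCardEq hc
  let ψ : K25 →+* F := ψe.toRingHom
  have hψ : Function.Surjective ψ := ψe.surjective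
  set x0 := su3GL ψ D25.x7 D25.x7_i D25.x7_inv with hx0
  set y0 := su3GL ψ D25.y3 D25.y3_i D25.y3_inv with hy0
  set t0 := su3GL ψ D25.c3 D25.c3_i D25.c3_inv with ht0
  set c0 := su3GL ψ D25.om D25.om_i D25.om_inv with hc0
  set w := su3GL ψ D25.w2 D25.w2_i D25.w2_inv with hw
  have hx7 : x0 ^ 7 = 1 := su3GL_pow ψ _ _ _ 7 D25.x7_pow
  haveI : Fact (Nat.Prime 7) := ⟨by norm_num⟩
  have hox0 : orderOf x0 = 7 := orderOf_eq_prime hx7 (su3GL_ne_one ψ _ _ _ D25.x7_ne)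
  have hc0val : (c0 : Matrix (Fin 3) (Fin 3) F) = ψ (⟨0, 1⟩ : K25) • (1 : Matrix (Fin 3) (Fin 3) F) := by
    rw [hc0, su3GL_val, om_scalar]
    ext i j
    simp only [Matrix.map_apply, Matrix.smul_apply, Matrix.one_apply, smul_eq_mul]
    split_ifs <;> simp
  have hcne : ψ (⟨0, 1⟩ : K25) ≠ 0 := (map_ne_zero ψ).mpr om_ne_zero
  have hcomm : ∀ g : GL (Fin 3) F, c0 * g = g * c0 := by
    intro g
    apply Units.ext
    rw [Units.val_mul, Units.val_mul, hc0val, Matrix.smul_mul, Matrix.one_mul, Matrix.mul_smul,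
      Matrix.mul_one]
  have hxw : x0 * c0 = su3GL ψ D25.xw D25.xw_i D25.xw_inv :=
    su3GL_mul ψ _ _ _ _ _ _ D25.x7_inv D25.om_inv D25.xw_inv D25.xw_eq
  have hm : orderOf (x0 * c0) = 21 := by
    rw [hxw]
    have h21 : su3GL ψ D25.xw D25.xw_i D25.xw_inv ^ 21 = 1 := su3GL_pow ψ _ _ _ 21 D25.xw_pow
    have hdvd := orderOf_dvd_of_pow_eq_one h21
    have h3 : su3GL ψ D25.xw D25.xw_i D25.xw_inv ^ 3 ≠ 1 := by
      intro h
      apply D25.xw_pow3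
      apply su3_map_inj ψ
      have h2 := congrArg Units.val h
      rw [Units.val_pow_eq_pow_val, su3GL_val, Units.val_one] at h2
      rw [su3_map_pow, su3_map_one]
      exact h2
    have h7 : su3GL ψ D25.xw D25.xw_i D25.xw_inv ^ 7 ≠ 1 := by
      intro h
      apply D25.xw_pow7
      apply su3_map_inj ψ
      have h2 := congrArg Units.val h
      rw [Units.val_pow_eq_pow_val, su3GL_val, Units.val_one] at h2
      rw [su3_map_pow, su3_map_one]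
      exact h2
    have hmem : orderOf (su3GL ψ D25.xw D25.xw_i D25.xw_inv) ∈ Nat.divisors 21 :=
      Nat.mem_divisors.mpr ⟨hdvd, by norm_num⟩
    have hdiv : Nat.divisors 21 = {1, 3, 7, 21} := by decide
    rw [hdiv] at hmem
    simp only [Finset.mem_insert, Finset.mem_singleton] at hmem
    rcases hmem with h | h | h | h
    · exfalso
      apply h3
      have := pow_orderOf_eq_one (su3GL ψ D25.xw D25.xw_i D25.xw_inv)
      rw [h, pow_one] at this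
      rw [this, one_pow]
    · exfalso
      apply h3
      have := pow_orderOf_eq_one (su3GL ψ D25.xw D25.xw_i D25.xw_inv)
      rwa [h] at this
    · exfalso
      apply h7
      have := pow_orderOf_eq_one (su3GL ψ D25.xw D25.xw_i D25.xw_inv)
      rwa [h] at this
    · exact h
  refine su3_sylow_contra (GU 3 F 5 ⊓ specialLinear (Fin 3) F) H (su3Stab (su3Pts ψ D25.sig 105))
    x x0 y0 t0 c0 63 21 hH.1 hH.2 hxH hox hnorm hcard (su3_h49_five hF)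
    ⟨su3GL_mem_GU ψ hσ _ _ _ D25.x7_unitary, su3GL_mem_SL ψ _ _ _ D25.x7_det⟩
    ⟨su3GL_mem_GU ψ hσ _ _ _ D25.y3_unitary, su3GL_mem_SL ψ _ _ _ D25.y3_det⟩
    ⟨su3GL_mem_GU ψ hσ _ _ _ D25.c3_unitary, su3GL_mem_SL ψ _ _ _ D25.c3_det⟩
    ⟨su3GL_mem_GU ψ hσ _ _ _ D25.om_unitary, su3GL_mem_SL ψ _ _ _ D25.om_det⟩
    hox0 ?_ ?_ ?_ hcomm hm (by norm_num) ?_
    (su3GL_mem_stab ψ _ _ _ D25.sig 105 D25.x7_p D25.x7_c D25.x7_sig 7 (by norm_num) D25.x7_pow)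
    (su3GL_mem_stab ψ _ _ _ D25.sig 105 D25.y3_p D25.y3_c D25.y3_sig 3 (by norm_num) D25.y3_pow)
    (su3GL_mem_stab ψ _ _ _ D25.sig 105 D25.c3_p D25.c3_c D25.c3_sig 3 (by norm_num) D25.c3_pow)
    (su3_scalar_mem_stab ψ D25.sig 105 c0 _ hcne hc0val) ?_
  · rw [su3GL_conj ψ _ _ _ _ D25.y3_inv D25.x7_inv 2 D25.yx]
    exact Subgroup.pow_mem _ (Subgroup.mem_zpowers _) 2
  · rw [su3GL_conj_inv ψ _ _ _ _ D25.y3_inv D25.x7_inv 4 D25.yx_i]
    exact Subgroup.pow_mem _ (Subgroup.mem_zpowers _) 4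
  · exact su3GL_ne_comm ψ _ _ _ _ D25.y3_inv D25.x7_inv D25.yx_ne
  · exact su3GL_not_conj ψ _ _ _ _ D25.c3_inv D25.x7_inv 7 (by norm_num) D25.x7_pow D25.cx
  · intro hle
    exact su3GL_not_mem_stab ψ hψ _ _ D25.w2_inv D25.sig 105 0 (by norm_num) D25.w2_not
      (hle ⟨su3GL_mem_GU ψ hσ _ _ _ D25.w2_unitary, su3GL_mem_SL ψ _ _ _ D25.w2_det⟩)

end Cfsg.Agent.Helper64.SU3
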