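-- helper64: explicit matrices of L_2(11) = <x, y, t> inside SU_5(2) over the concrete field F4 (helper98),
-- with an invariant set of 165 vectors (55 non-isotropic points). All facts by kernel `decide`.
import Cfsg.Agent.Helper98.F4

set_option autoImplicit false
set_option maxRecDepth 100000

namespace Cfsg.Agent.Helper64.SU5

open Cfsg.Agent.Helper98
open Cfsg.Agent.Helper98.F4

/-- entrywise squaring (the field automorphism of order two). -/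
def sq4 (A : Matrix (Fin 5) (Fin 5) F4) : Matrix (Fin 5) (Fin 5) F4 := A.map (fun a => a * a)

def x4 : Matrix (Fin 5) (Fin 5) F4 := !![w, v, z, z, v; o, o, v, w, v; z, v, z, v, v; w, o, o, v, w; z, v, o, z, v]
def x4p2 : Matrix (Fin 5) (Fin 5) F4 := !![z, z, o, o, o; z, z, w, o, v; w, w, w, v, o; v, o, w, v, o; v, w, o, w, v]
def x4p4 : Matrix (Fin 5) (Fin 5) F4 := !![w, o, o, w, v; w, v, w, v, o; w, w, w, o, o; w, w, w, v, w; o, o, w, w, v]
def x4p8 : Matrix (Fin 5) (Fin 5) F4 := !![v, v, z, o, z; o, v, v, v, w; z, v, w, o, z; z, v, z, o, o; v, o, w, v, o]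
def x4p10 : Matrix (Fin 5) (Fin 5) F4 := !![v, o, z, v, z; w, o, w, o, w; z, w, z, o, o; z, v, w, w, z; w, w, w, v, w]
def y4 : Matrix (Fin 5) (Fin 5) F4 := !![v, z, v, z, w; z, o, w, z, o; v, w, w, v, v; w, o, v, w, v; z, z, v, v, w]
def y4p2 : Matrix (Fin 5) (Fin 5) F4 := !![z, o, w, v, z; o, w, w, w, w; w, w, w, w, o; z, w, o, v, z; v, w, w, w, v]
def y4p4 : Matrix (Fin 5) (Fin 5) F4 := !![w, z, w, v, z; z, o, v, o, z; w, v, v, w, w; z, z, w, v, w; v, o, w, w, v]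
def t4 : Matrix (Fin 5) (Fin 5) F4 := !![z, z, o, o, o; z, z, o, v, w; o, o, o, w, v; o, w, v, o, w; o, v, w, v, o]
def tx4 : Matrix (Fin 5) (Fin 5) F4 := !![w, o, z, z, w; o, o, o, o, v; z, o, w, z, w; w, v, w, w, v; z, o, z, w, w]
def u4 : Matrix (Fin 5) (Fin 5) F4 := !![w, o, z, z, w; v, o, v, v, o; z, v, z, o, o; v, v, v, v, w; z, w, v, z, v]
def g4 : Matrix (Fin 5) (Fin 5) F4 := !![z, z, z, z, o; o, z, z, z, z; z, o, z, z, z; z, z, o, z, z; z, z, z, o, z]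

theorem x4_mul_1 : x4 * x4 = x4p2 := by decide
theorem x4_mul_2 : x4p2 * x4p2 = x4p4 := by decide
theorem x4_mul_3 : x4p4 * x4p4 = x4p8 := by decide
theorem x4_mul_4 : x4p8 * x4p2 = x4p10 := by decide
theorem x4_mul_5 : x4p10 * x4 = 1 := by decide
theorem x4_ne_one : x4 ≠ 1 := by decide
theorem y4_mul_1 : y4 * y4 = y4p2 := by decide
theorem y4_mul_2 : y4p2 * y4p2 = y4p4 := by decide
theorem y4_mul_3 : y4p4 * y4 = 1 := by decide
theorem y4_ne_one : y4 ≠ 1 := by decide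
theorem t4_mul : t4 * t4 = 1 := by decide
theorem yx4 : y4 * x4 = x4p4 * y4 := by decide
theorem tx4_eq : t4 * x4 = tx4 := by decide
theorem u4_eq : tx4 * t4 = u4 := by decide
theorem u4_not_comm : u4 * x4 ≠ x4 * u4 := by decide
theorem x4_unitary : x4.transpose * sq4 x4 = 1 := by decide
theorem y4_unitary : y4.transpose * sq4 y4 = 1 := by decide
theorem t4_unitary : t4.transpose * sq4 t4 = 1 := by decide
theorem g4_unitary : g4.transpose * sq4 g4 = 1 := by decide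

/-- the 165 vectors on 55 non-isotropic points forming an orbit of `⟨x4, y4, t4⟩`. -/
def sigL : List (Fin 5 → F4) :=
  [![z, z, z, z, o],
   ![z, z, z, z, w],
   ![z, z, z, z, v],
   ![z, z, z, o, z],
   ![z, z, z, w, z],
   ![z, z, z, v, z],
   ![z, z, o, z, z],
   ![z, z, w, z, z],
   ![z, z, v, z, z],
   ![z, z, o, o, w],
   ![z, z, w, w, v],
   ![z, z, v, v, o],
   ![z, z, o, w, v],
   ![z, z, w, v, o],
   ![z, z, v, o, w],
   ![z, z, o, v, o],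
   ![z, z, w, o, w],
   ![z, z, v, w, v],
   ![z, o, z, z, z],
   ![z, w, z, z, z],
   ![z, v, z, z, z],
   ![z, o, z, o, o],
   ![z, w, z, w, w],
   ![z, v, z, v, v],
   ![z, o, z, w, w],
   ![z, w, z, v, v],
   ![z, v, z, o, o],
   ![z, o, z, v, v],
   ![z, w, z, o, o],
   ![z, v, z, w, w],
   ![z, o, w, o, z],
   ![z, w, v, w, z],
   ![z, v, o, v, z],
   ![z, o, w, w, z],
   ![z, w, v, v, z],
   ![z, v, o, o, z],
   ![z, o, w, v, z],
   ![z, w, v, o, z],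
   ![z, v, o, w, z],
   ![z, o, v, z, o],
   ![z, w, o, z, w],
   ![z, v, w, z, v],
   ![z, o, v, z, w],
   ![z, w, o, z, v],
   ![z, v, w, z, o],
   ![z, o, v, z, v],
   ![z, w, o, z, o],
   ![z, v, w, z, w],
   ![o, z, o, z, v],
   ![w, z, w, z, o],
   ![v, z, v, z, w],
   ![o, z, o, w, z],
   ![w, z, w, v, z],
   ![v, z, v, o, z],
   ![o, z, w, z, w],
   ![w, z, v, z, v],
   ![v, z, o, z, o],
   ![o, z, w, o, z],
   ![w, z, v, w, z],
   ![v, z, o, v, z],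
   ![o, z, v, z, o],
   ![w, z, o, z, w],
   ![v, z, w, z, v],
   ![o, z, v, v, z],
   ![w, z, o, o, z],
   ![v, z, w, w, z],
   ![o, o, z, z, o],
   ![w, w, z, z, w],
   ![v, v, z, z, v],
   ![o, o, z, o, z],
   ![w, w, z, w, z],
   ![v, v, z, v, z],
   ![o, o, o, o, w],
   ![w, w, w, w, v],
   ![v, v, v, v, o],
   ![o, o, o, w, w],
   ![w, w, w, v, v],
   ![v, v, v, o, o],
   ![o, o, o, v, o],
   ![w, w, w, o, w],
   ![v, v, v, w, v],
   ![o, o, o, v, w],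
   ![w, w, w, o, v],
   ![v, v, v, w, o],
   ![o, o, o, v, v],
   ![w, w, w, o, o],
   ![v, v, v, w, w],
   ![o, o, w, w, o],
   ![w, w, v, v, w],
   ![v, v, o, o, v],
   ![o, o, w, v, w],
   ![w, w, v, o, v],
   ![v, v, o, w, o],
   ![o, o, v, o, v],
   ![w, w, o, w, o],
   ![v, v, w, v, w],
   ![o, o, v, v, w],
   ![w, w, o, o, v],
   ![v, v, w, w, o],
   ![o, w, z, z, v],
   ![w, v, z, z, o],
   ![v, o, z, z, w],
   ![o, w, z, v, z],
   ![w, v, z, o, z],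
   ![v, o, z, w, z],
   ![o, w, o, w, o],
   ![w, v, w, v, w],
   ![v, o, v, o, v],
   ![o, w, o, v, w],
   ![w, v, w, o, v],
   ![v, o, v, w, o],
   ![o, w, w, o, o],
   ![w, v, v, w, w],
   ![v, o, o, v, v],
   ![o, w, w, w, o],
   ![w, v, v, v, w],
   ![v, o, o, o, v],
   ![o, w, w, w, w],
   ![w, v, v, v, v],
   ![v, o, o, o, o],
   ![o, w, w, w, v],
   ![w, v, v, v, o],
   ![v, o, o, o, w],
   ![o, w, w, v, o],
   ![w, v, v, o, w],
   ![v, o, o, w, v],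
   ![o, w, v, o, v],
   ![w, v, o, w, o],
   ![v, o, w, v, w],
   ![o, w, v, w, o],
   ![w, v, o, v, w],
   ![v, o, w, o, v],
   ![o, v, z, z, w],
   ![w, o, z, z, v],
   ![v, w, z, z, o],
   ![o, v, z, w, z],
   ![w, o, z, v, z],
   ![v, w, z, o, z],
   ![o, v, o, o, v],
   ![w, o, w, w, o],
   ![v, w, v, v, w],
   ![o, v, o, v, w],
   ![w, o, w, o, v],
   ![v, w, v, w, o],
   ![o, v, w, o, v],
   ![w, o, v, w, o],
   ![v, w, o, v, w],
   ![o, v, w, w, o],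
   ![w, o, v, v, w],
   ![v, w, o, o, v],
   ![o, v, v, o, o],
   ![w, o, o, w, w],
   ![v, w, w, v, v],
   ![o, v, v, o, w],
   ![w, o, o, w, v],
   ![v, w, w, v, o],
   ![o, v, v, o, v],
   ![w, o, o, w, o],
   ![v, w, w, v, w],
   ![o, v, v, w, v],
   ![w, o, o, v, o],
   ![v, w, w, o, w],
   ![o, v, v, v, v],
   ![w, o, o, o, o],
   ![v, w, w, w, w]]
def sig (i : ℕ) : Fin 5 → F4 := sigL.getD i 0
def pxL : List ℕ := [80, 78, 79, 34, 35, 33, 26, 24, 25, 57, 58, 59, 91, 92, 90, 122, 120, 121, 107, 105, 106, 8, 6, 7, 115, 116, 114, 129, 130, 131, 134, 132, 133, 98, 96, 97, 119, 117, 118, 2, 0, 1, 85, 86, 84, 81, 82, 83, 10, 11, 9, 157, 158, 156, 113, 111, 112, 88, 89, 87, 63, 64, 65, 76, 77, 75, 103, 104, 102, 99, 100, 101, 12, 13, 14, 45, 46, 47, 139, 140, 138, 23, 21, 22, 53, 51, 52, 151, 152, 150, 18, 19, 20, 164, 162, 163, 28, 29, 27, 93, 94, 95, 143, 141, 142, 17, 15, 16, 49, 50, 48,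 32, 30, 31, 37, 38, 36, 61, 62, 60, 147, 148, 149, 4, 5, 3, 69, 70, 71, 39, 40, 41, 159, 160, 161, 42, 43, 44, 145, 146, 144, 72, 73, 74, 124, 125, 123, 68, 66, 67, 128, 126, 127, 135, 136, 137, 55, 56, 54, 154, 155, 153, 109, 110, 108]
def pyL : List ℕ := [148, 149, 147, 17, 15, 16, 152, 150, 151, 2, 0, 1, 154, 155, 153, 156, 157, 158, 30, 31, 32, 49, 50, 48, 95, 93, 94, 120, 121, 122, 117, 118, 119, 102, 103, 104, 126, 127, 128, 18, 19, 20, 114, 115, 116, 89, 87, 88, 96, 97, 98, 22, 23, 21, 75, 76, 77, 124, 125, 123, 59, 57, 58, 69, 70, 71, 54, 55, 56, 131, 129, 130, 113, 111, 112, 110, 108, 109, 73, 74, 72, 101, 99, 100, 63, 64, 65, 29, 27, 28, 51, 52, 53, 35, 33, 34, 91, 92, 90, 139, 140, 138, 161, 159, 160, 136, 137, 135, 146, 144, 145, 8, 6, 7, 9, 10, 11, 162, 163, 164, 134, 132, 133, 13, 14, 12, 4, 5, 3, 143, 141, 142, 45, 46, 47, 83, 81, 82, 105, 106, 107, 86, 84, 85, 68, 66, 67,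 42, 43, 44, 80, 78, 79, 61, 62, 60, 36, 37, 38, 24, 25, 26, 39, 40, 41]
def ptL : List ℕ := [129, 130, 131, 144, 145, 146, 81, 82, 83, 142, 143, 141, 18, 19, 20, 110, 108, 109, 12, 13, 14, 21, 22, 23, 34, 35, 33, 47, 45, 46, 125, 123, 124, 26, 24, 25, 54, 55, 56, 154, 155, 153, 63, 64, 65, 28, 29, 27, 52, 53, 51, 50, 48, 49, 36, 37, 38, 119, 117, 118, 163, 164, 162, 42, 43, 44, 126, 127, 128, 147, 148, 149, 139, 140, 138, 156, 157, 158, 107, 105, 106, 6, 7, 8, 114, 115, 116, 87, 88, 89, 98, 96, 97, 93, 94, 95, 91, 92, 90, 113, 111, 112, 161, 159, 160, 79, 80, 78, 16, 17, 15, 100, 101, 99, 84, 85, 86, 58, 59, 57, 134, 132, 133, 31, 32, 30, 66, 67, 68, 0, 1, 2, 121, 122, 120, 151, 152, 150, 74, 72, 73, 11, 9, 10, 3, 4, 5, 69, 70, 71, 137, 135, 136, 41, 39, 40, 75, 76, 77, 103, 104, 102, 62, 60, 61]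

theorem x4_sig : ∀ i < 165, pxL.getD i 0 < 165 ∧ Matrix.mulVec x4 (sig i) = sig (pxL.getD i 0) := by decide
theorem y4_sig : ∀ i < 165, pyL.getD i 0 < 165 ∧ Matrix.mulVec y4 (sig i) = sig (pyL.getD i 0) := by decide
theorem t4_sig : ∀ i < 165, ptL.getD i 0 < 165 ∧ Matrix.mulVec t4 (sig i) = sig (ptL.getD i 0) := by decide
theorem g4_sig : ∀ j < 165, Matrix.mulVec g4 (sig 0) ≠ sig j := by decide

def g4p2 : Matrix (Fin 5) (Fin 5) F4 := !![z, z, z, o, z; z, z, z, z, o; o, z, z, z, z; z, o, z, z, z; z, z, o, z, z]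
def g4p4 : Matrix (Fin 5) (Fin 5) F4 := !![z, o, z, z, z; z, z, o, z, z; z, z, z, o, z; z, z, z, z, o; o, z, z, z, z]
theorem g4_mul_1 : g4 * g4 = g4p2 := by decide
theorem g4_mul_2 : g4p2 * g4p2 = g4p4 := by decide
theorem g4_mul_3 : g4p4 * g4 = 1 := by decide

theorem x4_pow4 : x4 ^ 4 = x4p4 := by
  have h2 : x4 ^ 2 = x4p2 := by rw [pow_two, x4_mul_1]
  rw [show 4 = 2 * 2 from rfl, pow_mul, h2, pow_two, x4_mul_2]

theorem x4_pow10 : x4 ^ 10 = x4p10 := by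
  have h2 : x4 ^ 2 = x4p2 := by rw [pow_two, x4_mul_1]
  have h8 : x4 ^ 8 = x4p8 := by rw [show 8 = 4 * 2 from rfl, pow_mul, x4_pow4, pow_two, x4_mul_3]
  rw [show 10 = 8 + 2 from rfl, pow_add, h8, h2, x4_mul_4]

theorem x4_pow11 : x4 ^ 11 = 1 := by
  rw [show 11 = 10 + 1 from rfl, pow_add, x4_pow10, pow_one, x4_mul_5]

theorem y4_pow4 : y4 ^ 4 = y4p4 := by
  have h2 : y4 ^ 2 = y4p2 := by rw [pow_two, y4_mul_1]
  rw [show 4 = 2 * 2 from rfl, pow_mul, h2, pow_two, y4_mul_2]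

theorem y4_pow5 : y4 ^ 5 = 1 := by
  rw [pow_succ, y4_pow4, y4_mul_3]

theorem g4_pow4 : g4 ^ 4 = g4p4 := by
  have h2 : g4 ^ 2 = g4p2 := by rw [pow_two, g4_mul_1]
  rw [show 4 = 2 * 2 from rfl, pow_mul, h2, pow_two, g4_mul_2]

theorem g4_pow5 : g4 ^ 5 = 1 := by
  rw [pow_succ, g4_pow4, g4_mul_3]

theorem t4_pow2 : t4 ^ 2 = 1 := by rw [pow_two, t4_mul]

theorem u4_eq' : t4 * x4 * t4 = u4 := by rw [tx4_eq, u4_eq]

theorem sig_zero_mem : sig 0 = sigL.getD 0 0 := rfl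

end Cfsg.Agent.Helper64.SU5
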