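import Mathlib
import Cfsg.Agent.Helper64.Basic

set_option autoImplicit false

namespace Cfsg.Agent.Helper64

variable {G : Type*} [Group G]

/-- A pair of distinct Sylow subgroups whose intersection has the largest order. -/
theorem exists_max_inter [Finite G] {p : ℕ} (h : ∃ P Q : Sylow p G, P ≠ Q) :
    ∃ P Q : Sylow p G, P ≠ Q ∧ ∀ P' Q' : Sylow p G, P' ≠ Q' →
      Nat.card ((P' : Subgroup G) ⊓ Q' : Subgroup G) ≤ Nat.card ((P : Subgroup G) ⊓ Q : Subgroup G) := by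
  classical
  let S : Set ℕ := {n | ∃ P Q : Sylow p G, P ≠ Q ∧ Nat.card ((P : Subgroup G) ⊓ Q : Subgroup G) = n}
  have hne : S.Nonempty := by
    obtain ⟨P, Q, hPQ⟩ := h
    exact ⟨_, P, Q, hPQ, rfl⟩
  have hbdd : BddAbove S := by
    refine ⟨Nat.card G, ?_⟩
    rintro n ⟨P, Q, -, rfl⟩
    exact Subgroup.card_le_card_group _
  obtain ⟨P, Q, hPQ, hcard⟩ := Nat.sSup_mem hne hbdd
  refine ⟨P, Q, hPQ, fun P' Q' hPQ' => ?_⟩
  rw [hcard]
  exact le_csSup hbdd ⟨P', Q', hPQ', rfl⟩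

/-- No `p`-subgroup containing the maximal intersection `D = P ⊓ Q` can meet both `P` and `Q`
outside `D`. -/
theorem not_both_of_max_inter [Finite G] {p : ℕ} [Fact p.Prime] {P Q : Sylow p G} (hPQ : P ≠ Q)
    (hmax : ∀ P' Q' : Sylow p G, P' ≠ Q' →
      Nat.card ((P' : Subgroup G) ⊓ Q' : Subgroup G) ≤ Nat.card ((P : Subgroup G) ⊓ Q : Subgroup G))
    {S : Subgroup G} (hS : IsPGroup p S) (hD : (P : Subgroup G) ⊓ Q ≤ S)
    {x y : G} (hxS : x ∈ S) (hxP : x ∈ (P : Subgroup G)) (hxQ : x ∉ (Q : Subgroup G))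
    (hyS : y ∈ S) (hyQ : y ∈ (Q : Subgroup G)) (hyP : y ∉ (P : Subgroup G)) : False := by
  obtain ⟨T, hT⟩ := hS.exists_le_sylow
  have hTP : T = P := by
    by_contra hne
    have h1 := hmax T P hne
    have hle : (P : Subgroup G) ⊓ Q ≤ (T : Subgroup G) ⊓ P := le_inf (hD.trans hT) inf_le_left
    have heq := Subgroup.eq_of_le_of_card_ge hle h1
    have hx : x ∈ (T : Subgroup G) ⊓ P := ⟨hT hxS, hxP⟩
    rw [← heq] at hx
    exact hxQ hx.2
  have hTQ : T = Q := by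
    by_contra hne
    have h1 := hmax T Q hne
    have hle : (P : Subgroup G) ⊓ Q ≤ (T : Subgroup G) ⊓ Q := le_inf (hD.trans hT) inf_le_right
    have hcard : Nat.card ((T : Subgroup G) ⊓ Q : Subgroup G) ≤ Nat.card ((P : Subgroup G) ⊓ Q : Subgroup G) := h1
    have heq := Subgroup.eq_of_le_of_card_ge hle hcard
    have hy : y ∈ (T : Subgroup G) ⊓ Q := ⟨hT hyS, hyQ⟩
    rw [← heq] at hy
    exact hyP hy.1
  exact hPQ (hTP.symm.trans hTQ)

/-- Normalizers grow in a Sylow subgroup: an element of `P` normalizing `D`, outside `D`. -/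
theorem exists_mem_normalizer_not_mem [Finite G] {p : ℕ} [Fact p.Prime] (P : Sylow p G)
    {D : Subgroup G} (hDP : D ≤ P) (hne : D ≠ (P : Subgroup G)) :
    ∃ x ∈ (P : Subgroup G), x ∈ Subgroup.normalizer (D : Set G) ∧ x ∉ D := by
  have hnil : Group.IsNilpotent (P : Subgroup G) := P.2.isNilpotent
  have hnc := @normalizerCondition_of_isNilpotent _ _ hnil
  have hlt : D.subgroupOf (P : Subgroup G) < ⊤ := by
    rw [lt_top_iff_ne_top, Ne, Subgroup.subgroupOf_eq_top]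
    intro h
    exact hne (le_antisymm hDP h)
  have h2 := hnc _ hlt
  rw [← Subgroup.subgroupOf_normalizer_eq hDP] at h2
  obtain ⟨x, hx1, hx2⟩ := SetLike.exists_of_lt h2
  exact ⟨x.1, x.2, hx1, hx2⟩

/-- distinct Sylow subgroups: neither contains the other -/
theorem sylow_inf_ne_left [Finite G] {p : ℕ} [Fact p.Prime] {P Q : Sylow p G} (hPQ : P ≠ Q) :
    (P : Subgroup G) ⊓ Q ≠ (P : Subgroup G) := by
  intro h
  have hle : (P : Subgroup G) ≤ Q := by rw [← h]; exact inf_le_right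
  exact hPQ (Sylow.ext (P.3 Q.2 hle).symm ▸ rfl)

theorem sylow_inf_ne_right [Finite G] {p : ℕ} [Fact p.Prime] {P Q : Sylow p G} (hPQ : P ≠ Q) :
    (P : Subgroup G) ⊓ Q ≠ (Q : Subgroup G) := by
  rw [inf_comm]
  exact sylow_inf_ne_left (Ne.symm hPQ)

/-- an element outside `D` with `p`-th power in `D`, from an element of `p`-power order outside `D` -/
theorem exists_pow_prime_mem {p : ℕ} {D : Subgroup G} {x : G}
    (hx : x ∉ D) (hxp : ∃ k : ℕ, x ^ p ^ k = 1) :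
    ∃ j : ℕ, x ^ p ^ j ∉ D ∧ (x ^ p ^ j) ^ p ∈ D := by
  classical
  have hex : ∃ k : ℕ, x ^ p ^ k ∈ D := by
    obtain ⟨k, hk⟩ := hxp
    exact ⟨k, hk ▸ D.one_mem⟩
  have hfind := Nat.find_spec hex
  have h0 : Nat.find hex ≠ 0 := by
    intro h0
    rw [h0] at hfind
    simp at hfind
    exact hx hfind
  obtain ⟨j, hj⟩ := Nat.exists_eq_succ_of_ne_zero h0
  refine ⟨j, ?_, ?_⟩
  · exact Nat.find_min hex (by rw [hj]; exact Nat.lt_succ_self j)
  · rw [← pow_mul, ← pow_succ, ← Nat.succ_eq_add_one, ← hj]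
    exact hfind

end Cfsg.Agent.Helper64
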